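import Groth.Agent.IsoNat.K862.Fib

/-!
# 2-Yoneda for categories fibred in groupoids

* `objOf y : 𝒳.p.Fiber U` for `y : overCat U ⥤ᵇ 𝒳`, `ofObj x : overCat U ⥤ᵇ 𝒳` for `x : 𝒳.p.Fiber U`;
* `objOfOfObj x : objOf (ofObj x) ⟶ x`;
* `isoOf α : y ≅ y'` for `α : objOf y ⟶ objOf y'`; `homOf e : objOf y ⟶ objOf y'` for `e : y ⟶ y'`;
* `arrAt y g : (objAt y g).1 ⟶ (objOf y).1`, the arrow over `g : T ⟶ U` from the value of `y` at `g`.
-/

set_option autoImplicit false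
set_option linter.unusedSectionVars false
set_option backward.isDefEq.respectTransparency false
set_option backward.isDefEq.respectTransparency.types false

universe v₂ u₂ v u

open CategoryTheory K862.Fib

namespace K862.Yon

variable {C : Type u} [Category.{v} C] {𝒳 : BasedCategory.{v₂, u₂} C} {U : C}

/-- The canonical arrow `g ⟶ 𝟙_U` of `C/U`. -/
def can (g : Over U) : g ⟶ Over.mk (𝟙 U) := Over.homMk g.hom (by simp)

@[simp] theorem can_left (g : Over U) : (can g).left = g.hom := rfl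

theorem comp_can {g g' : Over U} (φ : g ⟶ g') : φ ≫ can g' = can g := by
  ext; simp [can]

/-- The object of the fibre over `U` corresponding to `y`. -/
def objOf (y : FibCat.overCat U ⥤ᵇ 𝒳) : 𝒳.p.Fiber U := ⟨y.obj (Over.mk (𝟙 U)), y.w_obj _⟩

/-- The value of `y` at `g : T ⟶ U` as an object of the fibre over `T`. -/
def objAt (y : FibCat.overCat U ⥤ᵇ 𝒳) {T : C} (g : T ⟶ U) : 𝒳.p.Fiber T :=
  ⟨y.obj (Over.mk g), y.w_obj _⟩

/-- The arrow `y(g) ⟶ y(𝟙)` lying over `g`. -/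
def arrAt (y : FibCat.overCat U ⥤ᵇ 𝒳) {T : C} (g : T ⟶ U) : (objAt y g).1 ⟶ (objOf y).1 :=
  y.map (can (Over.mk g))

theorem overCat_isHomLift {g g' : Over U} (φ : g ⟶ g') :
    (FibCat.overCat U).p.IsHomLift φ.left φ :=
  IsHomLift.map (FibCat.overCat U).p φ

theorem lift_map (y : FibCat.overCat U ⥤ᵇ 𝒳) {g g' : Over U} (φ : g ⟶ g') :
    𝒳.p.IsHomLift φ.left (y.map φ) :=
  haveI := overCat_isHomLift φ
  BasedFunctor.preserves_isHomLift y φ.left φ

instance arrAt_isHomLift (y : FibCat.overCat U ⥤ᵇ 𝒳) {T : C} (g : T ⟶ U) :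
    𝒳.p.IsHomLift g (arrAt y g) :=
  lift_map y (can (Over.mk g))

theorem map_arrAt (y : FibCat.overCat U ⥤ᵇ 𝒳) {g g' : Over U} (φ : g ⟶ g') :
    y.map φ ≫ arrAt y g'.hom = arrAt y g.hom := by
  have := y.toFunctor.map_comp φ (can g')
  rw [comp_can φ] at this
  exact this.symm

/-- The morphism of objects given by a 2-morphism. -/
def homOf {y y' : FibCat.overCat U ⥤ᵇ 𝒳} (e : y ⟶ y') : objOf y ⟶ objOf y' :=
  ⟨e.toNatTrans.app (Over.mk (𝟙 U)), BasedNatTrans.isHomLift e rfl⟩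

/-- The component at `g` of a 2-morphism. -/
def homAt {y y' : FibCat.overCat U ⥤ᵇ 𝒳} (e : y ⟶ y') {T : C} (g : T ⟶ U) :
    objAt y g ⟶ objAt y' g :=
  ⟨e.toNatTrans.app (Over.mk g), BasedNatTrans.isHomLift e rfl⟩

theorem homAt_comp {y y' : FibCat.overCat U ⥤ᵇ 𝒳} (e : y ⟶ y') {T : C} (g : T ⟶ U) :
    (homAt e g).1 ≫ arrAt y' g = arrAt y g ≫ (homOf e).1 :=
  (e.toNatTrans.naturality (can (Over.mk g))).symm

variable [FibCat.IsFibGrpd 𝒳.p]

theorem homAt_eq {y y' : FibCat.overCat U ⥤ᵇ 𝒳} (e : y ⟶ y') {T : C} (g : T ⟶ U) :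
    homAt e g = res g (arrAt y g) (arrAt y' g) (homOf e) :=
  eq_res g _ _ _ _ (homAt_comp e g)

theorem hom_ext {y y' : FibCat.overCat U ⥤ᵇ 𝒳} {e e' : y ⟶ y'} (h : homOf e = homOf e') :
    e = e' := by
  apply BasedNatTrans.homCategory.ext
  ext g
  have := (homAt_eq e g.hom).trans ((congrArg _ h).trans (homAt_eq e' g.hom).symm)
  exact congrArg Subtype.val this

/-- The components of the 2-morphism determined by a morphism of objects. -/
noncomputable def compAt {y y' : FibCat.overCat U ⥤ᵇ 𝒳} (α : objOf y ⟶ objOf y') {T : C}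
    (g : T ⟶ U) : objAt y g ⟶ objAt y' g :=
  res g (arrAt y g) (arrAt y' g) α

theorem compAt_nat {y y' : FibCat.overCat U ⥤ᵇ 𝒳} (α : objOf y ⟶ objOf y') {g g' : Over U}
    (φ : g ⟶ g') :
    y.map φ ≫ (compAt α g'.hom).1 = (compAt α g.hom).1 ≫ y'.map φ := by
  have h1 : 𝒳.p.IsHomLift φ.left (y.map φ) := lift_map y φ
  have h2 : 𝒳.p.IsHomLift φ.left (y'.map φ) := lift_map y' φ
  have i1 : 𝒳.p.IsHomLift φ.left (y.map φ ≫ (compAt α g'.hom).1) :=
    IsHomLift.comp_lift_id_right 𝒳.p φ.left (y.map φ) (compAt α g'.hom).1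
  have i2 : 𝒳.p.IsHomLift φ.left ((compAt α g.hom).1 ≫ y'.map φ) :=
    IsHomLift.comp_lift_id_left 𝒳.p φ.left (y'.map φ) (compAt α g.hom).1
  refine cancel (p := 𝒳.p) g'.hom φ.left (arrAt y' g'.hom) ?_
  have e1 : (compAt α g.hom).1 ≫ arrAt y' g.hom = arrAt y g.hom ≫ α.1 := res_comp g.hom _ _ α
  have e2 : (compAt α g'.hom).1 ≫ arrAt y' g'.hom = arrAt y g'.hom ≫ α.1 := res_comp g'.hom _ _ α
  calc (y.map φ ≫ (compAt α g'.hom).1) ≫ arrAt y' g'.hom
      = y.map φ ≫ (compAt α g'.hom).1 ≫ arrAt y' g'.hom := Category.assoc _ _ _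
    _ = y.map φ ≫ arrAt y g'.hom ≫ α.1 := by rw [e2]
    _ = (y.map φ ≫ arrAt y g'.hom) ≫ α.1 := (Category.assoc _ _ _).symm
    _ = arrAt y g.hom ≫ α.1 := by rw [map_arrAt]
    _ = (compAt α g.hom).1 ≫ arrAt y' g.hom := e1.symm
    _ = (compAt α g.hom).1 ≫ y'.map φ ≫ arrAt y' g'.hom :=
      congrArg ((compAt α g.hom).1 ≫ ·) (map_arrAt y' φ).symm
    _ = ((compAt α g.hom).1 ≫ y'.map φ) ≫ arrAt y' g'.hom := (Category.assoc _ _ _).symm

/-- The 2-morphism determined by a morphism between the objects. -/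
noncomputable def natOf {y y' : FibCat.overCat U ⥤ᵇ 𝒳} (α : objOf y ⟶ objOf y') : y ⟶ y' where
  app g := (compAt α g.hom).1
  naturality _ _ φ := compAt_nat α φ
  isHomLift' g := (compAt α g.hom).2

@[simp] theorem homOf_natOf {y y' : FibCat.overCat U ⥤ᵇ 𝒳} (α : objOf y ⟶ objOf y') :
    homOf (natOf α) = α := by
  apply hom_ext'
  have h1 : arrAt y (𝟙 U) = 𝟙 _ := by
    have : can (Over.mk (𝟙 U)) = 𝟙 _ := by ext; simp [can]
    unfold arrAt
    rw [this]; exact y.toFunctor.map_id _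
  have h2 : arrAt y' (𝟙 U) = 𝟙 _ := by
    have : can (Over.mk (𝟙 U)) = 𝟙 _ := by ext; simp [can]
    unfold arrAt
    rw [this]; exact y'.toFunctor.map_id _
  have e1 : (compAt α (𝟙 U)).1 ≫ arrAt y' (𝟙 U) = arrAt y (𝟙 U) ≫ α.1 := res_comp (𝟙 U) _ _ α
  rw [h1, h2] at e1
  exact ((Category.comp_id _).symm.trans e1).trans (Category.id_comp _)

/-- The 2-isomorphism determined by a morphism between the objects. -/
noncomputable def isoOf {y y' : FibCat.overCat U ⥤ᵇ 𝒳} (α : objOf y ⟶ objOf y') : y ≅ y' where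
  hom := natOf α
  inv := natOf (inv α)
  hom_inv_id := hom_ext (by
    change homOf (natOf α) ≫ homOf (natOf (inv α)) = 𝟙 _
    simp)
  inv_hom_id := hom_ext (by
    change homOf (natOf (inv α)) ≫ homOf (natOf α) = 𝟙 _
    simp)

@[simp] theorem homOf_isoOf {y y' : FibCat.overCat U ⥤ᵇ 𝒳} (α : objOf y ⟶ objOf y') :
    homOf (isoOf α).hom = α := homOf_natOf α

/-- The based functor `C/U ⟶ 𝒳` attached to an object over `U`. -/
noncomputable def ofObj (x : 𝒳.p.Fiber U) : FibCat.overCat U ⥤ᵇ 𝒳 where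
  toFunctor :=
    { obj := fun g => (pull g.hom x).1
      map := fun {g g'} φ => fill 𝒳.p g'.hom φ.left (Over.w φ).symm (pullHom g'.hom x) (pullHom g.hom x)
      map_id := fun g => by
        have : 𝒳.p.IsHomLift (Over.Hom.left (𝟙 g)) (𝟙 (pull g.hom x).1) := IsHomLift.id (pull g.hom x).2
        exact (fill_uniq (p := 𝒳.p) g.hom (Over.Hom.left (𝟙 g)) (Over.w (𝟙 g)).symm _ _ (𝟙 _)
          (Category.id_comp _)).symm
      map_comp := fun {g g' g''} φ ψ => by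
        symm
        have : 𝒳.p.IsHomLift (Over.Hom.left (φ ≫ ψ)) (fill 𝒳.p g'.hom φ.left (Over.w φ).symm
            (pullHom g'.hom x) (pullHom g.hom x) ≫ fill 𝒳.p g''.hom ψ.left (Over.w ψ).symm
            (pullHom g''.hom x) (pullHom g'.hom x)) :=
          IsHomLift.comp 𝒳.p φ.left ψ.left _ _
        apply fill_uniq (p := 𝒳.p) g''.hom (Over.Hom.left (φ ≫ ψ)) (Over.w (φ ≫ ψ)).symm
        rw [Category.assoc, fill_comp, fill_comp] }
  w := Functor.ext (fun g => (pull g.hom x).2) (fun g g' φ =>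
    IsHomLift.fac' 𝒳.p φ.left (fill 𝒳.p g'.hom φ.left (Over.w φ).symm (pullHom g'.hom x)
      (pullHom g.hom x)))

theorem objAt_ofObj (x : 𝒳.p.Fiber U) {T : C} (g : T ⟶ U) : objAt (ofObj x) g = pull g x := rfl

/-- The comparison `objOf (ofObj x) ⟶ x`. -/
noncomputable def objOfOfObj (x : 𝒳.p.Fiber U) : objOf (ofObj x) ⟶ x :=
  ⟨pullHom (𝟙 U) x, pullHom_isHomLift (𝟙 U) x⟩

/-- Every based functor from a slice is 2-isomorphic to the one attached to its object. -/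
noncomputable def ofObjObjOf (y : FibCat.overCat U ⥤ᵇ 𝒳) : ofObj (objOf y) ≅ y :=
  isoOf (objOfOfObj (objOf y))

end K862.Yon
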