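import Groth.Agent.IsoNat.K862.SpRep
import Groth.Agent.IsoNat.K862.Yon

/-!
# `AlgSt.RepByAlgSpWith P f`, elementwise

For `f : 𝒳 ⥤ᵇ 𝒴` and an object `t` of `𝒴` over `T`, `FRep f t F` says that the sheaf `F` is
`T ×_𝒴 𝒳`: a section of `F` over `T'` is a class of triples `(g, x, b)` with `g : T' ⟶ T`, `x` an
object of `𝒳` over `T'` and `b : f x ⟶ t` an arrow over `g`.
* `exists_fRep` : `RepByAlgSpWith P f` gives `FRep f t F` with `F` an algebraic space and `P π`;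
* `repByAlgSpWith_of_fRep` : the converse.
-/

set_option autoImplicit false
set_option linter.unusedSectionVars false
set_option backward.isDefEq.respectTransparency false
set_option backward.isDefEq.respectTransparency.types false

universe u

open CategoryTheory CategoryTheory.Limits AlgebraicGeometry Opposite K862.Fib K862.Yon

namespace K862

variable {S : Scheme.{u}} {𝒳 𝒴 : AlgSt.Cat S}

/-- The sheaf `F` with its map `π` to `h_T` is the fibre product `T ×_𝒴 𝒳`. -/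
structure FRep (f : 𝒳 ⥤ᵇ 𝒴) {T : Over S} (t : 𝒴.p.Fiber T) (F : AlgSp.Sp S) where
  /-- the projection to `T` -/
  π : F ⟶ (AlgSp.yon S).obj T
  /-- the section attached to a triple -/
  sec : ∀ {T' : Over S} (g : T' ⟶ T) (x : 𝒳.p.Fiber T') (b : f.obj x.1 ⟶ t.1),
    𝒴.p.IsHomLift g b → F.obj.obj (op T')
  sec_π : ∀ {T' : Over S} (g : T' ⟶ T) (x : 𝒳.p.Fiber T') (b : f.obj x.1 ⟶ t.1)
    (hb : 𝒴.p.IsHomLift g b), π.hom.app (op T') (sec g x b hb) = ⟨g⟩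
  sec_surj : ∀ {T' : Over S} (s : F.obj.obj (op T')), ∃ (g : T' ⟶ T) (x : 𝒳.p.Fiber T')
    (b : f.obj x.1 ⟶ t.1) (hb : 𝒴.p.IsHomLift g b), sec g x b hb = s
  sec_eq_iff : ∀ {T' : Over S} (g g' : T' ⟶ T) (x x' : 𝒳.p.Fiber T') (b : f.obj x.1 ⟶ t.1)
    (b' : f.obj x'.1 ⟶ t.1) (hb : 𝒴.p.IsHomLift g b) (hb' : 𝒴.p.IsHomLift g' b'),
    sec g x b hb = sec g' x' b' hb' ↔ ∃ θ : x ⟶ x', f.map θ.1 ≫ b' = b
  sec_map : ∀ {T' T'' : Over S} (h : T'' ⟶ T') (g : T' ⟶ T) (x'' : 𝒳.p.Fiber T'')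
    (x : 𝒳.p.Fiber T') (c : x''.1 ⟶ x.1) (b : f.obj x.1 ⟶ t.1) (_ : 𝒳.p.IsHomLift h c)
    (hb : 𝒴.p.IsHomLift g b) (hcb : 𝒴.p.IsHomLift (h ≫ g) (f.map c ≫ b)),
    F.obj.map h.op (sec g x b hb) = sec (h ≫ g) x'' (f.map c ≫ b) hcb
  uniq : ∀ {T' : Over S} (g' : T' ⟶ T) (x x' : 𝒳.p.Fiber T') (θ θ' : x ⟶ x')
    (b' : f.obj x'.1 ⟶ t.1), 𝒴.p.IsHomLift g' b' → f.map θ.1 ≫ b' = f.map θ'.1 ≫ b' → θ = θ'

namespace FRep

variable {f : 𝒳 ⥤ᵇ 𝒴} {T : Over S} {t : 𝒴.p.Fiber T} {F : AlgSp.Sp S}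

theorem sec_congr (R : FRep f t F) {T' : Over S} {g g' : T' ⟶ T} {x : 𝒳.p.Fiber T'}
    {b b' : f.obj x.1 ⟶ t.1} (hb : 𝒴.p.IsHomLift g b) (hb' : 𝒴.p.IsHomLift g' b') (h : b = b') :
    R.sec g x b hb = R.sec g' x b' hb' := by
  subst h
  rw [R.sec_eq_iff]
  exact ⟨𝟙 x, by rw [id_val, f.toFunctor.map_id, Category.id_comp]⟩

/-- Transport of a representation along a morphism of the target object. -/
noncomputable def trans [FibCat.IsFibGrpd 𝒴.p] (R : FRep f t F) {t' : 𝒴.p.Fiber T} (α : t ⟶ t') :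
    FRep f t' F where
  π := R.π
  sec g x b hb := R.sec g x (b ≫ (inv α).1) (IsHomLift.comp_lift_id_right 𝒴.p g b (inv α).1)
  sec_π g x b hb := R.sec_π g x _ _
  sec_surj s := by
    obtain ⟨g, x, b, hb, rfl⟩ := R.sec_surj s
    refine ⟨g, x, b ≫ α.1, IsHomLift.comp_lift_id_right 𝒴.p g b α.1, ?_⟩
    apply R.sec_congr
    rw [Category.assoc, ← comp_val, IsIso.hom_inv_id, id_val, Category.comp_id]
  sec_eq_iff g g' x x' b b' hb hb' := by
    rw [R.sec_eq_iff]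
    refine exists_congr fun θ => ?_
    rw [← Category.assoc, cancel_mono]
  sec_map h g x'' x c b hc hb hcb := by
    rw [R.sec_map h g x'' x c (b ≫ (inv α).1) hc _ (by
      have : 𝒴.p.IsHomLift g (b ≫ (inv α).1) := IsHomLift.comp_lift_id_right 𝒴.p g b (inv α).1
      have : 𝒴.p.IsHomLift h (f.map c) := BasedFunctor.preserves_isHomLift f h c
      infer_instance)]
    apply R.sec_congr
    rw [Category.assoc]
  uniq g' x x' θ θ' b' hb' h := by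
    refine R.uniq g' x x' θ θ' (b' ≫ (inv α).1)
      (IsHomLift.comp_lift_id_right 𝒴.p g' b' (inv α).1) ?_
    rw [← Category.assoc, ← Category.assoc, h]

end FRep

section fp

variable {T : Over S} (y : FibCat.overCat T ⥤ᵇ 𝒴) (f : 𝒳 ⥤ᵇ 𝒴)

variable {y f}

/-- The morphism to `T` attached to an object of `(Sch/T) ×_𝒴 𝒳` over `T'`. -/
def fstHom {T' : Over S} (z : (FibCat.fp y f).p.Fiber T') : T' ⟶ T :=
  eqToHom z.2.symm ≫ (z.1.obj.fst : Over T).hom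

theorem comp_fstHom {T' T'' : Over S} {z' : (FibCat.fp y f).p.Fiber T''}
    {z : (FibCat.fp y f).p.Fiber T'} (h : T'' ⟶ T') (c : z'.1 ⟶ z.1)
    (hc : (FibCat.fp y f).p.IsHomLift h c) : h ≫ fstHom z = fstHom z' := by
  obtain ⟨z, rfl⟩ := z
  obtain ⟨z', rfl⟩ := z'
  have := IsHomLift.eq_of_isHomLift (FibCat.fp y f).p h c
  subst this
  have h2 : Over.Hom.left c.hom.fst ≫ (z.obj.fst : Over T).hom = (z'.obj.fst : Over T).hom :=
    Over.w c.hom.fst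
  simp only [fstHom, eqToHom_refl, Category.id_comp]
  exact h2

/-- The second component as an object of the fibre. -/
def sndObj {T' : Over S} (z : (FibCat.fp y f).p.Fiber T') : 𝒳.p.Fiber T' :=
  ⟨z.1.obj.snd, ((FibCat.fpSnd y f).w_obj z.1).trans z.2⟩

/-- The arrow `f x ⟶ y(𝟙)` attached to an object of the 2-fibre product. -/
def sndArr {T' : Over S} (z : (FibCat.fp y f).p.Fiber T') :
    f.obj (sndObj z).1 ⟶ (objOf y).1 :=
  z.1.obj.iso.inv ≫ y.map (can (z.1.obj.fst : Over T))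

theorem sndArr_lift {T' : Over S} (z : (FibCat.fp y f).p.Fiber T') :
    𝒴.p.IsHomLift (fstHom z) (sndArr z) := by
  obtain ⟨z, rfl⟩ := z
  have h1 : 𝒴.p.IsHomLift (𝟙 ((FibCat.fp y f).p.obj z)) z.obj.iso.hom := z.property
  have h2 : 𝒴.p.IsHomLift (z.obj.fst : Over T).hom (y.map (can (z.obj.fst : Over T))) :=
    lift_map y (can (z.obj.fst : Over T))
  have h3 : 𝒴.p.IsHomLift (𝟙 ((FibCat.fp y f).p.obj z)) z.obj.iso.inv :=
    IsHomLift.lift_id_inv 𝒴.p _ z.obj.iso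
  simp only [fstHom, eqToHom_refl, Category.id_comp]
  exact IsHomLift.comp_lift_id_left 𝒴.p _ _ _

theorem map_snd_sndArr {T' T'' : Over S} {z' : (FibCat.fp y f).p.Fiber T''}
    {z : (FibCat.fp y f).p.Fiber T'} (c : z'.1 ⟶ z.1) :
    f.map c.hom.snd ≫ sndArr z = sndArr z' := by
  have w : y.map c.hom.fst ≫ z.1.obj.iso.hom = z'.1.obj.iso.hom ≫ f.map c.hom.snd := c.hom.w
  have w' : f.map c.hom.snd ≫ z.1.obj.iso.inv = z'.1.obj.iso.inv ≫ y.map c.hom.fst := by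
    rw [Iso.comp_inv_eq, Category.assoc, w, Iso.inv_hom_id_assoc]
  change f.map c.hom.snd ≫ z.1.obj.iso.inv ≫ y.map (can (z.1.obj.fst : Over T)) =
    z'.1.obj.iso.inv ≫ y.map (can (z'.1.obj.fst : Over T))
  rw [← Category.assoc, w', Category.assoc, ← y.toFunctor.map_comp, comp_can]

theorem snd_lift {T' T'' : Over S} {z' : (FibCat.fp y f).p.Fiber T''}
    {z : (FibCat.fp y f).p.Fiber T'} (h : T'' ⟶ T') (c : z'.1 ⟶ z.1)
    (hc : (FibCat.fp y f).p.IsHomLift h c) : 𝒳.p.IsHomLift h c.hom.snd :=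
  BasedFunctor.preserves_isHomLift (FibCat.fpSnd y f) h c

variable [FibCat.IsFibGrpd 𝒳.p] [FibCat.IsFibGrpd 𝒴.p]

/-- The image of a fibre object under a based functor. -/
def fibObj (f : 𝒳 ⥤ᵇ 𝒴) {T' : Over S} (x : 𝒳.p.Fiber T') : 𝒴.p.Fiber T' :=
  ⟨f.obj x.1, (f.w_obj x.1).trans x.2⟩

/-- The comparison `f x ⟶ y(g)` attached to `b : f x ⟶ y(𝟙)` over `g`. -/
noncomputable def cmpArr {T' : Over S} (g : T' ⟶ T) (x : 𝒳.p.Fiber T')
    (b : (fibObj f x).1 ⟶ (objOf y).1) (hb : 𝒴.p.IsHomLift g b) : fibObj f x ⟶ objAt y g :=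
  cmpHom (p := 𝒴.p) g b (arrAt y g)

theorem cmpArr_comp {T' : Over S} (g : T' ⟶ T) (x : 𝒳.p.Fiber T')
    (b : (fibObj f x).1 ⟶ (objOf y).1) (hb : 𝒴.p.IsHomLift g b) :
    (cmpArr g x b hb).1 ≫ arrAt y g = b :=
  cmp_comp (p := 𝒴.p) g b (arrAt y g)

/-- The object of the 2-fibre product attached to a triple. -/
noncomputable def tripleObj {T' : Over S} (g : T' ⟶ T) (x : 𝒳.p.Fiber T')
    (b : f.obj x.1 ⟶ (objOf y).1) (hb : 𝒴.p.IsHomLift g b) : (FibCat.fp y f).p.Fiber T' :=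
  ⟨Fp.mkObj y f (Over.mk g) x.1
    ((Functor.Fiber.fiberInclusion (p := 𝒴.p) (S := T')).mapIso
      (asIso (cmpArr g x b hb))).symm
    (haveI : 𝒴.p.IsHomLift (𝟙 T') ((Functor.Fiber.fiberInclusion (p := 𝒴.p) (S := T')).mapIso
      (asIso (cmpArr g x b hb))).hom := (cmpArr g x b hb).2
    IsHomLift.lift_id_inv 𝒴.p T' _), rfl⟩

theorem fstHom_tripleObj {T' : Over S} (g : T' ⟶ T) (x : 𝒳.p.Fiber T')
    (b : f.obj x.1 ⟶ (objOf y).1) (hb : 𝒴.p.IsHomLift g b) :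
    fstHom (tripleObj g x b hb) = g := by
  simp only [fstHom, eqToHom_refl, Category.id_comp]
  rfl

theorem sndObj_tripleObj {T' : Over S} (g : T' ⟶ T) (x : 𝒳.p.Fiber T')
    (b : f.obj x.1 ⟶ (objOf y).1) (hb : 𝒴.p.IsHomLift g b) :
    sndObj (tripleObj g x b hb) = x := rfl

theorem sndArr_tripleObj {T' : Over S} (g : T' ⟶ T) (x : 𝒳.p.Fiber T')
    (b : f.obj x.1 ⟶ (objOf y).1) (hb : 𝒴.p.IsHomLift g b) :
    sndArr (tripleObj g x b hb) = b :=
  cmpArr_comp g x b hb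

/-- Morphisms of the 2-fibre product over `h` are morphisms of the second components compatible
with the arrows. -/
theorem exists_arr_fp {T' T'' : Over S} {z' : (FibCat.fp y f).p.Fiber T''}
    {z : (FibCat.fp y f).p.Fiber T'} (h : T'' ⟶ T') (c : (sndObj z').1 ⟶ (sndObj z).1)
    (hc : 𝒳.p.IsHomLift h c) (e : f.map c ≫ sndArr z = sndArr z') :
    ∃ d : z'.1 ⟶ z.1, (FibCat.fp y f).p.IsHomLift h d ∧ d.hom.snd = c := by
  have l1 := sndArr_lift z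
  have l2 := sndArr_lift z'
  have l3 : 𝒴.p.IsHomLift h (f.map c) := BasedFunctor.preserves_isHomLift f h c
  have hh : h ≫ fstHom z = fstHom z' := by
    have : 𝒴.p.IsHomLift (h ≫ fstHom z) (sndArr z') := by
      rw [← e]; exact IsHomLift.comp 𝒴.p h (fstHom z) _ _
    exact eq_of_lift 𝒴.p _ this l2
  obtain ⟨z, rfl⟩ := z
  obtain ⟨z', rfl⟩ := z'
  simp only [fstHom, eqToHom_refl, Category.id_comp] at hh l1 l2
  let a : (z'.obj.fst : Over T) ⟶ z.obj.fst := Over.homMk h hh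
  have la : 𝒴.p.IsHomLift h (y.map a) := lift_map y a
  have lz : 𝒴.p.IsHomLift (𝟙 ((FibCat.fp y f).p.obj z)) z.obj.iso.hom := z.property
  have lz' : 𝒴.p.IsHomLift (𝟙 ((FibCat.fp y f).p.obj z')) z'.obj.iso.hom := z'.property
  have w : y.map a ≫ z.obj.iso.hom = z'.obj.iso.hom ≫ f.map c := by
    have m1 : 𝒴.p.IsHomLift h (y.map a ≫ z.obj.iso.hom) :=
      IsHomLift.comp_lift_id_right 𝒴.p h (y.map a) z.obj.iso.hom
    have m2 : 𝒴.p.IsHomLift h (z'.obj.iso.hom ≫ f.map c) :=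
      IsHomLift.comp_lift_id_left 𝒴.p h (f.map c) z'.obj.iso.hom
    refine cancel (p := 𝒴.p) (z.obj.fst : Over T).hom h (sndArr ⟨z, rfl⟩) ?_
    rw [Category.assoc, Category.assoc, e]
    change y.map a ≫ z.obj.iso.hom ≫ z.obj.iso.inv ≫ y.map (can (z.obj.fst : Over T)) =
      z'.obj.iso.hom ≫ z'.obj.iso.inv ≫ y.map (can (z'.obj.fst : Over T))
    rw [Iso.hom_inv_id_assoc, Iso.hom_inv_id_assoc, ← y.toFunctor.map_comp, comp_can]
  refine ⟨Fp.mkHom (z := z') (z' := z) a c w, ?_, rfl⟩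
  exact IsHomLift.map (FibCat.fp y f).p (Fp.mkHom (z := z') (z' := z) a c w)

theorem fp_arr_ext {T' T'' : Over S} {z' : (FibCat.fp y f).p.Fiber T''}
    {z : (FibCat.fp y f).p.Fiber T'} (h : T'' ⟶ T') {d d' : z'.1 ⟶ z.1}
    (hd : (FibCat.fp y f).p.IsHomLift h d) (hd' : (FibCat.fp y f).p.IsHomLift h d')
    (e : d.hom.snd = d'.hom.snd) : d = d' := by
  obtain ⟨z, rfl⟩ := z
  obtain ⟨z', rfl⟩ := z'
  refine Fp.fp_hom_ext ?_ e
  have h1 := IsHomLift.eq_of_isHomLift (FibCat.fp y f).p h d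
  have h2 := IsHomLift.eq_of_isHomLift (FibCat.fp y f).p h d'
  exact Over.OverMorphism.ext (h1.symm.trans h2)

section

variable {F : AlgSp.Sp S}

/-- From a representation of the 2-fibre product to the elementwise form. -/
noncomputable def FRep.ofSpRep (R : SpRep (FibCat.fp y f) F) (π : F ⟶ (AlgSp.yon S).obj T)
    (hπ : ∀ {T' : Over S} (z : (FibCat.fp y f).p.Fiber T'),
      π.hom.app (op T') (R.sec z) = ⟨fstHom z⟩) : FRep f (objOf y) F where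
  π := π
  sec g x b hb := R.sec (tripleObj g x b hb)
  sec_π g x b hb := by rw [hπ, fstHom_tripleObj]
  sec_surj s := by
    obtain ⟨z, rfl⟩ := R.sec_surj s
    refine ⟨fstHom z, sndObj z, sndArr z, sndArr_lift z, ?_⟩
    rw [R.sec_eq_iff]
    obtain ⟨d, hd, -⟩ := exists_arr_fp (z' := tripleObj (fstHom z) (sndObj z) (sndArr z)
      (sndArr_lift z)) (z := z) (𝟙 _) (𝟙 _) (IsHomLift.id (sndObj z).2) (by
        rw [sndArr_tripleObj]
        erw [f.toFunctor.map_id]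
        exact Category.id_comp _)
    exact ⟨⟨d, hd⟩⟩
  sec_eq_iff g g' x x' b b' hb hb' := by
    rw [R.sec_eq_iff]
    constructor
    · rintro ⟨d⟩
      refine ⟨⟨d.1.hom.snd, snd_lift (𝟙 _) d.1 d.2⟩, ?_⟩
      have := map_snd_sndArr d.1
      rw [sndArr_tripleObj, sndArr_tripleObj] at this
      exact this
    · rintro ⟨θ, hθ⟩
      obtain ⟨d, hd, -⟩ := exists_arr_fp (z' := tripleObj g x b hb) (z := tripleObj g' x' b' hb')
        (𝟙 _) θ.1 θ.2 (by rw [sndArr_tripleObj, sndArr_tripleObj]; exact hθ)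
      exact ⟨⟨d, hd⟩⟩
  sec_map h g x'' x c b hc hb hcb := by
    obtain ⟨d, hd, -⟩ := exists_arr_fp (z' := tripleObj (h ≫ g) x'' (f.map c ≫ b) hcb)
      (z := tripleObj g x b hb) h c hc (by rw [sndArr_tripleObj, sndArr_tripleObj])
    exact (R.sec_map h _ _ d hd).symm
  uniq {T'} g' x x' θ θ' b' hb' e := by
    have lb : 𝒴.p.IsHomLift g' (f.map θ.1 ≫ b') := by
      have : 𝒴.p.IsHomLift (𝟙 T') (f.map θ.1) :=
        haveI := θ.2
        BasedFunctor.preserves_isHomLift f (𝟙 T') θ.1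
      exact IsHomLift.comp_lift_id_left 𝒴.p g' _ _
    obtain ⟨d, hd, hd'⟩ := exists_arr_fp (z' := tripleObj g' x (f.map θ.1 ≫ b') lb)
      (z := tripleObj g' x' b' hb') (𝟙 _) θ.1 θ.2 (by rw [sndArr_tripleObj, sndArr_tripleObj])
    obtain ⟨d₂, hd₂, hd₂'⟩ := exists_arr_fp (z' := tripleObj g' x (f.map θ.1 ≫ b') lb)
      (z := tripleObj g' x' b' hb') (𝟙 _) θ'.1 θ'.2
      (by rw [sndArr_tripleObj, sndArr_tripleObj]; exact e.symm)
    have := R.thin ⟨d, hd⟩ ⟨d₂, hd₂⟩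
    have h3 : d = d₂ := congrArg Subtype.val this
    apply hom_ext'
    rw [← hd', ← hd₂', h3]

/-- From the elementwise form to a representation of the 2-fibre product. -/
noncomputable def FRep.toSpRep (R : FRep f (objOf y) F) : SpRep (FibCat.fp y f) F where
  sec z := R.sec (fstHom z) (sndObj z) (sndArr z) (sndArr_lift z)
  sec_surj s := by
    obtain ⟨g, x, b, hb, rfl⟩ := R.sec_surj s
    refine ⟨tripleObj g x b hb, ?_⟩
    exact R.sec_congr (x := x) _ _ (sndArr_tripleObj g x b hb)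
  sec_eq {T' z z'} e := by
    rw [R.sec_eq_iff] at e
    obtain ⟨θ, hθ⟩ := e
    obtain ⟨d, hd, -⟩ := exists_arr_fp (z' := z) (z := z') (𝟙 _) θ.1 θ.2 hθ
    exact ⟨⟨d, hd⟩⟩
  sec_map {T'' T'} h z' z c hc := by
    have l1 := sndArr_lift z
    have l2 : 𝒳.p.IsHomLift h c.hom.snd := snd_lift h c hc
    have l3 : 𝒴.p.IsHomLift h (f.map c.hom.snd) := BasedFunctor.preserves_isHomLift f h _
    rw [R.sec_map h (fstHom z) (sndObj z') (sndObj z) c.hom.snd (sndArr z) l2 l1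
      (IsHomLift.comp 𝒴.p h (fstHom z) _ _)]
    apply R.sec_congr
    exact (map_snd_sndArr c).symm
  thin {T' z z'} θ θ' := by
    apply hom_ext'
    refine fp_arr_ext (𝟙 _) θ.2 θ'.2 ?_
    have e1 := map_snd_sndArr θ.1
    have e2 := map_snd_sndArr θ'.1
    have := R.uniq (fstHom z') (sndObj z) (sndObj z') ⟨θ.1.hom.snd, snd_lift (𝟙 _) θ.1 θ.2⟩
      ⟨θ'.1.hom.snd, snd_lift (𝟙 _) θ'.1 θ'.2⟩ (sndArr z') (sndArr_lift z') (e1.trans e2.symm)
    exact congrArg Subtype.val this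

end

end fp

/-- Elementwise consequence of `RepByAlgSpWith`. -/
theorem exists_fRep {P : MorphismProperty (AlgSp.Sp S)} {f : 𝒳 ⥤ᵇ 𝒴}
    [FibCat.IsFibGrpd 𝒳.p] [FibCat.IsFibGrpd 𝒴.p] (h : AlgSt.RepByAlgSpWith P f)
    {T : Over S} (t : 𝒴.p.Fiber T) :
    ∃ (F : AlgSp.Space S) (R : FRep f t F.obj), P R.π := by
  obtain ⟨F, e, he, hP⟩ := h T (ofObj t)
  let R₀ := SpRep.ofEquiv e he
  refine ⟨F, (FRep.ofSpRep R₀ _ (fun {T'} z => ?_)).trans (objOfOfObj t), hP⟩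
  obtain ⟨s, hs⟩ : ∃ s, R₀.sec z = s := ⟨_, rfl⟩
  let z₀ : (FibCat.fp (ofObj t) f).p.Fiber T' := ⟨e.obj ⟨T', s⟩, e.w_obj _⟩
  have h1 : R₀.sec z₀ = s := SpRep.ofEquiv_sec_obj e he s
  obtain ⟨θ⟩ := R₀.sec_eq (h1.trans hs.symm)
  have h2 := comp_fstHom (𝟙 T') θ.1 θ.2
  rw [Category.id_comp] at h2
  rw [hs, h2]
  rfl

/-- `RepByAlgSpWith` from its elementwise form. -/
theorem repByAlgSpWith_of_fRep {P : MorphismProperty (AlgSp.Sp S)} {f : 𝒳 ⥤ᵇ 𝒴}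
    [FibCat.IsFibGrpd 𝒳.p] [FibCat.IsFibGrpd 𝒴.p]
    (h : ∀ {T : Over S} (t : 𝒴.p.Fiber T), ∃ (F : AlgSp.Space S) (R : FRep f t F.obj), P R.π) :
    AlgSt.RepByAlgSpWith P f := by
  intro T y
  obtain ⟨F, R, hP⟩ := h (objOf y)
  let R₀ := R.toSpRep
  refine ⟨F, R₀.functor, R₀.isEquivOver, ?_⟩
  have : AlgSt.spMapOfOver (BasedFunctor.comp R₀.functor (FibCat.fpFst y f)) = R.π := by
    apply ObjectProperty.hom_ext
    ext T' s
    have h1 : R₀.sec (R₀.ob s) = s := R₀.sec_ob s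
    have h2 : R.π.hom.app (op T'.unop) (R.sec (fstHom (R₀.ob s)) (sndObj (R₀.ob s))
      (sndArr (R₀.ob s)) (sndArr_lift _)) = ⟨fstHom (R₀.ob s)⟩ := R.sec_π _ _ _ _
    have h3 : R.sec (fstHom (R₀.ob s)) (sndObj (R₀.ob s))
      (sndArr (R₀.ob s)) (sndArr_lift _) = s := h1
    rw [h3] at h2
    exact h2.symm
  rw [this]
  exact hP

end K862
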