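import Groth.Agent.AlgSp.K634.AffPair
import Groth.Agent.AlgSp.K634.Charts
import Groth.Agent.AlgSp.K635.EtLift
import Groth.Agent.AlgSp.K635.Thick
import Groth.Agent.AlgSp.K600.LimClosed
import Groth.Agent.Flat2H.FSSmoothHom

/-!
# Infinitesimal lifting up to étale covers, for smooth morphisms from an algebraic space to an affine scheme
-/

set_option autoImplicit false
set_option backward.isDefEq.respectTransparency false
universe u
open CategoryTheory CategoryTheory.Limits AlgebraicGeometry Opposite AlgSp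

namespace K862.LiftSp

variable {S : Scheme.{u}}

/-- A square zero thickening of schemes over `S`. -/
abbrev Th {A₀ A : Over S} (i : A₀ ⟶ A) : Prop := K635.Thick.nthick 1 i.left

theorem Th.closed {A₀ A : Over S} {i : A₀ ⟶ A} (h : Th i) : IsClosedImmersion i.left := h.1.1

theorem Th.surj {A₀ A : Over S} {i : A₀ ⟶ A} (h : Th i) : Surjective i.left := h.1.2

theorem Th.ker {A₀ A : Over S} {i : A₀ ⟶ A} (h : Th i) : i.left.ker * i.left.ker = ⊥ :=
  ((K635.Thick.nthick_one_iff _).1 h).2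

theorem Th.of_isPullback {A₀ A B₀ B : Over S} {i : A₀ ⟶ A} {j : B₀ ⟶ B} {f : B₀ ⟶ A₀} {g : B ⟶ A}
    (sq : IsPullback f j i g) (h : Th i) : Th j :=
  MorphismProperty.of_isPullback (P := K635.Thick.nthick 1) (K635.Thick.isPullback_left sq) h

theorem Th.bc {A₀ A B : Over S} {i : A₀ ⟶ A} (h : Th i) (g : B ⟶ A) : Th (pullback.snd i g) :=
  h.of_isPullback (IsPullback.of_hasPullback i g)

/-- Lifting for a smooth morphism of schemes over `S` along a square zero thickening of affine schemes. -/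
theorem exists_lift_of_smooth {A₀ A V T : Over S} (i : A₀ ⟶ A) (hi : Th i) [IsAffine A.left]
    (g : V ⟶ T) [Smooth g.left] (t : A₀ ⟶ V) (b : A ⟶ T) (w : t ≫ g = i ≫ b) :
    ∃ l : A ⟶ V, i ≫ l = t ∧ l ≫ g = b := by
  have := hi.closed
  have h := K634.AffPair.smooth_lft ((K634.Charts.smooth_yon_map_iff g).2
    (Groth.Agent.Flat2H.FSSmoothHom.isFormallySmoothHom_of_smooth g.left)) i hi.ker
  exact (K634.Formal.Lft.map_iff (yon S)).1 h t b w

/-- Infinitesimal lifting up to an étale cover. -/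
theorem exists_section_of_smooth {A₀ A : Over S} (i : A₀ ⟶ A) (hi : Th i) [IsAffine A.left]
    {F : Sp S} (hF : IsAlgSpace F) (π : F ⟶ (yon S).obj A) (hπ : LocP @Smooth π)
    (x₀ : (yon S).obj A₀ ⟶ F) (hx₀ : x₀ ≫ π = (yon S).map i) :
    ∃ (B : Over S) (e : B ⟶ A) (x : (yon S).obj B ⟶ F), IsAffine B.left ∧ Etale e.left ∧
      Surjective e.left ∧ x ≫ π = (yon S).map e ∧
      ∀ (B₀ : Over S) (p : B₀ ⟶ B) (q : B₀ ⟶ A₀), p ≫ e = q ≫ i →
        (yon S).map p ≫ x = (yon S).map q ≫ x₀ := by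
  obtain ⟨V, v, hv1, hv2⟩ := hF.atlas
  obtain ⟨g, hg⟩ := (yon S).map_surjective (v ≫ π)
  have hgs : Smooth g.left := by
    refine hπ v (𝟙 _) g hv1 (repWith_id _ _) ?_
    rw [Category.comp_id, hg]
  -- lift `x₀` to the chart
  obtain ⟨A₀', snd, fst, sq⟩ := hv1.1 x₀
  have h1 : Etale snd.left := hv1.2 _ _ _ sq
  have h2 : Surjective snd.left := hv2.2 _ _ _ sq
  obtain ⟨v₀, hv₀⟩ := (yon S).map_surjective fst
  have := hi.closed
  have := hi.surj
  obtain ⟨E', e', i', he', sqE⟩ := K635.EtLift.over_exists_etale_lift i snd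
  have hes : Surjective e'.left := by
    refine ⟨fun a => ?_⟩
    obtain ⟨a₀, rfl⟩ := i.left.surjective a
    obtain ⟨a₀', rfl⟩ := snd.left.surjective a₀
    refine ⟨i'.left a₀', ?_⟩
    rw [← Scheme.Hom.comp_apply, ← Scheme.Hom.comp_apply, ← Over.comp_left, ← Over.comp_left, sqE.w]
  obtain ⟨Y, r, hY, hr, hr'⟩ := K600.LimClosed.exists_affine_of_etale_surjective e'.left
  let B : Over S := Over.mk (r ≫ E'.hom)
  let r' : B ⟶ E' := Over.homMk r rfl
  let e : B ⟶ A := r' ≫ e'
  have : IsAffine B.left := hY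
  -- the thickening `B₀ ⟶ B`
  have sqB := IsPullback.of_hasPullback i e
  have hB : Th (pullback.snd i e) := hi.of_isPullback sqB
  let s₀ : pullback i e ⟶ A₀' := sqE.lift (pullback.snd i e ≫ r') (pullback.fst i e) (by
    rw [Category.assoc]; exact pullback.condition.symm)
  have hs1 : s₀ ≫ i' = pullback.snd i e ≫ r' := sqE.lift_fst _ _ _
  have hs2 : s₀ ≫ snd = pullback.fst i e := sqE.lift_snd _ _ _
  have hvg : v₀ ≫ g = snd ≫ i := by
    apply (yon S).map_injective
    rw [Functor.map_comp, Functor.map_comp, hg, hv₀, ← Category.assoc, sq.w, Category.assoc, hx₀]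
  obtain ⟨l, hl1, hl2⟩ := exists_lift_of_smooth (pullback.snd i e) hB g (s₀ ≫ v₀) e (by
    rw [Category.assoc, hvg, ← Category.assoc, hs2, pullback.condition])
  refine ⟨B, e, (yon S).map l ≫ v, hY, ?_, ?_, ?_, ?_⟩
  · change Etale (r ≫ e'.left)
    infer_instance
  · exact hr'
  · rw [Category.assoc, ← hg, ← Functor.map_comp, hl2]
  · intro B₀ p q hpq
    let k : B₀ ⟶ pullback i e := pullback.lift q p hpq.symm
    have k1 : k ≫ pullback.fst i e = q := pullback.lift_fst _ _ _
    have k2 : k ≫ pullback.snd i e = p := pullback.lift_snd _ _ _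
    rw [← k2, ← k1, ← Category.assoc, ← Functor.map_comp, Category.assoc, hl1, ← hs2,
      Functor.map_comp, Functor.map_comp, Functor.map_comp, Functor.map_comp, hv₀]
    simp only [Category.assoc]
    rw [sq.w]

end K862.LiftSp
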