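import Groth.Agent.IsoNat.K862.LiftSp
import Groth.Agent.Flat2H.FSLift
import Mathlib.AlgebraicGeometry.Morphisms.ClosedImmersion

/-!
# Gluing an affine scheme `A` with an affine scheme `T₂` along a thickening `T₂₀ ⟶ T₂` with a map `T₂₀ ⟶ A`
-/

set_option autoImplicit false
set_option backward.isDefEq.respectTransparency false
universe u
open CategoryTheory CategoryTheory.Limits AlgebraicGeometry Opposite AlgSp

namespace K862.AffGlue

open K635.Thick K862.LiftSp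

theorem nthick_spec {A B : Type u} [CommRing A] [CommRing B] (φ : A →+* B)
    (hs : Function.Surjective φ) (h : (RingHom.ker φ) ^ 2 = ⊥) :
    nthick 1 (Spec.map (CommRingCat.ofHom φ)) := by
  rw [nthick_one_iff]
  have h1 : IsClosedImmersion (Spec.map (CommRingCat.ofHom φ)) :=
    IsClosedImmersion.spec_of_surjective _ hs
  refine ⟨⟨h1, ⟨fun x => ?_⟩⟩, ?_⟩
  · have hx : x ∈ Set.range (PrimeSpectrum.comap φ) := by
      rw [_root_.range_comap_of_surjective _ _ hs]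
      intro t ht
      have : t ^ 2 ∈ x.asIdeal := by
        have h2 : t ^ 2 ∈ (RingHom.ker φ) ^ 2 := Ideal.pow_mem_pow ht 2
        rw [h, Ideal.mem_bot] at h2
        rw [h2]
        exact x.asIdeal.zero_mem
      exact x.2.mem_of_pow_mem 2 this
    exact hx
  · apply Scheme.IdealSheafData.ext_of_isAffine
    rw [Scheme.IdealSheafData.ideal_mul, Pi.mul_apply, Scheme.Hom.ker_apply, ← pow_two]
    exact Groth.Agent.Flat2H.FSLift.ker_SpecMap_appTop_pow _ 2 h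

theorem ker_sq {X Y : Scheme.{u}} (i : X ⟶ Y) [IsAffine Y] (h : nthick 1 i) :
    Function.Surjective i.appTop.hom ∧ (RingHom.ker i.appTop.hom) ^ 2 = ⊥ := by
  have hc : IsClosedImmersion i := h.1.1
  obtain ⟨hW, hs⟩ := IsClosedImmersion.isAffine_surjective_of_isAffine i
  refine ⟨hs, ?_⟩
  have h' := ((nthick_one_iff _).1 h).2
  have := congrArg (fun J => J.ideal ⟨⊤, isAffineOpen_top Y⟩) h'
  simp only [Scheme.IdealSheafData.ideal_mul, Pi.mul_apply, Scheme.IdealSheafData.ideal_bot,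
    Pi.bot_apply] at this
  rw [Scheme.Hom.ker_apply] at this
  rw [pow_two]
  exact this

theorem exists_glue_scheme {A T₂₀ T₂ W : Scheme.{u}} [IsAffine A] [IsAffine T₂] [IsAffine W]
    (f : T₂₀ ⟶ A) (i₂ : T₂₀ ⟶ T₂) (h : nthick 1 i₂) (v : A ⟶ W) (v₂ : T₂ ⟶ W)
    (w : f ≫ v = i₂ ≫ v₂) :
    ∃ (T' : Scheme.{u}) (_ : IsAffine T') (jA : A ⟶ T') (j₂ : T₂ ⟶ T') (v' : T' ⟶ W),
      nthick 1 jA ∧ f ≫ jA = i₂ ≫ j₂ ∧ jA ≫ v' = v ∧ j₂ ≫ v' = v₂ := by
  obtain ⟨hs, hk⟩ := ker_sq i₂ h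
  let R' : Subring (Γ(A, ⊤) × Γ(T₂, ⊤)) :=
    RingHom.eqLocus (f.appTop.hom.comp (RingHom.fst _ _)) (i₂.appTop.hom.comp (RingHom.snd _ _))
  let pA : R' →+* Γ(A, ⊤) := (RingHom.fst _ _).comp R'.subtype
  let p₂ : R' →+* Γ(T₂, ⊤) := (RingHom.snd _ _).comp R'.subtype
  have hR' : ∀ r : R', f.appTop.hom (pA r) = i₂.appTop.hom (p₂ r) := fun r => r.2
  have hpA : Function.Surjective pA := by
    intro a
    obtain ⟨b, hb⟩ := hs (f.appTop.hom a)
    exact ⟨⟨(a, b), hb.symm⟩, rfl⟩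
  have hkA : (RingHom.ker pA) ^ 2 = ⊥ := by
    rw [eq_bot_iff, pow_two, Ideal.mul_le]
    intro r hr s hs
    have h1 : pA r = 0 := hr
    have h2 : pA s = 0 := hs
    have h3 : i₂.appTop.hom (p₂ r) = 0 := by rw [← hR', h1, map_zero]
    have h4 : i₂.appTop.hom (p₂ s) = 0 := by rw [← hR', h2, map_zero]
    have h5 : p₂ r * p₂ s = 0 := by
      have : p₂ r * p₂ s ∈ (RingHom.ker i₂.appTop.hom) ^ 2 := by
        rw [pow_two]
        exact Ideal.mul_mem_mul h3 h4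
      rw [hk] at this
      exact this
    change r * s = 0
    apply Subtype.ext
    apply Prod.ext
    · change pA (r * s) = 0
      rw [map_mul, h1, zero_mul]
    · change p₂ (r * s) = 0
      rw [map_mul, h5]
  let mA : CommRingCat.of R' ⟶ Γ(A, ⊤) := CommRingCat.ofHom pA
  let m₂ : CommRingCat.of R' ⟶ Γ(T₂, ⊤) := CommRingCat.ofHom p₂
  let mW : Γ(W, ⊤) ⟶ CommRingCat.of R' := CommRingCat.ofHom
    (RingHom.codRestrict (RingHom.prod v.appTop.hom v₂.appTop.hom) R' (fun c => by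
      change f.appTop.hom (v.appTop.hom c) = i₂.appTop.hom (v₂.appTop.hom c)
      have e1 : (f ≫ v).appTop = (i₂ ≫ v₂).appTop := by rw [w]
      rw [Scheme.Hom.comp_appTop, Scheme.Hom.comp_appTop] at e1
      exact congrArg (fun k => k.hom c) e1))
  have hmA : mW ≫ mA = v.appTop := by ext c; rfl
  have hm₂ : mW ≫ m₂ = v₂.appTop := by ext c; rfl
  have hmf : mA ≫ f.appTop = m₂ ≫ i₂.appTop := by
    ext r
    exact hR' r
  refine ⟨Spec (CommRingCat.of R'), inferInstance, A.toSpecΓ ≫ Spec.map mA,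
    T₂.toSpecΓ ≫ Spec.map m₂, Spec.map mW ≫ inv W.toSpecΓ, ?_, ?_, ?_, ?_⟩
  · rw [MorphismProperty.cancel_left_of_respectsIso (nthick 1)]
    exact nthick_spec pA hpA hkA
  · rw [← Category.assoc, ← Category.assoc, Scheme.toSpecΓ_naturality, Scheme.toSpecΓ_naturality,
      Category.assoc, Category.assoc, ← Spec.map_comp, ← Spec.map_comp, hmf]
  · rw [Category.assoc, ← Category.assoc (Spec.map mA), ← Spec.map_comp, hmA, ← Category.assoc,
      ← Scheme.toSpecΓ_naturality, Category.assoc, IsIso.hom_inv_id, Category.comp_id]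
  · rw [Category.assoc, ← Category.assoc (Spec.map m₂), ← Spec.map_comp, hm₂, ← Category.assoc,
      ← Scheme.toSpecΓ_naturality, Category.assoc, IsIso.hom_inv_id, Category.comp_id]

/-- The same over a base scheme `S`. -/
theorem exists_glue {S : Scheme.{u}} {A T₂₀ T₂ W : Over S} [IsAffine A.left] [IsAffine T₂.left]
    [IsAffine W.left] (f : T₂₀ ⟶ A) (i₂ : T₂₀ ⟶ T₂) (h : Th i₂) (v : A ⟶ W) (v₂ : T₂ ⟶ W)
    (w : f ≫ v = i₂ ≫ v₂) :
    ∃ (T' : Over S) (_ : IsAffine T'.left) (jA : A ⟶ T') (j₂ : T₂ ⟶ T') (v' : T' ⟶ W),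
      Th jA ∧ f ≫ jA = i₂ ≫ j₂ ∧ jA ≫ v' = v ∧ j₂ ≫ v' = v₂ := by
  obtain ⟨T', hT', jA, j₂, v', h1, h2, h3, h4⟩ := exists_glue_scheme f.left i₂.left h v.left v₂.left
    (congrArg (fun k => k.left) w)
  refine ⟨Over.mk (v' ≫ W.hom), hT', Over.homMk jA ?_, Over.homMk j₂ ?_, Over.homMk v' rfl, h1,
    ?_, ?_, ?_⟩
  · change jA ≫ v' ≫ W.hom = A.hom
    rw [← Category.assoc, h3, Over.w]
  · change j₂ ≫ v' ≫ W.hom = T₂.hom
    rw [← Category.assoc, h4, Over.w]
  · ext1; exact h2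
  · ext1; exact h3
  · ext1; exact h4

end K862.AffGlue
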