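import Groth.Agent.IsoNat.K862.Cls

/-!
# Arrows over a morphism of the base, bundled

`Ar g s t` : arrows `s ⟶ t` over `g`, for fibre objects `s` over `T'` and `t` over `T`.
`Cor φ s t` : the classes of `s` (object of `𝒳`) and `t` (object of `𝒴`) correspond under `φ : FIso 𝒳 𝒴`.
-/

set_option autoImplicit false
set_option linter.unusedSectionVars false

universe u v w v' w'

open CategoryTheory AlgebraicGeometry K862.Fib K862.Cls

namespace K862

section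

variable {C : Type w'} [Category.{v'} C] {𝒳 : Type w} [Category.{v} 𝒳] {p : 𝒳 ⥤ C}
  {T T' T'' : C}

/-- Arrows over `g` between fibre objects. -/
def Ar (g : T' ⟶ T) (s : p.Fiber T') (t : p.Fiber T) : Type v := { a : s.1 ⟶ t.1 // p.IsHomLift g a }

namespace Ar

variable {g : T' ⟶ T} {h : T'' ⟶ T'} {t : p.Fiber T} {s : p.Fiber T'} {r : p.Fiber T''}

theorem lift (a : Ar g s t) : p.IsHomLift g a.1 := a.2

theorem ext {a b : Ar g s t} (h : a.1 = b.1) : a = b := Subtype.ext h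

/-- Composition. -/
def comp (b : Ar h r s) (a : Ar g s t) : Ar (h ≫ g) r t :=
  ⟨b.1 ≫ a.1, haveI := b.2; haveI := a.2; inferInstance⟩

@[simp] theorem comp_val (b : Ar h r s) (a : Ar g s t) : (b.comp a).1 = b.1 ≫ a.1 := rfl

/-- Change of the base morphism along an equality. -/
def cast {g' : T' ⟶ T} (e : g = g') (a : Ar g s t) : Ar g' s t := ⟨a.1, e ▸ a.2⟩

@[simp] theorem cast_val {g' : T' ⟶ T} (e : g = g') (a : Ar g s t) : (a.cast e).1 = a.1 := rfl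

/-- A morphism of the fibre category. -/
def ofHom {s s' : p.Fiber T} (α : s ⟶ s') : Ar (𝟙 T) s s' := ⟨α.1, α.2⟩

@[simp] theorem ofHom_val {s s' : p.Fiber T} (α : s ⟶ s') : (ofHom α).1 = α.1 := rfl

/-- Precomposition with a morphism of the fibre category. -/
def precomp {s' : p.Fiber T'} (α : s' ⟶ s) (a : Ar g s t) : Ar g s' t :=
  ((ofHom α).comp a).cast (Category.id_comp g)

@[simp] theorem precomp_val {s' : p.Fiber T'} (α : s' ⟶ s) (a : Ar g s t) :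
    (a.precomp α).1 = α.1 ≫ a.1 := rfl

/-- Postcomposition with a morphism of the fibre category. -/
def postcomp {t' : p.Fiber T} (a : Ar g s t) (α : t ⟶ t') : Ar g s t' :=
  (a.comp (ofHom α)).cast (Category.comp_id g)

@[simp] theorem postcomp_val {t' : p.Fiber T} (a : Ar g s t) (α : t ⟶ t') :
    (a.postcomp α).1 = a.1 ≫ α.1 := rfl

/-- An arrow over the identity is a morphism of the fibre category. -/
def toHom {s s' : p.Fiber T} (a : Ar (𝟙 T) s s') : s ⟶ s' := ⟨a.1, a.2⟩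

@[simp] theorem toHom_val {s s' : p.Fiber T} (a : Ar (𝟙 T) s s') : (toHom a).1 = a.1 := rfl

theorem eq_of_val {g' : T' ⟶ T} (a : Ar g s t) (b : Ar g' s t) (h : a.1 = b.1) : g = g' := by
  obtain ⟨a, ha⟩ := a
  obtain ⟨b, hb⟩ := b
  obtain rfl : a = b := h
  obtain ⟨s, rfl⟩ := s
  obtain ⟨t, rfl⟩ := t
  exact (IsHomLift.eq_of_isHomLift p g a).trans (IsHomLift.eq_of_isHomLift p g' a).symm

variable [FibCat.IsFibGrpd p]

theorem cancel {a b : Ar h r s} (c : Ar g s t) (e : a.1 ≫ c.1 = b.1 ≫ c.1) : a = b :=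
  haveI := a.2; haveI := b.2; haveI := c.2
  ext (Fib.cancel (p := p) g h c.1 e)

theorem cancel_val {a b : Ar h r s} (c : Ar g s t) (e : a.1 ≫ c.1 = b.1 ≫ c.1) : a.1 = b.1 :=
  congrArg Subtype.val (cancel c e)

theorem cancelHom {s' : p.Fiber T'} {α β : s' ⟶ s} (c : Ar g s t)
    (e : α.1 ≫ c.1 = β.1 ≫ c.1) : α = β :=
  hom_ext' (congrArg Subtype.val (cancel (a := ofHom α) (b := ofHom β) c e))

theorem fac (a : Ar g s t) {k : T'' ⟶ T} (b : Ar k r t) (h : T'' ⟶ T') (e : h ≫ g = k) :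
    ∃ c : Ar h r s, c.1 ≫ a.1 = b.1 := by
  have := a.2
  have := b.2
  exact ⟨⟨fill p g h e.symm a.1 b.1, inferInstance⟩, fill_comp (p := p) g h e.symm a.1 b.1⟩

/-- Two lifts of the same morphism at the same object differ by a morphism of the fibre. -/
theorem facHom {s' : p.Fiber T'} (a : Ar g s t) (b : Ar g s' t) : ∃ α : s' ⟶ s, α.1 ≫ a.1 = b.1 := by
  obtain ⟨c, hc⟩ := a.fac b (𝟙 _) (Category.id_comp g)
  exact ⟨toHom c, hc⟩

theorem exists_pull (g : T' ⟶ T) (t : p.Fiber T) : ∃ s : p.Fiber T', Nonempty (Ar g s t) := by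
  obtain ⟨s, a, ha⟩ := Fib.exists_pull g t
  exact ⟨s, ⟨⟨a, ha⟩⟩⟩

/-- Restriction of a morphism of the fibre. -/
theorem exists_res {s' : p.Fiber T'} {t' : p.Fiber T} (a : Ar g s t) (b : Ar g s' t') (α : t ⟶ t') :
    ∃ β : s ⟶ s', β.1 ≫ b.1 = a.1 ≫ α.1 :=
  b.facHom (a.postcomp α)

end Ar

end

section Cor

variable {S : Scheme.{u}} {𝒳 𝒴 : AlgSt.Cat S}
  [FibCat.IsFibGrpd 𝒳.p] [FibCat.IsFibGrpd 𝒴.p] (φ : IsoNat.FIso 𝒳 𝒴)

/-- The classes of `s` and `t` correspond under `φ`. -/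
def Cor {T : Over S} (s : 𝒳.p.Fiber T) (t : 𝒴.p.Fiber T) : Prop :=
  φ.toEquiv T (IsoNat.cls s) = IsoNat.cls t

variable {φ}

theorem Cor.pull {T' T : Over S} {g : T' ⟶ T} {s : 𝒳.p.Fiber T} {t : 𝒴.p.Fiber T}
    {s' : 𝒳.p.Fiber T'} {t' : 𝒴.p.Fiber T'} (h : Cor φ s t) (a : Ar g s' s) (b : Ar g t' t) :
    Cor φ s' t' := by
  have := a.2
  have := b.2
  have h' : φ.toEquiv T (IsoNat.cls s) = IsoNat.cls t := h
  change φ.toEquiv T' (IsoNat.cls s') = IsoNat.cls t'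
  rw [← pullCls_eq g a.1, toEquiv_pullCls, h', pullCls_eq g b.1]

variable (φ) in
theorem exists_cor {T : Over S} (t : 𝒴.p.Fiber T) : ∃ s : 𝒳.p.Fiber T, Cor φ s t := by
  obtain ⟨s, hs⟩ := exists_rep ((φ.toEquiv T).symm (IsoNat.cls t))
  exact ⟨s, by
    change φ.toEquiv T (IsoNat.cls s) = _
    rw [hs, Equiv.apply_symm_apply]⟩

variable (φ) in
theorem exists_cor' {T : Over S} (s : 𝒳.p.Fiber T) : ∃ t : 𝒴.p.Fiber T, Cor φ s t := by
  obtain ⟨t, ht⟩ := exists_rep (φ.toEquiv T (IsoNat.cls s))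
  exact ⟨t, ht.symm⟩

theorem Cor.symm {T : Over S} {s : 𝒳.p.Fiber T} {t : 𝒴.p.Fiber T} (h : Cor φ s t) :
    Cor (Cls.symm φ) t s := by
  have h' : φ.toEquiv T (IsoNat.cls s) = IsoNat.cls t := h
  change (φ.toEquiv T).symm (IsoNat.cls t) = IsoNat.cls s
  rw [← h', Equiv.symm_apply_apply]

/-- Arrows to corresponding objects exist over the same morphisms. -/
theorem Cor.ar {T' T : Over S} {g : T' ⟶ T} {x : 𝒳.p.Fiber T} {y : 𝒴.p.Fiber T}
    {s : 𝒳.p.Fiber T'} {t : 𝒴.p.Fiber T'} (hst : Cor φ s t) (hxy : Cor φ x y) (a : Ar g s x) :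
    Nonempty (Ar g t y) := by
  have := a.2
  have hst' : φ.toEquiv T' (IsoNat.cls s) = IsoNat.cls t := hst
  have hxy' : φ.toEquiv T (IsoNat.cls x) = IsoNat.cls y := hxy
  obtain ⟨b, hb⟩ := (pullCls_eq_iff g y t).1 (by
    rw [← hst', ← hxy', ← toEquiv_pullCls, pullCls_eq g a.1])
  exact ⟨⟨b, hb⟩⟩

/-- Arrows to corresponding objects exist over the same morphisms. -/
theorem Cor.ar' {T' T : Over S} {g : T' ⟶ T} {x : 𝒳.p.Fiber T} {y : 𝒴.p.Fiber T}
    {s : 𝒳.p.Fiber T'} {t : 𝒴.p.Fiber T'} (hst : Cor φ s t) (hxy : Cor φ x y) (a : Ar g t y) :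
    Nonempty (Ar g s x) :=
  hst.symm.ar hxy.symm a

end Cor

end K862
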