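import Groth.Agent.IsoNat.K862.Core
import Groth.Agent.AlgSp.K608.Pts
import Groth.Agent.AlgSp.K600.LimAff

/-!
# Local lifts to an affine atlas; affine étale charts of automorphism sheaves
-/

set_option autoImplicit false
set_option linter.unusedSectionVars false
set_option backward.isDefEq.respectTransparency false
set_option backward.isDefEq.respectTransparency.types false

universe u

open CategoryTheory CategoryTheory.Limits AlgebraicGeometry Opposite K862.Fib K862.Yon AlgSp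
open K862.LiftSp

namespace K862

variable {S : Scheme.{u}} {𝒴 : AlgSt.Cat S}

/-- Field valued points through a surjective map to a representable sheaf. -/
theorem exists_fieldPt {F : Sp S} {A : Over S} (π : F ⟶ (yon S).obj A) (h : IsSurjectiveMor π)
    (pt : A.left) : ∃ (Ω : Type u) (_ : Field Ω) (v : Spec (CommRingCat.of Ω) ⟶ S)
      (k : Over.mk v ⟶ A) (g : (yon S).obj (Over.mk v) ⟶ F), g ≫ π = (yon S).map k ∧
      ∀ ω, k.left ω = pt := by
  obtain ⟨x, hx⟩ := h (Points.ofScheme A pt)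
  obtain ⟨K, _, w, g, rfl⟩ := K608.Pts.exists_pt x
  have h1 : K608.Pts.pt (g ≫ π) = K608.Pts.pt ((yon S).map (Over.homMk
      (A.left.fromSpecResidueField pt) rfl :
        Over.mk (A.left.fromSpecResidueField pt ≫ A.hom) ⟶ A) ≫ 𝟙 _) := by
    rw [← K608.Pts.map_pt, hx]
    exact K608.Pts.ofPt_eq_pt (𝟙 _) pt
  rw [K608.Pts.pt_eq_pt_iff] at h1
  obtain ⟨Ω, _, v, a, b, hab⟩ := h1
  refine ⟨Ω, inferInstance, v, b ≫ Over.homMk (A.left.fromSpecResidueField pt) rfl,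
    (yon S).map a ≫ g, ?_, ?_⟩
  · rw [Category.assoc, hab, Category.comp_id, Functor.map_comp]
  · intro ω
    change (b.left ≫ A.left.fromSpecResidueField pt) ω = pt
    rw [Scheme.Hom.comp_apply]
    exact A.left.fromSpecResidueField_apply pt _

section

variable [FibCat.IsFibGrpd 𝒴.p]

/-- `ELift` passes to open subschemes. -/
theorem ELift.of_open {U W : Over S} {x : 𝒴.p.Fiber U} {w : 𝒴.p.Fiber W} (hx : ELift x)
    {j : W ⟶ U} [IsOpenImmersion j.left] (ω : Ar j w x) : ELift w := by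
  intro A₀ A i hi hA s₀ s c u₀ a₀
  obtain ⟨B, e, sB, b, u, a, hB, he, hes, H⟩ := hx i hi hA s₀ s c (u₀ ≫ j) (a₀.comp ω)
  -- `u` factors through `W`
  have hThB : Th (pullback.snd i e) := hi.bc e
  have hc : pullback.snd i e ≫ e = pullback.fst i e ≫ i := pullback.condition.symm
  have hu : pullback.snd i e ≫ u = pullback.fst i e ≫ u₀ ≫ j := by
    obtain ⟨z, ⟨ψ⟩⟩ := Ar.exists_pull (pullback.fst i e) s₀
    obtain ⟨ξ, hξ⟩ := b.fac (ψ.comp c) (pullback.snd i e) hc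
    exact Ar.eq_of_val (ξ.comp a) (ψ.comp (a₀.comp ω)) (H z _ _ ξ ψ hξ)
  have hr : Set.range u.left ⊆ Set.range j.left := by
    rintro _ ⟨y, rfl⟩
    obtain ⟨y₀, rfl⟩ := hThB.surj.surj y
    rw [← Scheme.Hom.comp_apply, ← Over.comp_left, hu, Over.comp_left, Over.comp_left,
      Scheme.Hom.comp_apply, Scheme.Hom.comp_apply]
    exact ⟨_, rfl⟩
  let u'' : B.left ⟶ W.left := IsOpenImmersion.lift j.left u.left hr
  have hu'' : u'' ≫ j.left = u.left := IsOpenImmersion.lift_fac _ _ _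
  let u' : B ⟶ W := Over.homMk u'' (by
    rw [← Over.w j, ← Category.assoc, hu'', Over.w])
  have hu' : u' ≫ j = u := by ext1; exact hu''
  obtain ⟨a', ha'⟩ := ω.fac a u' hu'
  refine ⟨B, e, sB, b, u', a', hB, he, hes, ?_⟩
  intro B₀ z p q Φ Ψ hΦΨ
  have hpq : p ≫ e = q ≫ i := Ar.eq_of_val (Φ.comp b) (Ψ.comp c) hΦΨ
  have h1 := H z p q Φ Ψ hΦΨ
  have hmono : Mono j.left := inferInstance
  have hb : p ≫ u' = q ≫ u₀ := by
    have h2 : (p ≫ u') ≫ j = (q ≫ u₀) ≫ j := by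
      rw [Category.assoc, hu', Category.assoc]
      exact Ar.eq_of_val (Φ.comp a) (Ψ.comp (a₀.comp ω)) h1
    ext1
    rw [← cancel_mono j.left]
    exact congrArg (fun k => k.left) h2
  refine Ar.cancel_val (a := (Φ.comp a').cast hb) (b := Ψ.comp a₀) ω ?_
  simp only [Ar.cast_val, Ar.comp_val, Category.assoc] at h1 ⊢
  rw [ha', h1]

theorem locAtlas_of_hasAtlas (h : AlgSt.HasAtlas (LocP @Smooth) 𝒴) : LocAtlas 𝒴 := by
  obtain ⟨U₀, X₀, hsm, hsurj⟩ := h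
  have hE : ELift (objOf X₀) := eLift_of_spanRep (fun A s => exists_spanRep hsm s)
  intro A t pt
  obtain ⟨F₂, R₂, h₂⟩ := exists_spanRep hsurj t
  obtain ⟨F₁, R₁, h₁⟩ := exists_spanRep hsm t
  obtain ⟨Ω, _, v, k, g, hg, hk⟩ := exists_fieldPt R₂.π h₂ pt
  obtain ⟨z, ⟨b⟩⟩ := Ar.exists_pull k t
  obtain ⟨u, a, rfl⟩ := R₂.exists_mk'_of g hg b
  obtain ⟨V, q, hq1, hq2⟩ := F₁.property.atlas
  obtain ⟨P, snd, fst, sq⟩ := hq2.1 (R₁.mk' b a)
  have hs : Surjective snd.left := hq2.2 _ _ _ sq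
  obtain ⟨fst, rfl⟩ := (yon S).map_surjective fst
  obtain ⟨ω⟩ : Nonempty (Spec (CommRingCat.of Ω)) := inferInstance
  obtain ⟨p, hp⟩ := hs.surj ω
  obtain ⟨zV, hA, uV, bV, aV, hqV⟩ := R₁.exists_mk' q
  have hqπ : q ≫ R₁.π = (yon S).map hA := by rw [← hqV, R₁.mk'_π]
  have hAsm : Smooth hA.left := h₁ q (𝟙 _) hA hq1 (repWith_id _ _) (by rw [hqπ, Category.comp_id])
  let v₁ : V.left := fst.left p
  have hv₁ : hA.left v₁ = pt := by
    have e1 : fst ≫ hA = snd ≫ k := by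
      apply (yon S).map_injective
      rw [Functor.map_comp, ← hqπ, ← Category.assoc, sq.w, Category.assoc, R₁.mk'_π,
        ← Functor.map_comp]
    have e2 : (fst ≫ hA).left p = (snd ≫ k).left p := by rw [e1]
    rw [Over.comp_left, Over.comp_left, Scheme.Hom.comp_apply, Scheme.Hom.comp_apply, hp] at e2
    rw [hk] at e2
    exact e2
  obtain ⟨W, hW, hWmem, -⟩ := exists_isAffineOpen_mem_and_subset (X := U₀.left)
    (x := uV.left v₁) (U := ⊤) trivial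
  obtain ⟨B, hB, hBmem, hBle⟩ := exists_isAffineOpen_mem_and_subset (X := V.left) (x := v₁)
    (U := uV.left ⁻¹ᵁ W) hWmem
  let WS : Over S := Over.mk (W.ι ≫ U₀.hom)
  let j : WS ⟶ U₀ := Over.homMk W.ι rfl
  have hj : IsOpenImmersion j.left := inferInstanceAs (IsOpenImmersion W.ι)
  let BS : Over S := Over.mk (B.ι ≫ V.hom)
  let ιB : BS ⟶ V := Over.homMk B.ι rfl
  have hr : Set.range (B.ι ≫ uV.left) ⊆ Set.range W.ι := by
    rw [Scheme.Opens.range_ι]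
    rintro _ ⟨y, rfl⟩
    exact hBle y.2
  let uB'' : (B : Scheme.{u}) ⟶ (W : Scheme.{u}) := IsOpenImmersion.lift W.ι (B.ι ≫ uV.left) hr
  have huB'' : uB'' ≫ W.ι = B.ι ≫ uV.left := IsOpenImmersion.lift_fac _ _ _
  let uB : BS ⟶ WS := Over.homMk uB'' (by
    change uB'' ≫ W.ι ≫ U₀.hom = B.ι ≫ V.hom
    rw [← Category.assoc, huB'', Category.assoc, Over.w])
  have huB : uB ≫ j = ιB ≫ uV := by ext1; exact huB''
  obtain ⟨w, ⟨ω'⟩⟩ := Ar.exists_pull j (objOf X₀)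
  obtain ⟨tB, ⟨β⟩⟩ := Ar.exists_pull ιB zV
  obtain ⟨l, -⟩ := ω'.fac (β.comp aV) uB huB
  refine ⟨WS, w, BS, ιB ≫ hA, tB, β.comp bV, uB, l, hW, hB, ?_, ?_, hE.of_open ω'⟩
  · change Flat (B.ι ≫ hA.left)
    infer_instance
  · exact ⟨⟨v₁, hBmem⟩, hv₁⟩

end

/-- Automorphisms from isomorphisms. -/
noncomputable def AutRep.ofIsomRep [FibCat.IsFibGrpd 𝒴.p] {T : Over S} {t : 𝒴.p.Fiber T} {F : Sp S}
    (R : IsomRep t t F) : AutRep t F where
  π := R.π
  sec g z b σ hb := R.sec g z b (σ.1 ≫ b) hb (IsHomLift.comp_lift_id_left 𝒴.p g b σ.1)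
  sec_π g z b σ hb := R.sec_π g z _ _ _ _
  sec_surj {T'} τ := by
    obtain ⟨g, z, a, b, ha, hb, rfl⟩ := R.sec_surj τ
    refine ⟨g, z, a, cmpHom g b a, ha, ?_⟩
    exact R.sec_congr _ _ _ _ rfl (cmp_comp g b a)
  sec_eq_iff {T'} g g' z z' b b' σ σ' hb hb' := by
    rw [R.sec_eq_iff]
    refine exists_congr fun θ => ?_
    constructor
    · rintro ⟨h1, h2⟩
      refine ⟨?_, h1⟩
      refine hom_ext' (Fib.cancel (p := 𝒴.p) g' (𝟙 T') b' ?_)
      rw [comp_val, comp_val, Category.assoc, Category.assoc, h1, h2]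
    · rintro ⟨h1, h2⟩
      refine ⟨h2, ?_⟩
      have h1' : σ.1 ≫ θ.1 = θ.1 ≫ σ'.1 := congrArg Subtype.val h1
      rw [← Category.assoc, ← h1', Category.assoc, h2]
  sec_map {T' T''} h g z'' z c b σ σ'' hc hb hcb e := by
    have l1 : 𝒴.p.IsHomLift g (σ.1 ≫ b) := IsHomLift.comp_lift_id_left 𝒴.p g b σ.1
    rw [R.sec_map h g z'' z c b (σ.1 ≫ b) hc hb l1 hcb (IsHomLift.comp 𝒴.p h g c (σ.1 ≫ b))]
    refine R.sec_congr _ _ _ _ rfl ?_
    rw [← Category.assoc, ← e, Category.assoc]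

theorem autChart_of_diag [FibCat.IsFibGrpd 𝒴.p]
    (h : AlgSt.RepByAlgSpWith (IsSeparatedMor ⊓ IsQuasiCompactMor)
      (FibCat.diag (FibCat.toSelf 𝒴))) : AutChart 𝒴 := by
  intro A t hA
  obtain ⟨F, R, hR⟩ := exists_isomRep t t h
  have hqA : IsQuasiCompactSp ((yon S).obj A) :=
    ⟨A, 𝟙 _, repWith_id _ _, repWith_id _ _, inferInstance⟩
  have hF : IsQuasiCompactSp F.obj := hR.2 (IsAlgSpace.yon_obj A) hqA (𝟙 _) (𝟙 _) R.π
    (IsPullback.of_horiz_isIso ⟨by simp⟩)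
  obtain ⟨T₂, q, h1, h2, h3⟩ := K600.LimAff.exists_affine_chart hF
  exact ⟨F.obj, AutRep.ofIsomRep R, T₂, q, h1, h2, h3⟩

end K862
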