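import Groth.Agent.IsoNat.K862.RepAr
import Groth.Agent.AlgSp.K602.S31

/-!
# Local finite presentation of charts transfers along isomorphisms of presheaves of isomorphism classes
-/

set_option autoImplicit false
set_option linter.unusedSectionVars false
set_option backward.isDefEq.respectTransparency false
set_option backward.isDefEq.respectTransparency.types false

universe u

open CategoryTheory CategoryTheory.Limits AlgebraicGeometry Opposite K862.Fib K862.Yon AlgSp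
open K602.Retract

namespace K862

variable {S : Scheme.{u}} {𝒳 𝒴 : AlgSt.Cat S}

variable (S) in
/-- Morphisms locally of finite presentation of algebraic spaces are relatively limit preserving (surjectivity
half of S10024). -/
def LfpLim : Prop := ∀ (X Y : AlgSp.Space S) (f : X.obj ⟶ Y.obj),
  LocP @LocallyOfFinitePresentation f → SurjComp f

variable [FibCat.IsFibGrpd 𝒳.p] [FibCat.IsFibGrpd 𝒴.p] {φ : IsoNat.FIso 𝒳 𝒴}

theorem surjComp_of_lfp (hLim : LfpLim S) {U : Over S} {x : 𝒳.p.Fiber U} {y : 𝒴.p.Fiber U}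
    (hxy : Cor φ x y)
    (hx : ∀ (T : Over S) (s : 𝒳.p.Fiber T), ∃ (F : AlgSp.Space S) (R : SpanRep x s F.obj),
      LocP @LocallyOfFinitePresentation R.π)
    (hAut : ∀ (T : Over S) (t : 𝒴.p.Fiber T), ∃ (F : AlgSp.Space S) (R : AutRep t F.obj),
      LocP @LocallyOfFinitePresentation R.π)
    {T : Over S} {t : 𝒴.p.Fiber T} {F : Sp S} (R : SpanRep y t F) : SurjComp R.π := by
  intro I _ _ D c hc hD hpt x₀ i y₀ hxy₀
  obtain ⟨g, rfl⟩ := (yon S).map_surjective y₀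
  obtain ⟨ti, ⟨ρ⟩⟩ := Ar.exists_pull g t
  obtain ⟨tA, ⟨σ⟩⟩ := Ar.exists_pull (c.π.app i) ti
  obtain ⟨u, a, rfl⟩ := R.exists_mk'_of x₀ (g := c.π.app i ≫ g) (by rw [hxy₀, Functor.map_comp])
    (σ.comp ρ)
  obtain ⟨si, hsi⟩ := exists_cor φ ti
  obtain ⟨sA, ⟨σ'⟩⟩ := Ar.exists_pull (c.π.app i) si
  obtain ⟨a'⟩ := (hsi.pull σ' σ).ar' hxy a
  obtain ⟨F', R', hR'⟩ := hx _ si
  obtain ⟨j, ψ, fj, hfj, hfj'⟩ := hLim F' ⟨_, IsAlgSpace.yon_obj (D.obj i)⟩ R'.π hR' D c hc hD hpt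
    (R'.mk' σ' a') i (𝟙 _) (by rw [R'.mk'_π, Category.comp_id])
  rw [Category.comp_id] at hfj'
  obtain ⟨sj, ⟨κ'⟩⟩ := Ar.exists_pull (D.map ψ) si
  obtain ⟨uj, aj', rfl⟩ := R'.exists_mk'_of fj hfj' κ'
  have hw : c.π.app j ≫ D.map ψ = c.π.app i := c.w ψ
  -- `u` is the restriction of `uj`
  have hu : c.π.app j ≫ uj = u := by
    obtain ⟨l', hl'⟩ := κ'.fac σ' (c.π.app j) hw
    rw [R'.map_mk' l', R'.mk'_eq_iff] at hfj
    obtain ⟨θ, h1, h2⟩ := hfj
    exact (Ar.eq_of_val (a'.precomp θ) (l'.comp aj') h1).symm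
  obtain ⟨tj, ⟨κ⟩⟩ := Ar.exists_pull (D.map ψ) ti
  obtain ⟨aj⟩ := (hsi.pull κ' κ).ar hxy aj'
  obtain ⟨l, hl⟩ := κ.fac σ (c.π.app j) hw
  obtain ⟨ε, hε⟩ := (l.comp aj).facHom (a.cast hu.symm)
  rw [Ar.cast_val] at hε
  -- descend the automorphism
  obtain ⟨F'', R'', hR''⟩ := hAut _ tj
  obtain ⟨k, χ, fk, hfk, hfk'⟩ := hLim F'' ⟨_, IsAlgSpace.yon_obj (D.obj j)⟩ R''.π hR'' D c hc hD hpt
    (R''.mk' l ε) j (𝟙 _) (by rw [R''.mk'_π, Category.comp_id])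
  rw [Category.comp_id] at hfk'
  obtain ⟨tk, ⟨κ₂⟩⟩ := Ar.exists_pull (D.map χ) tj
  obtain ⟨εk, rfl⟩ := R''.exists_mk'_of fk hfk' κ₂
  obtain ⟨l₂, hl₂⟩ := κ₂.fac l (c.π.app k) (c.w χ)
  obtain ⟨ε', hε'⟩ := l₂.exists_res l₂ εk
  rw [R''.map_mk' l₂ κ₂ εk ε' hε', R''.mk'_eq_iff] at hfk
  obtain ⟨θ, h1, h2⟩ := hfk
  rw [Ar.comp_val, hl₂] at h2
  have hθ : θ = 𝟙 _ := Ar.cancelHom l (by rw [h2, id_val, Category.id_comp])
  rw [hθ, Category.comp_id, Category.id_comp] at h1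
  subst h1
  refine ⟨k, χ ≫ ψ, R.mk' (κ₂.comp (κ.comp ρ)) ((κ₂.comp aj).precomp εk), ?_, ?_⟩
  · rw [R.map_mk' l₂, R.mk'_eq_iff]
    refine ⟨𝟙 _, ?_, ?_⟩
    · simp only [id_val, Category.id_comp, Ar.comp_val, Ar.precomp_val]
      rw [← reassoc_of% hε', reassoc_of% hl₂, ← hε, Ar.comp_val]
    · simp only [id_val, Category.id_comp, Ar.comp_val]
      rw [reassoc_of% hl₂, reassoc_of% hl]
  · rw [R.mk'_π, ← Functor.map_comp, D.map_comp, Category.assoc]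

theorem locP_lfp (hLim : LfpLim S) {U : Over S} {x : 𝒳.p.Fiber U} {y : 𝒴.p.Fiber U}
    (hxy : Cor φ x y)
    (hx : ∀ (T : Over S) (s : 𝒳.p.Fiber T), ∃ (F : AlgSp.Space S) (R : SpanRep x s F.obj),
      LocP @LocallyOfFinitePresentation R.π)
    (hAut : ∀ (T : Over S) (t : 𝒴.p.Fiber T), ∃ (F : AlgSp.Space S) (R : AutRep t F.obj),
      LocP @LocallyOfFinitePresentation R.π)
    {T : Over S} {t : 𝒴.p.Fiber T} {F : Sp S} (R : SpanRep y t F) :
    LocP @LocallyOfFinitePresentation R.π := by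
  have h' := surjComp_of_lfp hLim hxy hx hAut R
  intro U V a b g ha hb hab
  rw [locallyOfFinitePresentation_iff]
  intro V₀ hV₀ U₀ hU₀ e
  have hw : hU₀.fromSpec ≫ U.hom = Spec.map (g.left.appLE V₀ U₀ e) ≫ hV₀.fromSpec ≫ V.hom := by
    rw [← Over.w g, ← Category.assoc, ← Category.assoc, hV₀.SpecMap_appLE_fromSpec g.left hU₀ e]
  let u : Over.mk (Spec.map (g.left.appLE V₀ U₀ e) ≫ hV₀.fromSpec ≫ V.hom) ⟶ U :=
    Over.homMk hU₀.fromSpec hw
  let v : Over.mk (hV₀.fromSpec ≫ V.hom) ⟶ V := Over.homMk hV₀.fromSpec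
  have hu : RepWith @Etale ((yon S).map u) := (repWith_yon_map_iff _ _).2
    (show Etale hU₀.fromSpec from inferInstance)
  have hv : RepWith @Etale ((yon S).map v) := (repWith_yon_map_iff _ _).2
    (show Etale hV₀.fromSpec from inferInstance)
  have hmul : (RepWith (S := S) @Etale).IsMultiplicative := repWith_isMultiplicative (S := S) @Etale
  refine K602.S31.finitePresentation h' (hV₀.fromSpec ≫ V.hom) (g.left.appLE V₀ U₀ e)
    ((yon S).map u ≫ a) ((yon S).map v ≫ b) (hmul.comp_mem _ _ hu ha) (hmul.comp_mem _ _ hv hb) ?_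
  have key : u ≫ g = Over.homMk (Spec.map (g.left.appLE V₀ U₀ e)) ≫ v := by
    ext1
    exact (hV₀.SpecMap_appLE_fromSpec g.left hU₀ e).symm
  calc ((yon S).map u ≫ a) ≫ R.π = (yon S).map (u ≫ g) ≫ b := by
        rw [Category.assoc, hab, Functor.map_comp, Category.assoc]
    _ = _ := by rw [key, Functor.map_comp, Category.assoc]

end K862
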