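import Groth.Agent.IsoNat.K862.SmoothLoc
import Groth.Agent.IsoNat.K862.AffGlue

/-!
# Smoothness from infinitesimal lifting up to flat covers, over a base scheme
-/

set_option autoImplicit false
set_option backward.isDefEq.respectTransparency false
universe u
open CategoryTheory CategoryTheory.Limits AlgebraicGeometry Opposite AlgSp

namespace K862.SmoothOver

open K635.Thick K862.LiftSp

variable {S : Scheme.{u}}

theorem smooth_of_local_lift {V U : Over S} (h : V ⟶ U) [LocallyOfFinitePresentation h.left]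
    (H : ∀ (A₀ A : Over S) (i : A₀ ⟶ A), Th i → IsAffine A.left → ∀ (x₀ : A₀ ⟶ V) (a : A ⟶ U),
      x₀ ≫ h = i ≫ a → ∀ pt : A.left, ∃ (B : Over S) (e : B ⟶ A) (x : B ⟶ V), IsAffine B.left ∧
        Flat e.left ∧ pt ∈ Set.range e.left ∧ x ≫ h = e ≫ a ∧
        ∀ (B₀ : Over S) (p : B₀ ⟶ B) (q : B₀ ⟶ A₀), p ≫ e = q ≫ i → p ≫ x = q ≫ x₀) :
    Smooth h.left := by
  refine SmoothLoc.smooth_of_local_lift h.left ?_
  intro A _ I hI x₀ a w p hp
  let m : CommRingCat.of A ⟶ CommRingCat.of (A ⧸ I) := CommRingCat.ofHom (Ideal.Quotient.mk I)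
  let AS : Over S := Over.mk (a ≫ U.hom)
  let A₀S : Over S := Over.mk (Spec.map m ≫ a ≫ U.hom)
  let i : A₀S ⟶ AS := Over.homMk (Spec.map m) rfl
  have hi : Th i := by
    refine AffGlue.nthick_spec (Ideal.Quotient.mk I) Ideal.Quotient.mk_surjective ?_
    rw [Ideal.mk_ker]
    exact hI
  have hx₀ : x₀ ≫ V.hom = Spec.map m ≫ a ≫ U.hom := by
    rw [← Over.w h, ← Category.assoc, w, Category.assoc]
  let x₀S : A₀S ⟶ V := Over.homMk x₀ hx₀
  let aS : AS ⟶ U := Over.homMk a rfl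
  obtain ⟨B, e, x, hB, hflat, ⟨b, hb⟩, hxe, hcomp⟩ := H A₀S AS i hi
    (inferInstanceAs (IsAffine (Spec (.of A)))) x₀S aS (by ext1; exact w)
    (⟨p, hp.isPrime⟩ : PrimeSpectrum A)
  let B' : Type u := Γ(B.left, ⊤)
  let ι : B.left ≅ Spec (CommRingCat.of B') := B.left.isoSpec
  let ε : CommRingCat.of A ⟶ CommRingCat.of B' := Spec.preimage (ι.inv ≫ e.left)
  have hε : Spec.map ε = ι.inv ≫ e.left := Spec.map_preimage _
  have hεflat : ε.hom.Flat := by
    rw [← Flat.SpecMap_iff, hε]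
    infer_instance
  let mB : CommRingCat.of B' ⟶ CommRingCat.of (B' ⧸ I.map ε.hom) :=
    CommRingCat.ofHom (Ideal.Quotient.mk (I.map ε.hom))
  let qB : CommRingCat.of (A ⧸ I) ⟶ CommRingCat.of (B' ⧸ I.map ε.hom) :=
    CommRingCat.ofHom (Ideal.quotientMap (I.map ε.hom) ε.hom Ideal.le_comap_map)
  have hqB : m ≫ qB = ε ≫ mB := by
    ext c
    rfl
  refine ⟨B', inferInstance, ε.hom, hεflat, ?_, ι.inv ≫ x.left, ?_, ?_⟩
  · intro htop
    have h1 : Spec.map ε (ι.hom b) = (⟨p, hp.isPrime⟩ : PrimeSpectrum A) := by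
      rw [hε, Scheme.Hom.comp_apply, ← hb]
      congr 1
      rw [← Scheme.Hom.comp_apply, ι.hom_inv_id]
      rfl
    have h2 : p = Ideal.comap ε.hom (ι.hom b : PrimeSpectrum B').asIdeal :=
      (congrArg PrimeSpectrum.asIdeal h1).symm
    have h3 : p.map ε.hom ≤ (ι.hom b : PrimeSpectrum B').asIdeal := by
      rw [Ideal.map_le_iff_le_comap]
      exact h2.le
    rw [htop] at h3
    exact (ι.hom b : PrimeSpectrum B').isPrime.ne_top (top_le_iff.1 h3)
  · have h1 : x.left ≫ h.left = e.left ≫ a := congrArg (fun k => k.left) hxe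
    rw [Category.assoc, h1]
    change _ = Spec.map ε ≫ a
    rw [hε, Category.assoc]
  · change Spec.map mB ≫ ι.inv ≫ x.left = Spec.map qB ≫ x₀
    have h1 : (Spec.map mB ≫ ι.inv) ≫ e.left = Spec.map qB ≫ Spec.map m := by
      rw [Category.assoc, ← hε, ← Spec.map_comp, ← Spec.map_comp, hqB]
    let B₀ : Over S := Over.mk ((Spec.map mB ≫ ι.inv) ≫ B.hom)
    let pS : B₀ ⟶ B := Over.homMk (Spec.map mB ≫ ι.inv) rfl
    let qS : B₀ ⟶ A₀S := Over.homMk (Spec.map qB) (by
      change Spec.map qB ≫ Spec.map m ≫ a ≫ U.hom = (Spec.map mB ≫ ι.inv) ≫ B.hom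
      rw [← Category.assoc, ← h1, Category.assoc]
      congr 1
      exact Over.w e)
    have h2 := hcomp B₀ pS qS (by ext1; exact h1)
    have h3 := congrArg (fun k => k.left) h2
    change (Spec.map mB ≫ ι.inv) ≫ x.left = Spec.map qB ≫ x₀ at h3
    rw [← h3, Category.assoc]

end K862.SmoothOver
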