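import Groth.Agent.IsoNat.K862.Core
import Groth.Agent.IsoNat.K862.SmoothOver

/-!
# Smoothness of charts from infinitesimal lifting
-/

set_option autoImplicit false
set_option linter.unusedSectionVars false
set_option backward.isDefEq.respectTransparency false
set_option backward.isDefEq.respectTransparency.types false

universe u

open CategoryTheory CategoryTheory.Limits AlgebraicGeometry Opposite K862.Fib K862.Yon AlgSp
open K862.LiftSp

namespace K862

variable {S : Scheme.{u}} {𝒴 : AlgSt.Cat S} [FibCat.IsFibGrpd 𝒴.p]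

theorem locP_smooth_of_fLift {U T : Over S} {y : 𝒴.p.Fiber U} {t : 𝒴.p.Fiber T} {F : Sp S}
    (hy : FLift y) (R : SpanRep y t F) (hfp : LocP @LocallyOfFinitePresentation R.π) :
    LocP @Smooth R.π := by
  intro V U' a b h ha hb w
  have hh : LocallyOfFinitePresentation h.left := hfp a b h ha hb w
  obtain ⟨b', rfl⟩ := (yon S).map_surjective b
  have hb' : Etale b'.left := (repWith_yon_map_iff _ _).1 hb
  refine SmoothOver.smooth_of_local_lift h ?_
  intro A₀ A i hi hA x₀ a' hxa pt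
  obtain ⟨s, ⟨ρ⟩⟩ := Ar.exists_pull (a' ≫ b') t
  obtain ⟨s₀, ⟨c⟩⟩ := Ar.exists_pull i s
  obtain ⟨u₀, a₀, ha₀⟩ := R.exists_mk'_of ((yon S).map x₀ ≫ a) (g := i ≫ a' ≫ b') (by
    rw [Category.assoc, w, ← Functor.map_comp_assoc, hxa, ← Functor.map_comp, Category.assoc])
    (c.comp ρ)
  obtain ⟨B, e, sB, bB, uB, aB, hB, he, hr, H⟩ := hy i hi hA s₀ s c u₀ a₀ pt
  -- the map `h_B ⟶ F`
  let β := R.mk' (bB.comp ρ) aB
  have hβπ : β ≫ R.π = (yon S).map (e ≫ a' ≫ b') := R.mk'_π _ _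
  have hβ : ∀ (B₀ : Over S) (p : B₀ ⟶ B) (q : B₀ ⟶ A₀), p ≫ e = q ≫ i →
      (yon S).map p ≫ β = (yon S).map (q ≫ x₀) ≫ a := by
    intro B₀ p q hpq
    obtain ⟨z, ⟨Ψ⟩⟩ := Ar.exists_pull q s₀
    obtain ⟨Φ, hΦ⟩ := bB.fac (Ψ.comp c) p hpq
    rw [Functor.map_comp, Category.assoc, ← ha₀, R.map_mk' Ψ, R.map_mk' Φ, R.mk'_eq_iff]
    have h1 := H z p q Φ Ψ hΦ
    simp only [Ar.comp_val] at hΦ
    refine ⟨𝟙 z, ?_, ?_⟩
    · simp only [id_val, Category.id_comp, Ar.comp_val]
      exact h1.symm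
    · simp only [id_val, Category.id_comp, Ar.comp_val]
      rw [reassoc_of% hΦ]
  -- lift to `V`
  obtain ⟨P, snd, fst, sq⟩ := ha.1 β
  obtain ⟨v, rfl⟩ := (yon S).map_surjective fst
  have hsnd : Etale snd.left := ha.2 _ _ _ sq
  have hThB : Th (pullback.snd i e) := hi.bc e
  have := hThB.closed
  have := hThB.surj
  have hc : pullback.snd i e ≫ e = pullback.fst i e ≫ i := pullback.condition.symm
  obtain ⟨k, hk1, hk2⟩ : ∃ k : (pullback i e) ⟶ P, k ≫ v = pullback.fst i e ≫ x₀ ∧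
      k ≫ snd = pullback.snd i e := by
    have h1 := sq.exists_lift ((yon S).map (pullback.fst i e ≫ x₀)) ((yon S).map (pullback.snd i e))
      (hβ _ _ _ hc).symm
    obtain ⟨k, hk1, hk2⟩ := h1
    obtain ⟨k, rfl⟩ := (yon S).map_surjective k
    exact ⟨k, (yon S).map_injective (by rw [Functor.map_comp, hk1]),
      (yon S).map_injective (by rw [Functor.map_comp, hk2])⟩
  obtain ⟨l, ⟨hl1, hl2⟩, -⟩ := K635.EtLift.over_existsUnique_lift snd (pullback.snd i e) k (𝟙 B) (by
    rw [hk2, Category.comp_id])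
  -- the two maps to `U'` agree
  have hx : (l ≫ v) ≫ h = e ≫ a' := by
    have e1 : ((l ≫ v) ≫ h) ≫ b' = (e ≫ a') ≫ b' := by
      apply (yon S).map_injective
      have e2 : (yon S).map ((l ≫ v) ≫ h) ≫ (yon S).map b' = β ≫ R.π := by
        rw [Functor.map_comp, Category.assoc, ← w, ← Category.assoc, Functor.map_comp,
          Category.assoc ((yon S).map l), sq.w, ← Category.assoc, ← Functor.map_comp, hl2,
          CategoryTheory.Functor.map_id, Category.id_comp]
      rw [Functor.map_comp, e2, hβπ, Category.assoc]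
    have e3 : pullback.snd i e ≫ (l ≫ v) ≫ h = pullback.snd i e ≫ e ≫ a' := by
      rw [Category.assoc, ← Category.assoc, hl1, ← Category.assoc, hk1, Category.assoc, hxa,
        ← Category.assoc, ← hc, Category.assoc]
    obtain ⟨l', -, hu⟩ := K635.EtLift.over_existsUnique_lift b' (pullback.snd i e)
      (pullback.snd i e ≫ e ≫ a') ((e ≫ a') ≫ b') (by rw [Category.assoc])
    rw [hu ((l ≫ v) ≫ h) ⟨e3, e1⟩, hu (e ≫ a') ⟨rfl, rfl⟩]
  refine ⟨B, e, l ≫ v, hB, he, hr, hx, ?_⟩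
  intro B₀ p q hpq
  let κ : B₀ ⟶ pullback i e := pullback.lift q p hpq.symm
  have κ1 : κ ≫ pullback.fst i e = q := pullback.lift_fst _ _ _
  have κ2 : κ ≫ pullback.snd i e = p := pullback.lift_snd _ _ _
  rw [← κ1, ← κ2, Category.assoc, ← Category.assoc _ l, hl1, hk1, Category.assoc]

end K862
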