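import Groth.Agent.IsoNat.K862.Atlas
import Groth.Agent.IsoNat.K862.SmoothRep
import Groth.Agent.IsoNat.K862.Lfp
import Groth.Agent.AlgSt.K740.DiagRep
import Groth.Agent.AlgSt.K739.Alg

/-!
# Smooth charts under isomorphisms of presheaves of isomorphism classes
-/

set_option autoImplicit false
set_option linter.unusedSectionVars false
set_option backward.isDefEq.respectTransparency false
set_option backward.isDefEq.respectTransparency.types false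

universe u

open CategoryTheory CategoryTheory.Limits AlgebraicGeometry Opposite K862.Fib K862.Yon AlgSp
open K862.LiftSp

namespace K862

variable {S : Scheme.{u}} {𝒳 𝒴 : AlgSt.Cat S}

theorem exists_spanRep_of_diag [FibCat.IsFibGrpd 𝒴.p]
    (h : AlgSt.RepByAlgSp1 (FibCat.diag (FibCat.toSelf 𝒴))) {U : Over S}
    (y : FibCat.overCat U ⥤ᵇ 𝒴) {T : Over S} (t : 𝒴.p.Fiber T) :
    ∃ (F : AlgSp.Space S), Nonempty (SpanRep (objOf y) t F.obj) := by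
  have h1 : AlgSt.RepByAlgSp1 y := (K740.DiagRep.repByAlgSp1_diag_iff inferInstance).1 h U y
  have h2 : AlgSt.RepByAlgSpWith ⊤ y := fun V z => by
    obtain ⟨F, e, he⟩ := h1 V z
    exact ⟨F, e, he, trivial⟩
  obtain ⟨F, R, -⟩ := exists_spanRep h2 t
  exact ⟨F, ⟨R⟩⟩

variable [FibCat.IsFibGrpd 𝒳.p] [FibCat.IsFibGrpd 𝒴.p]

theorem cor_of_objCls {φ : IsoNat.FIso 𝒳 𝒴} {U : Over S} {x : FibCat.overCat U ⥤ᵇ 𝒳}
    {y : FibCat.overCat U ⥤ᵇ 𝒴} (h : φ.toEquiv U (IsoNat.objCls x) = IsoNat.objCls y) :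
    Cor φ (objOf x) (objOf y) := h

theorem repByAlgSpWith_lfp (hLim : LfpLim S)
    (h𝒴d : AlgSt.RepByAlgSp1 (FibCat.diag (FibCat.toSelf 𝒴)))
    (h𝒴i : AlgSt.RepByAlgSpWith (AlgSp.LocP @LocallyOfFinitePresentation)
      (FibCat.inertiaToBase (FibCat.toSelf 𝒴)))
    (φ : IsoNat.FIso 𝒳 𝒴) {U : Over S} (x : FibCat.overCat U ⥤ᵇ 𝒳) (y : FibCat.overCat U ⥤ᵇ 𝒴)
    (hxy : φ.toEquiv U (IsoNat.objCls x) = IsoNat.objCls y)
    (hx : AlgSt.RepByAlgSpWith (AlgSp.LocP @LocallyOfFinitePresentation) x) :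
    AlgSt.RepByAlgSpWith (AlgSp.LocP @LocallyOfFinitePresentation) y :=
  repByAlgSpWith_of_spanRep fun t => by
    obtain ⟨F, ⟨R⟩⟩ := exists_spanRep_of_diag h𝒴d y t
    exact ⟨F, R, locP_lfp hLim (cor_of_objCls hxy) (fun _ s => exists_spanRep hx s)
      (fun _ t => exists_autRep t h𝒴i) R⟩

theorem repByAlgSpWith_smooth (h𝒴 : AlgSt.IsAlgStack Scheme.fppfPrecoverage 𝒴)
    (h𝒴d : AlgSt.RepByAlgSpWith (AlgSp.IsSeparatedMor ⊓ AlgSp.IsQuasiCompactMor)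
      (FibCat.diag (FibCat.toSelf 𝒴)))
    (φ : IsoNat.FIso 𝒳 𝒴) {U : Over S} (x : FibCat.overCat U ⥤ᵇ 𝒳) (y : FibCat.overCat U ⥤ᵇ 𝒴)
    (hxy : φ.toEquiv U (IsoNat.objCls x) = IsoNat.objCls y)
    (hx : AlgSt.RepByAlgSpWith (AlgSp.LocP @Smooth) x)
    (hy : AlgSt.RepByAlgSpWith (AlgSp.LocP @LocallyOfFinitePresentation) y) :
    AlgSt.RepByAlgSpWith (AlgSp.LocP @Smooth) y :=
  repByAlgSpWith_of_spanRep fun t => by
    obtain ⟨F, R, hR⟩ := exists_spanRep hy t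
    exact ⟨F, R, locP_smooth_of_fLift (fLift_of_eLift (cor_of_objCls hxy)
      (eLift_of_spanRep (fun _ s => exists_spanRep hx s)) (autChart_of_diag h𝒴d)
      (locAtlas_of_hasAtlas h𝒴.atlas)) R hR⟩

/-- S15473 modulo S10024. -/
theorem smooth_chart (hLim : LfpLim S)
    (h𝒴 : AlgSt.IsAlgStack Scheme.fppfPrecoverage 𝒴)
    (h𝒴d : AlgSt.RepByAlgSpWith (AlgSp.IsSeparatedMor ⊓ AlgSp.IsQuasiCompactMor)
      (FibCat.diag (FibCat.toSelf 𝒴)))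
    (h𝒴i : AlgSt.RepByAlgSpWith (AlgSp.LocP @LocallyOfFinitePresentation)
      (FibCat.inertiaToBase (FibCat.toSelf 𝒴)))
    (φ : IsoNat.FIso 𝒳 𝒴) {U : Over S} (x : FibCat.overCat U ⥤ᵇ 𝒳) (y : FibCat.overCat U ⥤ᵇ 𝒴)
    (hxy : φ.toEquiv U (IsoNat.objCls x) = IsoNat.objCls y)
    (hfp : AlgSt.RepByAlgSpWith (AlgSp.LocP @LocallyOfFinitePresentation) x)
    (hx : AlgSt.RepByAlgSpWith (AlgSp.LocP @Smooth) x) :
    AlgSt.RepByAlgSpWith (AlgSp.LocP @LocallyOfFinitePresentation) y ∧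
      AlgSt.RepByAlgSpWith (AlgSp.LocP @Smooth) y := by
  have h1 := repByAlgSpWith_lfp hLim h𝒴.diag h𝒴i φ x y hxy hfp
  exact ⟨h1, repByAlgSpWith_smooth h𝒴 h𝒴d φ x y hxy hx h1⟩

end K862
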