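import Groth.Agent.IsoNat.K862.Dual
import Mathlib.AlgebraicGeometry.Morphisms.FormallyUnramified
import Mathlib.RingTheory.Kaehler.Basic
import Mathlib.RingTheory.SimpleModule.Basic

/-!
# The tangent vector criterion for formally unramified morphisms
-/

set_option autoImplicit false
universe u
open CategoryTheory CategoryTheory.Limits AlgebraicGeometry

namespace K862.TanCrit

open K862.Dual K864.Cross K864

noncomputable section

/-- A finitely generated module without nonzero maps to the residue fields is zero. -/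
theorem subsingleton_of_forall {A M : Type u} [CommRing A] [AddCommGroup M] [Module A M]
    [Module.Finite A M] (h : ∀ (m : Ideal A) [m.IsMaximal] (l : M →ₗ[A] A ⧸ m), l = 0) :
    Subsingleton M := by
  by_contra hM
  rw [not_subsingleton_iff_nontrivial] at hM
  obtain ⟨N, hN⟩ := IsCoatomic.exists_coatom (Submodule A M)
  have hs : IsSimpleModule A (M ⧸ N) := isSimpleModule_iff_isCoatom.2 hN
  obtain ⟨m, hm, ⟨e⟩⟩ := isSimpleModule_iff_quot_maximal.1 hs
  have h1 := h m (e.toLinearMap.comp N.mkQ)
  apply hN.1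
  rw [eq_top_iff]
  intro x _
  have h2 : e (N.mkQ x) = 0 := congrArg (fun l => l x) h1
  have h3 : N.mkQ x = 0 := by simpa using h2
  simpa using h3

/-- The ring map attached to a derivation. -/
def derHom {R A K : Type u} [CommRing R] [CommRing A] [CommRing K] [Algebra R A] [Algebra R K]
    [Algebra A K] [IsScalarTower R A K] (D : Derivation R A K) : A →+* dn K where
  toFun a := dn.mk (algebraMap A K a) (D a)
  map_one' := by ext <;> simp
  map_zero' := by ext <;> simp
  map_mul' a b := by
    ext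
    · simp
    · simp only [dn.snd_mk, dn.snd_mul, dn.fst_mk, Derivation.leibniz, Algebra.smul_def]
      ring
  map_add' a b := by ext <;> simp

theorem formallyUnramified_alg (R A : Type u) [CommRing R] [CommRing A] [Algebra R A]
    [Algebra.FiniteType R A]
    (H : ∀ (m : Ideal A) [m.IsMaximal] (g : A →+* dn (A ⧸ m)),
      (fstH _).comp g = Ideal.Quotient.mk m →
      g.comp (algebraMap R A) = ((inlH _).comp (Ideal.Quotient.mk m)).comp (algebraMap R A) →
      g = (inlH _).comp (Ideal.Quotient.mk m)) : Algebra.FormallyUnramified R A := by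
  constructor
  refine subsingleton_of_forall (A := A) (fun m hm l => ?_)
  let D : Derivation R A (A ⧸ m) := (KaehlerDifferential.linearMapEquivDerivation R A) l
  have h1 : derHom D = (inlH _).comp (Ideal.Quotient.mk m) := by
    refine H m (derHom D) ?_ ?_
    · ext a; rfl
    · ext r
      · rfl
      · change D (algebraMap R A r) = 0
        simp
  have h2 : D = 0 := by
    ext a
    exact congrArg (fun g => (g a).snd) h1
  have h3 : (KaehlerDifferential.linearMapEquivDerivation R A) l = 0 := h2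
  simpa using h3

theorem formallyUnramified_of_tangent {X Y : Scheme.{u}} (f : X ⟶ Y) [LocallyOfFiniteType f]
    (H : ∀ (K : Type u) [Field K] (v : Spec (.of K) ⟶ X) (h : Spec (.of (dn K)) ⟶ X),
      Spec.map (CommRingCat.ofHom (fstH K)) ≫ h = v →
      h ≫ f = Spec.map (CommRingCat.ofHom (inlH K)) ≫ v ≫ f →
      h = Spec.map (CommRingCat.ofHom (inlH K)) ≫ v) : FormallyUnramified f := by
  rw [formallyUnramified_iff]
  intro U hU V hV e
  have hft : (f.appLE U V e).hom.FiniteType := f.finiteType_appLE hU hV e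
  let _ := (f.appLE U V e).hom.toAlgebra
  have : Algebra.FiniteType Γ(Y, U) Γ(X, V) := hft
  refine formallyUnramified_alg Γ(Y, U) Γ(X, V) (fun m hm g h1 h2 => ?_)
  let _ := Ideal.Quotient.field m
  have key := H (Γ(X, V) ⧸ m) (Spec.map (CommRingCat.ofHom (Ideal.Quotient.mk m)) ≫ hV.fromSpec)
    (Spec.map (CommRingCat.ofHom g) ≫ hV.fromSpec) ?_ ?_
  · rw [← Category.assoc, cancel_mono, ← Spec.map_comp] at key
    have := Spec.map_injective key
    exact congrArg (fun t => t.hom) this
  · rw [← Category.assoc, ← Spec.map_comp, ← CommRingCat.ofHom_comp, h1]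
  · rw [Category.assoc, Category.assoc, ← hU.SpecMap_appLE_fromSpec f hV e, ← Category.assoc,
      ← Category.assoc, ← Category.assoc, ← Spec.map_comp, ← Spec.map_comp, ← Spec.map_comp]
    congr 2
    exact CommRingCat.hom_ext h2

/-! ### The dual numbers over a ring as a product -/

/-- The structure map. -/
def alg (K : Type u) [CommRing K] : kk.{u} →+* K := (Int.castRingHom K).comp (ULift.ringEquiv.toRingHom)

theorem alg_unique {K : Type u} [CommRing K] (f g : kk.{u} →+* K) : f = g := by
  have h : f.comp ULift.ringEquiv.symm.toRingHom = g.comp ULift.ringEquiv.symm.toRingHom :=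
    Subsingleton.elim _ _
  ext x
  have := congrArg (fun t => t x.down) h
  exact this

theorem isPushout_dn (K : Type u) [CommRing K] :
    IsPushout (CommRingCat.ofHom (alg K)) (CommRingCat.ofHom (inlH kk.{u}))
      (CommRingCat.ofHom (inlH K)) (CommRingCat.ofHom (dmap (alg K) 1)) := by
  refine ⟨⟨?_⟩, ⟨PushoutCocone.IsColimit.mk _ (fun s => ?_) (fun s => ?_) (fun s => ?_)
    (fun s m h1 h2 => ?_)⟩⟩
  · rw [← CommRingCat.ofHom_comp, ← CommRingCat.ofHom_comp]
    congr 1
    exact alg_unique _ _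
  · refine CommRingCat.ofHom
      { toFun := fun x => s.inl.hom x.fst + s.inl.hom x.snd * s.inr.hom (dn.mk 0 1)
        map_one' := by simp
        map_zero' := by simp
        map_add' := fun x y => by simp; ring
        map_mul' := fun x y => ?_ }
    have h0 : s.inr.hom (dn.mk (0 : kk.{u}) 1) * s.inr.hom (dn.mk 0 1) = 0 := by
      rw [← map_mul]
      have : (dn.mk (0 : kk.{u}) 1) * dn.mk 0 1 = 0 := by ext <;> simp
      rw [this, map_zero]
    simp only [dn.fst_mul, dn.snd_mul, map_mul, map_add]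
    linear_combination (-(s.inl.hom x.snd) * (s.inl.hom y.snd)) * h0
  · ext x
    simp
  · ext x
    have h1 : s.inl.hom.comp (alg K) = s.inr.hom.comp (inlH kk) := alg_unique _ _
    have h2 : ∀ n : kk.{u}, s.inl.hom (alg K n) = s.inr.hom (inlH kk n) := fun n =>
      congrArg (fun t => t n) h1
    change s.inl.hom (alg K x.fst) + s.inl.hom (1 * alg K x.snd) * s.inr.hom (dn.mk 0 1) =
      s.inr.hom x
    rw [one_mul, h2, h2, ← map_mul, ← map_add]
    congr 1
    ext <;> simp
  · ext x
    have h1' : ∀ a : K, m.hom (inlH K a) = s.inl.hom a := fun a =>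
      congrArg (fun t => t.hom a) h1
    have h2' : ∀ a : dn kk.{u}, m.hom (dmap (alg K) 1 a) = s.inr.hom a := fun a =>
      congrArg (fun t => t.hom a) h2
    change m.hom x = s.inl.hom x.fst + s.inl.hom x.snd * s.inr.hom (dn.mk 0 1)
    rw [← h1', ← h1', ← h2', ← map_mul, ← map_add]
    congr 1
    ext <;> simp

theorem isPullback_dn (K : Type u) [CommRing K] :
    IsPullback (Spec.map (CommRingCat.ofHom (inlH K)))
      (Spec.map (CommRingCat.ofHom (dmap (alg K) 1)) : Spec (.of (dn K)) ⟶ D0.{u})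
      (terminal.from (Spec (CommRingCat.of K))) (terminal.from D0) := by
  have h1 := isPullback_SpecMap_of_isPushout _ _ _ _ (isPushout_dn K)
  have h2 : IsIso (terminal.from (Spec (CommRingCat.of kk.{u}))) :=
    isIso_of_isTerminal specULiftZIsTerminal terminalIsTerminal _
  exact h1.of_iso (Iso.refl _) (Iso.refl _) (Iso.refl _)
    (asIso (terminal.from (Spec (CommRingCat.of kk.{u})))) (by simp) (by simp)
    (Subsingleton.elim _ _) (Subsingleton.elim _ _)

open Prd

/-- The tangent vector criterion over `S`. -/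
theorem formallyUnramified_over {S : Scheme.{u}} {V T : Over S} (g : V ⟶ T)
    [LocallyOfFiniteType g.left]
    (H : ∀ (T₁ : Over S) (_ : IsAffine T₁.left) (v : T₁ ⟶ V) (h : prd T₁ D0.{u} ⟶ V),
      mapR T₁ e₀.{u} ≫ h = p₁ T₁ pt.{u} ≫ v → h ≫ g = p₁ T₁ D0.{u} ≫ v ≫ g →
      h = p₁ T₁ D0.{u} ≫ v) : FormallyUnramified g.left := by
  refine formallyUnramified_of_tangent g.left (fun K _ v h h1 h2 => ?_)
  let T₁ : Over S := Over.mk (v ≫ V.hom)
  let v' : T₁ ⟶ V := Over.homMk v rfl
  have haff : IsAffine T₁.left := inferInstanceAs (IsAffine (Spec _))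
  let κ : (prd T₁ D0.{u}).left ≅ Spec (.of (dn K)) :=
    (K864.Prd.isPullback T₁ D0.{u}).isoIsPullback _ _ (isPullback_dn K)
  have κ1 : κ.hom ≫ Spec.map (CommRingCat.ofHom (inlH K)) = (p₁ T₁ D0.{u}).left :=
    (K864.Prd.isPullback T₁ D0.{u}).isoIsPullback_hom_fst _ _ (isPullback_dn K)
  have κ2 : κ.hom ≫ Spec.map (CommRingCat.ofHom (dmap (alg K) 1)) = p₂ T₁ D0.{u} :=
    (K864.Prd.isPullback T₁ D0.{u}).isoIsPullback_hom_snd _ _ (isPullback_dn K)
  have hw : κ.hom ≫ h ≫ V.hom = (prd T₁ D0.{u}).hom := by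
    have e1 : h ≫ V.hom = Spec.map (CommRingCat.ofHom (inlH K)) ≫ v ≫ V.hom := by
      rw [← Over.w g, reassoc_of% h2]
    rw [e1, reassoc_of% κ1]
    exact Over.w (p₁ T₁ D0.{u})
  let h' : prd T₁ D0.{u} ⟶ V := Over.homMk (κ.hom ≫ h) (by rw [Category.assoc]; exact hw)
  have hred : (mapR T₁ e₀.{u}).left ≫ κ.hom =
      (p₁ T₁ pt.{u}).left ≫ Spec.map (CommRingCat.ofHom (fstH K)) := by
    apply (isPullback_dn K).hom_ext
    · rw [Category.assoc, κ1, Category.assoc, ← Spec.map_comp, ← Over.comp_left, mapR_p₁]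
      have : CommRingCat.ofHom (inlH K) ≫ CommRingCat.ofHom (fstH K) = 𝟙 _ := rfl
      rw [this, Spec.map_id]
      exact (Category.comp_id _).symm
    · rw [Category.assoc, κ2]
      refine (mapR_p₂ T₁ e₀.{u}).trans ?_
      have e4 : Spec.map (CommRingCat.ofHom (fstH K)) ≫
          (Spec.map (CommRingCat.ofHom (dmap (alg K) 1)) : Spec (.of (dn K)) ⟶ D0.{u}) =
          (Spec.map (CommRingCat.ofHom (alg K)) : Spec (.of K) ⟶ pt.{u}) ≫ e₀ := by
        change Spec.map _ ≫ Spec.map _ = Spec.map _ ≫ Spec.map _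
        rw [← Spec.map_comp, ← Spec.map_comp]
        rfl
      have e5 : p₂ T₁ pt.{u} = (p₁ T₁ pt.{u}).left ≫
          (Spec.map (CommRingCat.ofHom (alg K)) : Spec (.of K) ⟶ pt.{u}) :=
        isTerminalPt.hom_ext _ _
      rw [Category.assoc, e5]
      exact (Category.assoc _ _ _).trans (congrArg (fun k => (p₁ T₁ pt.{u}).left ≫ k) e4.symm)
  have key := H T₁ haff v' h' ?_ ?_
  · have := congrArg (fun k => k.left) key
    have k2 : κ.hom ≫ h = (p₁ T₁ D0.{u}).left ≫ v := this
    rw [← κ1, Category.assoc] at k2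
    exact (cancel_epi κ.hom).1 k2
  · apply Over.OverMorphism.ext
    change (mapR T₁ e₀.{u}).left ≫ κ.hom ≫ h = (p₁ T₁ pt.{u}).left ≫ v
    rw [reassoc_of% hred, h1]
  · apply Over.OverMorphism.ext
    change (κ.hom ≫ h) ≫ g.left = (p₁ T₁ D0.{u}).left ≫ v ≫ g.left
    rw [Category.assoc, h2, reassoc_of% κ1]

end

end K862.TanCrit
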