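import Groth.Agent.IsoNat.K864.Cross
import Groth.Agent.IsoNat.K862.AffGlue
import Mathlib.Algebra.TrivSqZeroExt.Basic

/-!
# Dual numbers over the line and the punctured line
-/

set_option autoImplicit false
universe u
open CategoryTheory CategoryTheory.Limits AlgebraicGeometry Polynomial

namespace K862.Dual

open K864.Cross K864

noncomputable section

/-- Dual numbers over `A`. -/
def dn (A : Type u) : Type u := TrivSqZeroExt A A

instance instCommRing (A : Type u) [CommRing A] : CommRing (dn A) :=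
  inferInstanceAs (CommRing (TrivSqZeroExt A A))

namespace dn

section

variable {A : Type u}

/-- The dual number `a + b ε`. -/
def mk (a b : A) : dn A := (a, b)

/-- constant part -/
def fst (x : dn A) : A := TrivSqZeroExt.fst x

/-- coefficient of `ε` -/
def snd (x : dn A) : A := TrivSqZeroExt.snd x

@[simp] theorem fst_mk (a b : A) : (mk a b).fst = a := rfl
@[simp] theorem snd_mk (a b : A) : (mk a b).snd = b := rfl

@[ext] theorem ext {x y : dn A} (h₁ : x.fst = y.fst) (h₂ : x.snd = y.snd) : x = y :=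
  TrivSqZeroExt.ext h₁ h₂

end

variable {A : Type u} [CommRing A]

@[simp] theorem fst_zero : (0 : dn A).fst = 0 := rfl
@[simp] theorem snd_zero : (0 : dn A).snd = 0 := rfl
@[simp] theorem fst_one : (1 : dn A).fst = 1 := rfl
@[simp] theorem snd_one : (1 : dn A).snd = 0 := rfl
@[simp] theorem fst_add (x y : dn A) : (x + y).fst = x.fst + y.fst := rfl
@[simp] theorem snd_add (x y : dn A) : (x + y).snd = x.snd + y.snd := rfl
@[simp] theorem fst_mul (x y : dn A) : (x * y).fst = x.fst * y.fst := rfl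
@[simp] theorem snd_mul (x y : dn A) : (x * y).snd = x.fst * y.snd + x.snd * y.fst := rfl

end dn

section

variable {A B C : Type u} [CommRing A] [CommRing B] [CommRing C]

/-- `a + c ε ↦ f a + b (f c) ε`. -/
def dmap (f : A →+* B) (b : B) : dn A →+* dn B where
  toFun x := dn.mk (f x.fst) (b * f x.snd)
  map_one' := by ext <;> simp
  map_zero' := by ext <;> simp
  map_mul' x y := by
    ext
    · simp
    · simp only [dn.snd_mk, dn.snd_mul, dn.fst_mk, map_add, map_mul]
      ring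
  map_add' x y := by
    ext
    · simp
    · simp [mul_add]

@[simp] theorem fst_dmap (f : A →+* B) (b : B) (x : dn A) : (dmap f b x).fst = f x.fst := rfl
@[simp] theorem snd_dmap (f : A →+* B) (b : B) (x : dn A) : (dmap f b x).snd = b * f x.snd := rfl

theorem dmap_comp (f : A →+* B) (b : B) (g : B →+* C) (c : C) :
    (dmap g c).comp (dmap f b) = dmap (g.comp f) (c * g b) := by
  ext x
  · simp
  · simp [mul_assoc]

theorem dmap_id : dmap (RingHom.id A) 1 = RingHom.id _ := by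
  ext x
  · simp
  · simp

/-- `ε ↦ 0`. -/
def fstH (A : Type u) [CommRing A] : dn A →+* A where
  toFun x := x.fst
  map_one' := rfl
  map_zero' := rfl
  map_mul' _ _ := rfl
  map_add' _ _ := rfl

@[simp] theorem fstH_apply (x : dn A) : fstH A x = x.fst := rfl

/-- Constants. -/
def inlH (A : Type u) [CommRing A] : A →+* dn A where
  toFun x := dn.mk x 0
  map_one' := rfl
  map_zero' := rfl
  map_mul' _ _ := by ext <;> simp
  map_add' _ _ := by ext <;> simp

@[simp] theorem fst_inlH (x : A) : (inlH A x).fst = x := rfl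
@[simp] theorem snd_inlH (x : A) : (inlH A x).snd = 0 := rfl

theorem fstH_inlH : (fstH A).comp (inlH A) = RingHom.id A := rfl

theorem fstH_dmap (f : A →+* B) (b : B) : (fstH B).comp (dmap f b) = f.comp (fstH A) := rfl

theorem fstH_surjective : Function.Surjective (fstH A) := fun a => ⟨inlH A a, rfl⟩

theorem ker_fstH : (RingHom.ker (fstH A)) ^ 2 = ⊥ := by
  rw [pow_two, eq_bot_iff, Ideal.mul_le]
  intro x hx y hy
  have hx' : x.fst = 0 := hx
  have hy' : y.fst = 0 := hy
  rw [Ideal.mem_bot]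
  ext
  · simp [hx']
  · simp [hx', hy']

theorem dmap_zero (f : A →+* B) : dmap f 0 = (inlH B).comp (f.comp (fstH A)) := by
  ext x
  · simp
  · simp

end

/-! ### The rings -/

/-- `s⁻¹`. -/
def sInv : gmA.{u} := IsLocalization.Away.invSelf (X : kX.{u})

theorem s_mul_sInv : algebraMap kX.{u} gmA X * sInv = 1 := IsLocalization.Away.mul_invSelf _

theorem isLocalization_dn :
    letI := (dmap (algebraMap kX.{u} gmA.{u}) 1).toAlgebra
    IsLocalization.Away (inlH _ (X : kX.{u})) (dn gmA.{u}) := by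
  let _ := (dmap (algebraMap kX.{u} gmA.{u}) 1).toAlgebra
  have halg : ∀ a : dn kX.{u}, algebraMap (dn kX.{u}) (dn gmA.{u}) a =
    dmap (algebraMap kX.{u} gmA.{u}) 1 a := fun _ => rfl
  have hu : IsUnit (algebraMap (dn kX.{u}) (dn gmA.{u}) (inlH _ (X : kX.{u}))) := by
    refine IsUnit.of_mul_eq_one (inlH _ sInv) ?_
    rw [halg]
    refine dn.ext ?_ ?_
    · simp [s_mul_sInv]
    · simp
  have hpow : ∀ n : ℕ, (inlH _ (X : kX.{u})) ^ n = inlH _ ((X : kX.{u}) ^ n) := fun n =>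
    (map_pow (inlH _) _ n).symm
  refine { map_units := ?_, surj := ?_, exists_of_eq := ?_ }
  · rintro ⟨_, n, rfl⟩
    change IsUnit (algebraMap (dn kX.{u}) (dn gmA.{u}) ((inlH _ (X : kX.{u})) ^ n))
    rw [map_pow]
    exact hu.pow n
  · intro z
    obtain ⟨n, f, hf⟩ := IsLocalization.Away.surj (X : kX.{u}) z.fst
    obtain ⟨m, g, hg⟩ := IsLocalization.Away.surj (X : kX.{u}) z.snd
    refine ⟨⟨dn.mk (X ^ m * f) (X ^ n * g), ⟨(inlH _ X) ^ (n + m), n + m, rfl⟩⟩, ?_⟩
    change z * algebraMap (dn kX.{u}) (dn gmA.{u}) ((inlH _ (X : kX.{u})) ^ (n + m)) =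
      algebraMap (dn kX.{u}) (dn gmA.{u}) (dn.mk (X ^ m * f) (X ^ n * g))
    rw [hpow, halg, halg]
    refine dn.ext ?_ ?_
    · rw [dn.fst_mul, fst_dmap, fst_inlH, fst_dmap, dn.fst_mk, map_mul, ← hf, pow_add,
        map_mul, map_pow, map_pow]
      ring
    · rw [dn.snd_mul, fst_dmap, snd_dmap, fst_inlH, snd_inlH, snd_dmap, dn.snd_mk, map_mul, ← hg, pow_add,
        map_mul, map_pow, map_pow]
      simp
      ring
  · intro a b hab
    have hab' : dmap (algebraMap kX.{u} gmA.{u}) 1 a = dmap (algebraMap kX.{u} gmA.{u}) 1 b := hab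
    have h1 : algebraMap kX gmA a.fst = algebraMap kX gmA b.fst := congrArg (fun t => t.fst) hab'
    have h2 : algebraMap kX gmA a.snd = algebraMap kX gmA b.snd := by
      have := congrArg (fun t => t.snd) hab'
      simpa using this
    obtain ⟨⟨_, n, rfl⟩, hc⟩ := (IsLocalization.eq_iff_exists (Submonoid.powers (X : kX.{u})) gmA).1 h1
    obtain ⟨⟨_, m, rfl⟩, hd⟩ := (IsLocalization.eq_iff_exists (Submonoid.powers (X : kX.{u})) gmA).1 h2
    have hc' : X ^ n * a.fst = X ^ n * b.fst := hc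
    have hd' : X ^ m * a.snd = X ^ m * b.snd := hd
    refine ⟨⟨(inlH _ X) ^ (n + m), n + m, rfl⟩, ?_⟩
    change (inlH _ (X : kX.{u})) ^ (n + m) * a = (inlH _ (X : kX.{u})) ^ (n + m) * b
    rw [hpow]
    refine dn.ext ?_ ?_
    · rw [dn.fst_mul, dn.fst_mul, fst_inlH, pow_add, mul_comm (X ^ n), mul_assoc,
        hc', mul_assoc]
    · rw [dn.snd_mul, dn.snd_mul, fst_inlH, snd_inlH, pow_add, mul_assoc, hd', mul_assoc]
      simp

/-! ### The schemes -/

/-- `Spec ℤ[ε]` -/
def D0 : Scheme.{u} := Spec (CommRingCat.of (dn kk.{u}))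

/-- the line over the dual numbers -/
def A1e : Scheme.{u} := Spec (CommRingCat.of (dn kX.{u}))

/-- the punctured line over the dual numbers -/
def Gme : Scheme.{u} := Spec (CommRingCat.of (dn gmA.{u}))

/-- the point of `D0` -/
def e₀ : pt.{u} ⟶ D0 := Spec.map (CommRingCat.ofHom (fstH kk))

/-- the structure map of `D0` -/
def prD : D0.{u} ⟶ pt := Spec.map (CommRingCat.ofHom (inlH kk))

/-- the reduction of `A1e` -/
def a₀ : A1.{u} ⟶ A1e := Spec.map (CommRingCat.ofHom (fstH kX))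

/-- the reduction of `Gme` -/
def g₀ : Gm.{u} ⟶ Gme := Spec.map (CommRingCat.ofHom (fstH gmA))

/-- the projection -/
def prA : A1e.{u} ⟶ A1 := Spec.map (CommRingCat.ofHom (inlH kX))

/-- the open immersion -/
def jGme : Gme.{u} ⟶ A1e := Spec.map (CommRingCat.ofHom (dmap (algebraMap kX gmA) 1))

/-- `ε ↦ s⁻¹ ε` -/
def σ : Gme.{u} ⟶ D0 := Spec.map (CommRingCat.ofHom (dmap ((algebraMap kX gmA).comp C) sInv))

/-- `ε ↦ s ε` on the line -/
def ψ : A1e.{u} ⟶ A1e := Spec.map (CommRingCat.ofHom (dmap (RingHom.id kX) X))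

/-- `ε ↦ s ε` on the punctured line -/
def ψ' : Gme.{u} ⟶ Gme :=
  Spec.map (CommRingCat.ofHom (dmap (RingHom.id gmA) (algebraMap kX gmA X)))

/-- the projection `A1e ⟶ D0` -/
def q : A1e.{u} ⟶ D0 := Spec.map (CommRingCat.ofHom (dmap C 1))

/-- the origin `s = 0` -/
def z : D0.{u} ⟶ A1e := Spec.map (CommRingCat.ofHom (dmap ev 1))

instance isOpenImmersion_jGme : IsOpenImmersion jGme.{u} := by
  let _ := (dmap (algebraMap kX.{u} gmA.{u}) 1).toAlgebra
  have := isLocalization_dn.{u}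
  exact IsOpenImmersion.of_isLocalization (R := dn kX.{u}) (inlH _ (X : kX.{u}))

theorem g₀_jGme : g₀.{u} ≫ jGme = jGm ≫ a₀ := by
  change Spec.map _ ≫ Spec.map _ = Spec.map _ ≫ Spec.map _
  rw [← Spec.map_comp, ← Spec.map_comp]
  rfl

theorem a₀_prA : a₀.{u} ≫ prA = 𝟙 _ := by
  change Spec.map _ ≫ Spec.map _ = _
  rw [← Spec.map_comp]
  exact Spec.map_id _

theorem e₀_prD : e₀.{u} ≫ prD = 𝟙 _ := by
  change Spec.map _ ≫ Spec.map _ = _
  rw [← Spec.map_comp]
  exact Spec.map_id _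

/-- the structure map of `Gm` -/
def gmPt : Gm.{u} ⟶ pt := jGm ≫ toPt

theorem g₀_σ : g₀.{u} ≫ σ = gmPt ≫ e₀ := by
  change Spec.map _ ≫ Spec.map _ = (Spec.map _ ≫ Spec.map _) ≫ Spec.map _
  rw [← Spec.map_comp, ← Spec.map_comp, ← Spec.map_comp]
  rfl

theorem jGme_ψ : jGme.{u} ≫ ψ = ψ' ≫ jGme := by
  change Spec.map _ ≫ Spec.map _ = Spec.map _ ≫ Spec.map _
  rw [← Spec.map_comp, ← Spec.map_comp]
  congr 1
  rw [← CommRingCat.ofHom_comp, ← CommRingCat.ofHom_comp, dmap_comp, dmap_comp]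
  congr 1
  rw [one_mul, RingHom.comp_id, RingHom.id_comp, map_one, mul_one]

theorem ψ'_σ : ψ'.{u} ≫ σ = jGme ≫ q := by
  change Spec.map _ ≫ Spec.map _ = Spec.map _ ≫ Spec.map _
  rw [← Spec.map_comp, ← Spec.map_comp]
  congr 1
  rw [← CommRingCat.ofHom_comp, ← CommRingCat.ofHom_comp, dmap_comp, dmap_comp]
  congr 1
  rw [RingHom.id_comp, map_one, mul_one, RingHom.id_apply, s_mul_sInv]

theorem z_q : z.{u} ≫ q = 𝟙 _ := by
  change Spec.map _ ≫ Spec.map _ = _
  rw [← Spec.map_comp, ← CommRingCat.ofHom_comp, dmap_comp]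
  have : (ev.{u}).comp C = RingHom.id _ := RingHom.ext fun a => ev_C a
  rw [this, map_one, mul_one, dmap_id]
  exact Spec.map_id _

theorem z_ψ : z.{u} ≫ ψ = (prD ≫ zero) ≫ a₀ := by
  change Spec.map _ ≫ Spec.map _ = (Spec.map _ ≫ Spec.map _) ≫ Spec.map _
  rw [← Spec.map_comp, ← Spec.map_comp, ← Spec.map_comp]
  congr 1
  rw [← CommRingCat.ofHom_comp, ← CommRingCat.ofHom_comp, ← CommRingCat.ofHom_comp, dmap_comp,
    one_mul, ev_X, dmap_zero]

/-- The doubled line over the dual numbers. -/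
def DBe : Scheme.{u} := pushout jGme.{u} jGme

/-- The first copy. -/
def j₁ : A1e.{u} ⟶ DBe := pushout.inl jGme jGme

/-- The second copy. -/
def j₂ : A1e.{u} ⟶ DBe := pushout.inr jGme jGme

instance isOpenImmersion_j₁ : IsOpenImmersion j₁.{u} := Doubled.isOpenImmersion_inl _ _
instance isOpenImmersion_j₂ : IsOpenImmersion j₂.{u} := Doubled.isOpenImmersion_inr _ _

theorem isPullback_DBe : IsPullback jGme.{u} jGme j₁ j₂ := Doubled.isPullback_glue _ _

theorem exists_j (z : ↥DBe.{u}) : (∃ a, j₁ a = z) ∨ ∃ a, j₂ a = z :=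
  Doubled.exists_inl_or_inr _ _ z

theorem δ_aux : jGm.{u} ≫ a₀ ≫ j₁ = jGm ≫ a₀ ≫ j₂ := by
  rw [← Category.assoc, ← g₀_jGme, Category.assoc, isPullback_DBe.w, ← Category.assoc, g₀_jGme,
    Category.assoc]

/-- The reduction of the doubled line. -/
def δ : DB.{u} ⟶ DBe := pushout.desc (a₀ ≫ j₁) (a₀ ≫ j₂) δ_aux

theorem e₁_δ : e₁.{u} ≫ δ = a₀ ≫ j₁ := pushout.inl_desc _ _ _

theorem e₂_δ : e₂.{u} ≫ δ = a₀ ≫ j₂ := pushout.inr_desc _ _ _

/-! ### Density and thickenings -/

theorem std_jGme {S : Scheme.{u}} (T : Over S) :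
    IsSchemeTheoreticallyDominant (Prd.mapR T jGme.{u}).left := by
  obtain ⟨ρ, hρ⟩ := exists_retraction.{u}
  let ρ' : dn gmA.{u} →+ dn kX.{u} :=
    { toFun := fun x => dn.mk (ρ x.fst) (ρ x.snd)
      map_zero' := by
        refine dn.ext ?_ ?_
        · simp
        · simp
      map_add' := fun x y => by
        refine dn.ext ?_ ?_
        · simp
        · simp }
  refine Dense.std_mapR T (dmap (algebraMap kX.{u} gmA.{u}) 1) ρ' (fun a => ?_)
  refine dn.ext ?_ ?_
  · exact hρ a.fst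
  · change ρ (1 * algebraMap kX gmA a.snd) = a.snd
    rw [one_mul, hρ]

theorem nthick_g₀ : K635.Thick.nthick 1 g₀.{u} := K862.AffGlue.nthick_spec _ fstH_surjective ker_fstH

theorem nthick_e₀ : K635.Thick.nthick 1 e₀.{u} := K862.AffGlue.nthick_spec _ fstH_surjective ker_fstH

theorem th_g₀ {S : Scheme.{u}} (T : Over S) : LiftSp.Th (Prd.mapR T g₀.{u}) :=
  Prd.mapR_prop _ T nthick_g₀

theorem th_e₀ {S : Scheme.{u}} (T : Over S) : LiftSp.Th (Prd.mapR T e₀.{u}) :=
  Prd.mapR_prop _ T nthick_e₀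

theorem isAffine_prd {S : Scheme.{u}} (T : Over S) [IsAffine T.left] (Z : Scheme.{u}) [IsAffine Z] :
    IsAffine (Prd.prd T Z).left :=
  inferInstanceAs (IsAffine (pullback (terminal.from T.left) (terminal.from Z)))

instance isAffine_Gme : IsAffine Gme.{u} := inferInstanceAs (IsAffine (Spec _))

instance isAffine_D0 : IsAffine D0.{u} := inferInstanceAs (IsAffine (Spec _))

end

end K862.Dual
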