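import Groth.Agent.IsoNat.K863.Abel
import Groth.Agent.IsoNat.K862.Dual

/-!
# Infinitesimal automorphisms: vanishing is detected by the presheaf of isomorphism classes
-/

set_option autoImplicit false
set_option backward.isDefEq.respectTransparency false
set_option backward.isDefEq.respectTransparency.types false

universe u

open CategoryTheory CategoryTheory.Limits AlgebraicGeometry Opposite

namespace K862.TanUniq

open K863.Arr K863.Frame K863.Corr K864.Prd K864.Cross K862.Dual K863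

variable {S : Scheme.{u}} {𝒳 𝒴 : AlgSt.Cat S}

section

variable (hp : FibCat.IsFibGrpd 𝒳.p)
  (hd : AlgSt.RepByAlgSpWith (AlgSp.IsSeparatedMor ⊓ AlgSp.IsQuasiCompactMor)
      (FibCat.diag (FibCat.toSelf 𝒳))) {T : Over S} (η : 𝒳.p.Fiber T)

include hd in
theorem r_jGme_inj {h k : E hp η A1e.{u} ⟶ E hp η A1e} (e : r hp η jGme h = r hp η jGme k) :
    h = k := by
  refine Subtype.ext (Dens.hom_ext hp hd (mapR T jGme.{u}) (std_jGme T) (m_lift hp η jGme) h.2 k.2 ?_)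
  rw [← r_fac, ← r_fac, e]

end

variable {φ : IsoNat.FIso 𝒳 𝒴} (h𝒳 : Stk.IsStack (AlgSp.J S) 𝒳) (h𝒴 : Stk.IsStack (AlgSp.J S) 𝒴)
  (hd𝒴 : AlgSt.RepByAlgSpWith (AlgSp.IsSeparatedMor ⊓ AlgSp.IsQuasiCompactMor)
      (FibCat.diag (FibCat.toSelf 𝒴)))
  {T : Over S} {η : 𝒳.p.Fiber T} {η' : 𝒴.p.Fiber T} (hη : Corr φ η.2 η'.2)
  (hu : ∀ g : E h𝒳.1 η Gme.{u} ⟶ E h𝒳.1 η Gme, r h𝒳.1 η g₀ g = 𝟙 _ → g = 𝟙 _)

include hη hu h𝒳 in
/-- The glueing step: the twisted form over the doubled line is trivial. -/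
theorem exists_h (a : E h𝒴.1 η' Gme.{u} ⟶ E h𝒴.1 η' Gme) (ha : r h𝒴.1 η' g₀ a = 𝟙 _) :
    ∃ h : E h𝒴.1 η' A1e.{u} ⟶ E h𝒴.1 η' A1e, r h𝒴.1 η' jGme h = a := by
  have hp := h𝒳.1
  have hq := h𝒴.1
  have pair := openPair (T := T) isPullback_DBe.{u} exists_j
  have pair' := openPair (T := T) isPullback_DB.{u} exists_e
  -- the twisted object
  obtain ⟨F, ζ₁, ζ₂, l₁, l₂, hζ⟩ := Pair.exists_obj h𝒴 pair
    (lift_id_comp a.2 (m_lift hq η' jGme)) (m_lift hq η' jGme)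
  have hF : 𝒴.p.obj F = prd T DBe.{u} := cod l₁
  -- its reduction is trivial
  have hred : m hq η' jGm ≫ m hq η' a₀ ≫ ζ₁ = m hq η' jGm ≫ m hq η' a₀ ≫ ζ₂ := by
    have e1 : m hq η' jGm.{u} ≫ m hq η' a₀ = m hq η' g₀ ≫ m hq η' jGme := by
      rw [← m_comp, ← m_comp, g₀_jGme]
    have e2 : m hq η' g₀.{u} ≫ a.1 = m hq η' g₀ := by
      rw [← r_fac, ha, id_val, Category.id_comp]
    have e3 : m hq η' g₀.{u} ≫ m hq η' jGme ≫ ζ₂ = m hq η' g₀ ≫ m hq η' jGme ≫ ζ₁ := by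
      rw [← hζ, ← Category.assoc, ← Category.assoc, e2]
      exact Category.assoc _ _ _
    rw [← Category.assoc, e1, ← Category.assoc, e1, Category.assoc, Category.assoc, e3]
  obtain ⟨γ₀, hγ₀, hγ₁, hγ₂⟩ := Pair.exists_hom h𝒴 pair' (m_lift hq η' jGm) (m_lift hq η' jGm)
    (m_lift hq η' e₁) (m_lift hq η' e₂) (by rw [← m_comp, ← m_comp, isPullback_DB.w])
    (g := mapR T δ.{u}) (γ₁ := m hq η' a₀ ≫ ζ₁) (γ₂ := m hq η' a₀ ≫ ζ₂)
    (lift_comp' (m_lift hq η' a₀) l₁ (by rw [← mapR_comp, ← mapR_comp, e₁_δ]))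
    (lift_comp' (m_lift hq η' a₀) l₂ (by rw [← mapR_comp, ← mapR_comp, e₂_δ])) hred
  -- the corresponding object of `𝒳`
  obtain ⟨F', hF', cF⟩ := exists_left φ hF
  obtain ⟨ξ₁, x₁⟩ := arrow_left hp hq cF (Abel.corr_E hp hq hη A1e) ζ₁ l₁
  obtain ⟨ξ₂, x₂⟩ := arrow_left hp hq cF (Abel.corr_E hp hq hη A1e) ζ₂ l₂
  obtain ⟨θ, hθ⟩ := arrow_left hp hq cF (Abel.corr_E hp hq hη DB) γ₀ hγ₀
  -- adjusting the frames
  have adj : ∀ (e : A1.{u} ⟶ DB) (j : A1e.{u} ⟶ DBe) (ξ : (E hp η A1e).1 ⟶ F')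
      (_ : 𝒳.p.IsHomLift (mapR T j) ξ) (_ : e ≫ δ = a₀ ≫ j),
      ∃ ξ' : (E hp η A1e).1 ⟶ F', 𝒳.p.IsHomLift (mapR T j) ξ' ∧ m hp η a₀ ≫ ξ' = m hp η e ≫ θ := by
    intro e j ξ hξ hw
    obtain ⟨h, hh, hh'⟩ := exists_vert hp (lift_comp' (m_lift hp η a₀) hξ rfl)
      (lift_comp' (m_lift hp η e) hθ (by rw [← mapR_comp, ← mapR_comp, hw]))
    let h₁ : E hp η A1 ⟶ E hp η A1 := ⟨h, hh⟩
    refine ⟨(r hp η prA h₁).1 ≫ ξ, lift_id_comp (r hp η prA h₁).2 hξ, ?_⟩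
    rw [← Category.assoc, ← r_fac, r_comp, a₀_prA, r_id, Category.assoc]
    exact hh'
  obtain ⟨ξ₁', x₁', hx₁⟩ := adj e₁ j₁ ξ₁ x₁ e₁_δ
  obtain ⟨ξ₂', x₂', hx₂⟩ := adj e₂ j₂ ξ₂ x₂ e₂_δ
  -- they agree over the punctured line
  have L₁ := lift_comp (m_lift hp η jGme.{u}) x₁'
  have L₂ : 𝒳.p.IsHomLift (mapR T jGme.{u} ≫ mapR T j₁) (m hp η jGme ≫ ξ₂') :=
    lift_comp' (m_lift hp η jGme.{u}) x₂' (by rw [← mapR_comp, ← mapR_comp, isPullback_DBe.w])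
  obtain ⟨g, hg, hg'⟩ := exists_vert hp L₁ L₂
  let G : E hp η Gme.{u} ⟶ E hp η Gme := ⟨g, hg⟩
  have hg1 : G = 𝟙 _ := by
    apply hu
    have LL := lift_comp (m_lift hp η g₀.{u}) L₁
    refine Subtype.ext (fac_unique hp (m hp η g₀ ≫ m hp η jGme ≫ ξ₁') (r hp η g₀ _).2
      (lift_id (E hp η Gm).2) ?_)
    rw [id_val, Category.id_comp, ← Category.assoc, r_fac, Category.assoc, hg']
    have e1 : m hp η g₀.{u} ≫ m hp η jGme = m hp η jGm ≫ m hp η a₀ := by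
      rw [← m_comp, ← m_comp, g₀_jGme]
    rw [← Category.assoc, e1, ← Category.assoc, e1, Category.assoc, Category.assoc, hx₁, hx₂,
      ← Category.assoc, ← Category.assoc, ← m_comp, ← m_comp, isPullback_DB.w]
  have hg2 : g = 𝟙 _ := congrArg Subtype.val hg1
  have hagree : m hp η jGme ≫ ξ₁' = m hp η jGme ≫ ξ₂' := by
    rw [← hg', hg2, Category.id_comp]
  -- so the object of `𝒳` is trivial
  obtain ⟨γ', hγ', -, -⟩ := Pair.exists_hom h𝒳 pair (m_lift hp η jGme) (m_lift hp η jGme)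
    (m_lift hp η j₁) (m_lift hp η j₂) (by rw [← m_comp, ← m_comp, isPullback_DBe.w])
    (g := 𝟙 _) (lift_comp' (m_lift hp η j₁) (lift_id (E hp η DBe).2) rfl |> fun _ => by
      rw [Category.comp_id]; exact x₁')
    (by rw [Category.comp_id]; exact x₂') hagree
  obtain ⟨γ, hγ⟩ := arrow_right hq cF (Abel.corr_E hp hq hη DBe) γ' hγ'
  -- comparing the frames
  obtain ⟨k₁, hk₁, hk₁'⟩ := exists_vert hq l₁ (lift_comp_id (m_lift hq η' j₁) hγ)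
  obtain ⟨k₂, hk₂, hk₂'⟩ := exists_vert hq l₂ (lift_comp_id (m_lift hq η' j₂) hγ)
  let K₁ : E hq η' A1e.{u} ⟶ E hq η' A1e := ⟨k₁, hk₁⟩
  let K₂ : E hq η' A1e.{u} ⟶ E hq η' A1e := ⟨k₂, hk₂⟩
  obtain ⟨K₂i, -, hK₂⟩ := exists_inv hq K₂
  have hK : r hq η' jGme K₁ = r hq η' jGme K₂ ≫ a := by
    refine Subtype.ext (fac_unique hq (m hq η' jGme ≫ ζ₁) (r hq η' jGme K₁).2
      (r hq η' jGme K₂ ≫ a).2 ?_)
    have c1 : (r hq η' jGme K₁).1 ≫ m hq η' jGme ≫ ζ₁ = m hq η' jGme ≫ k₁ ≫ ζ₁ := by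
      rw [← Category.assoc, r_fac, Category.assoc]
    have c2 : (r hq η' jGme K₂ ≫ a).1 ≫ m hq η' jGme ≫ ζ₁ = m hq η' jGme ≫ k₂ ≫ ζ₂ := by
      have c3 : (r hq η' jGme K₂).1 ≫ m hq η' jGme ≫ ζ₂ = m hq η' jGme ≫ k₂ ≫ ζ₂ := by
        rw [← Category.assoc, r_fac, Category.assoc]
      rw [← c3, ← hζ, comp_val, Category.assoc, Category.assoc]
    rw [c1, c2, hk₁', hk₂', ← Category.assoc, ← Category.assoc, ← m_comp, ← m_comp,
      isPullback_DBe.w]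
  refine ⟨K₂i ≫ K₁, ?_⟩
  rw [r_mul, hK, ← Category.assoc, ← r_mul, hK₂, r_one, Category.id_comp]

include hη hu h𝒳 h𝒴 hd𝒴 in
/-- An automorphism of `η'` over the dual numbers with trivial reduction is trivial, if this uniqueness
holds for `η` over the punctured line. -/
theorem eq_one (a : E h𝒴.1 η' D0.{u} ⟶ E h𝒴.1 η' D0) (ha : r h𝒴.1 η' e₀ a = 𝟙 _) : a = 𝟙 _ := by
  have hq := h𝒴.1
  obtain ⟨h, hh⟩ := exists_h h𝒳 h𝒴 hη hu (r h𝒴.1 η' σ a) (by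
    rw [r_comp, g₀_σ, ← r_comp, ha, r_one])
  -- the reduction of `h` is trivial
  have h0 : r hq η' a₀ h = 𝟙 _ := by
    apply r_jGm_inj hq hd𝒴
    rw [r_comp, ← g₀_jGme, ← r_comp, hh, r_comp, g₀_σ, ← r_comp, ha, r_one, r_one]
  have h1 : r hq η' ψ h = r hq η' q a := by
    apply r_jGme_inj hq hd𝒴
    rw [r_comp, jGme_ψ, ← r_comp, hh, r_comp, ψ'_σ, ← r_comp]
  have h2 : r hq η' z (r hq η' ψ h) = a := by
    rw [h1, r_comp, z_q, r_id]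
  rw [← h2, r_comp, z_ψ, ← r_comp, h0, r_one]

end K862.TanUniq
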