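import Groth.Agent.IsoNat.K862.Core
import Groth.Agent.IsoNat.K862.TanUniq
import Groth.Agent.IsoNat.K862.TanCrit
import Groth.Agent.AlgSp.K634.Rep

/-!
# Transfer of unramifiedness of charts along an isomorphism of presheaves of isomorphism classes
-/

set_option autoImplicit false
set_option linter.unusedSectionVars false
set_option backward.isDefEq.respectTransparency false
set_option backward.isDefEq.respectTransparency.types false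

universe u

open CategoryTheory CategoryTheory.Limits AlgebraicGeometry Opposite K862.Fib K862.Yon AlgSp

namespace K862

open LiftSp K863.Arr K863.Frame K863.Corr K864.Prd K864.Cross K862.Dual

variable {S : Scheme.{u}} {𝒳 𝒴 : AlgSt.Cat S}

/-- Uniqueness of infinitesimal lifting for the chart given by `x`. -/
def UUnq {U : Over S} (x : 𝒳.p.Fiber U) : Prop :=
  ∀ ⦃A₀ A : Over S⦄ (i : A₀ ⟶ A), Th i → IsAffine A.left → ∀ (s₀ s : 𝒳.obj) (c : s₀ ⟶ s),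
    𝒳.p.IsHomLift i c → ∀ (u u' : A ⟶ U) (a b : s ⟶ x.1), 𝒳.p.IsHomLift u a →
      𝒳.p.IsHomLift u' b → c ≫ a = c ≫ b → a = b

theorem uUnq_of_spanRep {U : Over S} {x : 𝒳.p.Fiber U}
    (H : ∀ (T : Over S) (s : 𝒳.p.Fiber T), ∃ (F : AlgSp.Space S) (R : SpanRep x s F.obj),
      LocP @FormallyUnramified R.π) : UUnq x := by
  intro A₀ A i hi hA s₀ s c hc u u' a b ha hb e
  have hs : 𝒳.p.obj s = A := cod hc
  have hs₀ : 𝒳.p.obj s₀ = A₀ := dom hc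
  let s' : 𝒳.p.Fiber A := ⟨s, hs⟩
  let s₀' : 𝒳.p.Fiber A₀ := ⟨s₀, hs₀⟩
  obtain ⟨F, R, hR⟩ := H A s'
  let a' : Ar u s' x := ⟨a, ha⟩
  let b' : Ar u' s' x := ⟨b, hb⟩
  let c' : Ar i s₀' s' := ⟨c, hc⟩
  let one : Ar (𝟙 A) s' s' := ⟨𝟙 s, lift_id hs⟩
  have := hi.closed
  have hU := K634.AffPair.unramified_unq
    ((K634.Charts.unramified_iff_locP R.π F.property (IsAlgSpace.yon_obj A)).2 hR) i hi.ker
  have h1 : R.mk' one a' = R.mk' one b' := by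
    refine hU _ _ ?_ ?_
    · rw [R.map_mk' c', R.map_mk' c', R.mk'_eq_iff]
      refine ⟨𝟙 s₀', ?_, ?_⟩
      · change 𝟙 s₀ ≫ c ≫ b = c ≫ a
        rw [Category.id_comp, e]
      · exact Category.id_comp _
    · rw [R.mk'_π, R.mk'_π]
  obtain ⟨θ, h2, h3⟩ := (R.mk'_eq_iff _ _ _ _).1 h1
  have h4 : θ.1 = 𝟙 s := (Category.comp_id θ.1).symm.trans h3
  have h5 : θ.1 ≫ b = a := h2
  rw [h4, Category.id_comp] at h5
  exact h5.symm

section Transfer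

variable {φ : IsoNat.FIso 𝒳 𝒴} (h𝒳 : Stk.IsStack (AlgSp.J S) 𝒳) (h𝒴 : Stk.IsStack (AlgSp.J S) 𝒴)
  (hd𝒴 : AlgSt.RepByAlgSpWith (AlgSp.IsSeparatedMor ⊓ AlgSp.IsQuasiCompactMor)
      (FibCat.diag (FibCat.toSelf 𝒴)))
  {U : Over S} {x : 𝒳.p.Fiber U} {y : 𝒴.p.Fiber U} (hxy : Corr φ x.2 y.2) (hx : UUnq x)

include h𝒳 hd𝒴 hxy hx in
/-- Tangent vectors of the chart `y` vanish if infinitesimal lifts of the chart `x` are unique. -/
theorem tan_unq {T : Over S} [IsAffine T.left] {η' : 𝒴.p.Fiber T} {u₁ : T ⟶ U} (a₁ : η'.1 ⟶ y.1)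
    (ha₁ : 𝒴.p.IsHomLift u₁ a₁) {u : prd T D0.{u} ⟶ U} (a : (E h𝒴.1 η' D0.{u}).1 ⟶ y.1)
    (ha : 𝒴.p.IsHomLift u a) (e : m h𝒴.1 η' e₀.{u} ≫ a = ε h𝒴.1 η' pt ≫ a₁) :
    a = ε h𝒴.1 η' D0 ≫ a₁ := by
  have hp := h𝒳.1
  have hq := h𝒴.1
  -- the corresponding object of `𝒳`
  obtain ⟨η₀, hη₀, cη⟩ := exists_left φ η'.2
  let η : 𝒳.p.Fiber T := ⟨η₀, hη₀⟩
  have hη : Corr φ η.2 η'.2 := cη
  obtain ⟨b₁, hb₁⟩ := arrow_left hp hq hxy hη a₁ ha₁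
  obtain ⟨b, hb⟩ := arrow_left hp hq hxy (K863.Abel.corr_E hp hq hη D0.{u}) a ha
  have hu₁ : mapR T e₀.{u} ≫ u = p₁ T pt.{u} ≫ u₁ :=
    base_unique (lift_comp (m_lift hq η' e₀) ha) (by rw [e]; exact lift_comp (ε_lift hq η' pt) ha₁)
  obtain ⟨β, hβ, hβ'⟩ := exists_vert hp (lift_comp (m_lift hp η e₀.{u}) hb)
    (lift_comp' (ε_lift hp η pt.{u}) hb₁ hu₁.symm)
  let B : E hp η pt.{u} ⟶ E hp η pt := ⟨β, hβ⟩
  let B' : E hp η D0.{u} ⟶ E hp η D0 := r hp η prD B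
  have e1 : m hp η e₀.{u} ≫ B'.1 = B.1 ≫ m hp η e₀ := by
    rw [← r_fac, r_comp, e₀_prD, r_id]
  have e2 : B'.1 ≫ b = ε hp η D0 ≫ b₁ := by
    refine hx (mapR T e₀.{u}) (th_e₀ T) (isAffine_prd T D0) _ _ (m hp η e₀) (m_lift hp η e₀) u
      (p₁ T D0.{u} ≫ u₁) _ _ (lift_id_comp B'.2 hb) (lift_comp (ε_lift hp η D0) hb₁) ?_
    rw [← Category.assoc, e1, Category.assoc, ← Category.assoc (m hp η e₀.{u}), m_ε]
    exact hβ'
  have hu : u = p₁ T D0.{u} ≫ u₁ :=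
    base_unique (lift_id_comp B'.2 hb) (by rw [e2]; exact lift_comp (ε_lift hp η D0) hb₁)
  -- comparison in `𝒴`
  obtain ⟨α, hα, hα'⟩ := exists_vert hq (lift_comp (ε_lift hq η' D0.{u}) ha₁) (hu ▸ ha)
  let A : E hq η' D0.{u} ⟶ E hq η' D0 := ⟨α, hα⟩
  have hA : r hq η' e₀ A = 𝟙 _ := by
    refine Subtype.ext (fac_unique hq (m hq η' e₀ ≫ ε hq η' D0 ≫ a₁) (r hq η' e₀ A).2
      (lift_id (E hq η' pt).2) ?_)
    rw [id_val, Category.id_comp, ← Category.assoc, r_fac, Category.assoc, hα', e,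
      ← Category.assoc, m_ε]
  have hA1 : A = 𝟙 _ := by
    refine TanUniq.eq_one h𝒳 h𝒴 hd𝒴 hη (fun g hg => ?_) A hA
    have := hx (mapR T g₀.{u}) (th_g₀ T) (isAffine_prd T Gme) _ _ (m hp η g₀) (m_lift hp η g₀)
      (p₁ T Gme.{u} ≫ u₁) (p₁ T Gme.{u} ≫ u₁) (g.1 ≫ ε hp η Gme ≫ b₁) (ε hp η Gme ≫ b₁)
      (lift_id_comp g.2 (lift_comp (ε_lift hp η Gme) hb₁)) (lift_comp (ε_lift hp η Gme) hb₁) (by
        rw [← Category.assoc, ← r_fac, hg, id_val, Category.id_comp])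
    refine Subtype.ext (fac_unique hp (ε hp η Gme ≫ b₁) g.2 (lift_id (E hp η Gme).2) ?_)
    rw [this, id_val, Category.id_comp]
  have : α = 𝟙 _ := congrArg Subtype.val hA1
  rw [← hα', this, Category.id_comp]

include h𝒳 h𝒴 hd𝒴 hxy hx in
theorem locP_formallyUnramified {T : Over S} {t : 𝒴.p.Fiber T} {F : Sp S} (hF : IsAlgSpace F)
    (R : SpanRep y t F) (hlfp : LocP @LocallyOfFinitePresentation R.π) :
    LocP @FormallyUnramified R.π := by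
  have hq := h𝒴.1
  rw [← K634.Charts.unramified_iff_locP R.π hF (IsAlgSpace.yon_obj T)]
  obtain ⟨V, v, hv1, hv2⟩ := hF.atlas
  obtain ⟨g, hg⟩ := (yon S).map_surjective (v ≫ R.π)
  have hw : v ≫ R.π = (yon S).map g ≫ 𝟙 _ := by rw [Category.comp_id, hg]
  refine K634.Charts.unramified_of_chart hv1 hv2 (repWith_id _ _) hw ?_
  have : LocallyOfFinitePresentation g.left := hlfp v (𝟙 _) g hv1 (repWith_id _ _) hw
  refine TanCrit.formallyUnramified_over g (fun T₁ hT₁ v₁ h h1 h2 => ?_)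
  obtain ⟨η', g₁, u₁, b₁, a₁, hm⟩ := R.exists_mk' ((yon S).map v₁ ≫ v)
  have hg₁ : g₁ = v₁ ≫ g := by
    apply (yon S).map_injective
    rw [← R.mk'_π b₁ a₁, hm, Category.assoc, Functor.map_comp, hg]
  subst hg₁
  let eD : Ar (p₁ T₁ D0.{u}) (E hq η' D0.{u}) η' := ⟨ε hq η' D0, ε_lift hq η' D0⟩
  let ep : Ar (p₁ T₁ pt.{u}) (E hq η' pt.{u}) η' := ⟨ε hq η' pt, ε_lift hq η' pt⟩
  let em : Ar (mapR T₁ e₀.{u}) (E hq η' pt.{u}) (E hq η' D0) := ⟨m hq η' e₀, m_lift hq η' e₀⟩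
  obtain ⟨u, a, ha⟩ := R.exists_mk'_of ((yon S).map h ≫ v) (g := p₁ T₁ D0.{u} ≫ v₁ ≫ g)
    (by rw [Category.assoc, ← hg, ← Functor.map_comp, h2]) (eD.comp b₁)
  have e1 : R.mk' (em.comp (eD.comp b₁)) (em.comp a) = R.mk' (ep.comp b₁) (ep.comp a₁) := by
    rw [← R.map_mk' em, ← R.map_mk' ep, ha, hm, ← Category.assoc, ← Category.assoc,
      ← Functor.map_comp, ← Functor.map_comp, h1]
  obtain ⟨θ, h3, h4⟩ := (R.mk'_eq_iff _ _ _ _).1 e1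
  have h4' : θ.1 ≫ ep.1 ≫ b₁.1 = em.1 ≫ eD.1 ≫ b₁.1 := h4
  have h5 : em.1 ≫ eD.1 = ep.1 := m_ε hq η' e₀
  have h6 : θ.1 = 𝟙 _ := by
    refine fac_unique hq (ep.1 ≫ b₁.1) θ.2 (lift_id (E hq η' pt).2) ?_
    rw [h4', ← Category.assoc, h5, Category.id_comp]
  have h3' : θ.1 ≫ ep.1 ≫ a₁.1 = em.1 ≫ a.1 := h3
  rw [h6, Category.id_comp] at h3'
  have h7 : a.1 = ε hq η' D0 ≫ a₁.1 :=
    tan_unq h𝒳 h𝒴 hd𝒴 hxy hx a₁.1 a₁.2 a.1 a.2 h3'.symm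
  have h8 : (yon S).map h ≫ v = (yon S).map (p₁ T₁ D0.{u} ≫ v₁) ≫ v := by
    rw [Functor.map_comp, Category.assoc, ← hm, R.map_mk' eD, ← ha, R.mk'_eq_iff]
    exact ⟨𝟙 _, by rw [Fib.id_val, Category.id_comp]; exact h7.symm,
      by rw [Fib.id_val, Category.id_comp]⟩
  have := (th_e₀ T₁).closed
  have := isAffine_prd T₁ D0.{u}
  apply (yon S).map_injective
  refine K634.AffPair.unramified_unq
    (K634.Formal.etale_iff.1 (K634.Formal.etale_of_repWith_etale hv1)).2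
    (mapR T₁ e₀.{u}) (th_e₀ T₁).ker _ _ ?_ h8
  rw [← Functor.map_comp, ← Functor.map_comp, h1, ← Category.assoc, mapR_p₁]

end Transfer

end K862
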