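import Groth.Agent.IsoNat.K862.Chart
import Groth.Agent.IsoNat.K862.Unram

/-!
# Unramified charts under isomorphisms of presheaves of isomorphism classes
-/

set_option autoImplicit false
set_option linter.unusedSectionVars false
set_option backward.isDefEq.respectTransparency false
set_option backward.isDefEq.respectTransparency.types false

universe u

open CategoryTheory CategoryTheory.Limits AlgebraicGeometry Opposite K862.Fib K862.Yon AlgSp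
open K862.LiftSp

namespace K862

variable {S : Scheme.{u}} {𝒳 𝒴 : AlgSt.Cat S}

theorem locP_mono {P Q : MorphismProperty Scheme.{u}} (h : P ≤ Q) {F G : Sp S} {f : F ⟶ G}
    (hf : LocP P f) : LocP Q f := fun _ _ _ _ _ ha hb w => h _ (hf _ _ _ ha hb w)

theorem locP_lft {F G : Sp S} {f : F ⟶ G} (hf : LocP @LocallyOfFinitePresentation f) :
    LocP @LocallyOfFiniteType f := fun _ _ _ _ _ ha hb w => by
  have := hf _ _ _ ha hb w
  infer_instance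

theorem locP_inf {P Q : MorphismProperty Scheme.{u}} {F G : Sp S} {f : F ⟶ G}
    (hf : LocP P f) (hg : LocP Q f) : LocP (P ⊓ Q) f :=
  fun _ _ _ _ _ ha hb w => ⟨hf _ _ _ ha hb w, hg _ _ _ ha hb w⟩

theorem repByAlgSpWith_unram (h𝒳 : Stk.IsStack (AlgSp.J S) 𝒳) (h𝒴 : Stk.IsStack (AlgSp.J S) 𝒴)
    (h𝒴d : AlgSt.RepByAlgSpWith (AlgSp.IsSeparatedMor ⊓ AlgSp.IsQuasiCompactMor)
      (FibCat.diag (FibCat.toSelf 𝒴)))
    (φ : IsoNat.FIso 𝒳 𝒴) {U : Over S} (x : FibCat.overCat U ⥤ᵇ 𝒳) (y : FibCat.overCat U ⥤ᵇ 𝒴)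
    (hxy : φ.toEquiv U (IsoNat.objCls x) = IsoNat.objCls y)
    (hx : AlgSt.RepByAlgSpWith (AlgSp.LocP @FormallyUnramified) x)
    (hy : AlgSt.RepByAlgSpWith (AlgSp.LocP @LocallyOfFinitePresentation) y) :
    AlgSt.RepByAlgSpWith (AlgSp.LocP (@LocallyOfFiniteType ⊓ @FormallyUnramified)) y := by
  have i1 : FibCat.IsFibGrpd 𝒳.p := h𝒳.1
  have i2 : FibCat.IsFibGrpd 𝒴.p := h𝒴.1
  refine repByAlgSpWith_of_spanRep fun t => ?_
  obtain ⟨F, R, hR⟩ := exists_spanRep hy t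
  refine ⟨F, R, locP_inf (locP_lft hR) ?_⟩
  exact locP_formallyUnramified h𝒳 h𝒴 h𝒴d (φ := φ) (x := objOf x) (y := objOf y) hxy
    (uUnq_of_spanRep (fun _ s => exists_spanRep hx s)) F.property R hR

/-- S15474 modulo S10024. -/
theorem unramified_chart (hLim : LfpLim S)
    (h𝒳 : AlgSt.IsAlgStack Scheme.fppfPrecoverage 𝒳)
    (h𝒴 : AlgSt.IsAlgStack Scheme.fppfPrecoverage 𝒴)
    (h𝒴d : AlgSt.RepByAlgSpWith (AlgSp.IsSeparatedMor ⊓ AlgSp.IsQuasiCompactMor)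
      (FibCat.diag (FibCat.toSelf 𝒴)))
    (h𝒴i : AlgSt.RepByAlgSpWith (AlgSp.LocP @LocallyOfFinitePresentation)
      (FibCat.inertiaToBase (FibCat.toSelf 𝒴)))
    (φ : IsoNat.FIso 𝒳 𝒴) {U : Over S} (x : FibCat.overCat U ⥤ᵇ 𝒳) (y : FibCat.overCat U ⥤ᵇ 𝒴)
    (hxy : φ.toEquiv U (IsoNat.objCls x) = IsoNat.objCls y)
    (hfp : AlgSt.RepByAlgSpWith (AlgSp.LocP @LocallyOfFinitePresentation) x)
    (hx : AlgSt.RepByAlgSpWith (AlgSp.LocP (@LocallyOfFiniteType ⊓ @FormallyUnramified)) x) :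
    AlgSt.RepByAlgSpWith (AlgSp.LocP @LocallyOfFinitePresentation) y ∧
      AlgSt.RepByAlgSpWith (AlgSp.LocP (@LocallyOfFiniteType ⊓ @FormallyUnramified)) y := by
  have i1 : FibCat.IsFibGrpd 𝒳.p := h𝒳.isStack.1
  have i2 : FibCat.IsFibGrpd 𝒴.p := h𝒴.isStack.1
  have h1 := repByAlgSpWith_lfp hLim h𝒴.diag h𝒴i φ x y hxy hfp
  refine ⟨h1, repByAlgSpWith_unram h𝒳.isStack h𝒴.isStack h𝒴d φ x y hxy ?_ h1⟩
  intro V z
  obtain ⟨F, e, he, hP⟩ := hx V z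
  exact ⟨F, e, he, locP_mono inf_le_right hP⟩

end K862
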