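import Groth.Agent.IsoNat.K862.Fib
import Groth.Prelude.Def_W4c2isonaturalstkIso

/-!
# The presheaf of isomorphism classes

For `𝒳 : AlgSt.Cat S` fibred in groupoids: `pullCls g : IsoCl 𝒳 T → IsoCl 𝒳 T'`, the presheaf
`clsPsh 𝒳 : (Over S)ᵒᵖ ⥤ Type (u+1)`, the maps `clsMap f` induced by based functors, and the
dictionary between `IsoNat.FIso 𝒳 𝒴` and natural families of bijections.
-/

set_option autoImplicit false
set_option linter.unusedSectionVars false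

universe u

open CategoryTheory AlgebraicGeometry Opposite K862.Fib

namespace K862.Cls

variable {S : Scheme.{u}} {𝒳 𝒴 𝒵 : AlgSt.Cat S}

theorem cls_eq_iff {T : Over S} (x y : 𝒳.p.Fiber T) :
    IsoNat.cls x = IsoNat.cls y ↔ Nonempty (x ≅ y) :=
  ⟨fun h => Quotient.exact h, fun h => Quotient.sound h⟩

theorem cls_eq_of_hom [FibCat.IsFibGrpd 𝒳.p] {T : Over S} {x y : 𝒳.p.Fiber T} (α : x ⟶ y) :
    IsoNat.cls x = IsoNat.cls y :=
  (cls_eq_iff x y).2 ⟨asIso α⟩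

theorem cls_eq_iff_hom [FibCat.IsFibGrpd 𝒳.p] {T : Over S} (x y : 𝒳.p.Fiber T) :
    IsoNat.cls x = IsoNat.cls y ↔ Nonempty (x ⟶ y) :=
  (cls_eq_iff x y).trans ⟨fun ⟨e⟩ => ⟨e.hom⟩, fun ⟨α⟩ => ⟨asIso α⟩⟩

theorem exists_rep {T : Over S} (c : IsoNat.IsoCl 𝒳 T) : ∃ x : 𝒳.p.Fiber T, IsoNat.cls x = c := by
  induction c using Quotient.inductionOn with
  | h x => exact ⟨x, rfl⟩

/-- A chosen representative of a class. -/
noncomputable def rep {T : Over S} (c : IsoNat.IsoCl 𝒳 T) : 𝒳.p.Fiber T :=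
  Classical.choose (exists_rep c)

@[simp] theorem cls_rep {T : Over S} (c : IsoNat.IsoCl 𝒳 T) : IsoNat.cls (rep c) = c :=
  Classical.choose_spec (exists_rep c)

section pull

variable [FibCat.IsFibGrpd 𝒳.p]

/-- Pullback of isomorphism classes. -/
noncomputable def pullCls {T' T : Over S} (g : T' ⟶ T) : IsoNat.IsoCl 𝒳 T → IsoNat.IsoCl 𝒳 T' :=
  Quotient.map (fun x => pull g x)
    (fun _ _ h => h.elim fun e => ⟨asIso (res g (pullHom g _) (pullHom g _) e.hom)⟩)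

theorem pullCls_cls {T' T : Over S} (g : T' ⟶ T) (x : 𝒳.p.Fiber T) :
    pullCls g (IsoNat.cls x) = IsoNat.cls (pull g x) := rfl

/-- The class of any lift. -/
theorem pullCls_eq {T' T : Over S} (g : T' ⟶ T) {x : 𝒳.p.Fiber T} {x' : 𝒳.p.Fiber T'}
    (a : x'.1 ⟶ x.1) [𝒳.p.IsHomLift g a] : pullCls g (IsoNat.cls x) = IsoNat.cls x' := by
  rw [pullCls_cls]
  exact cls_eq_of_hom (cmpHom g (pullHom g x) a)

theorem pullCls_id {T : Over S} (c : IsoNat.IsoCl 𝒳 T) : pullCls (𝟙 T) c = c := by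
  obtain ⟨x, rfl⟩ := exists_rep c
  have : 𝒳.p.IsHomLift (𝟙 T) (𝟙 x.1) := IsHomLift.id x.2
  exact pullCls_eq (𝟙 T) (𝟙 x.1)

theorem pullCls_comp {T'' T' T : Over S} (h : T'' ⟶ T') (g : T' ⟶ T) (c : IsoNat.IsoCl 𝒳 T) :
    pullCls (h ≫ g) c = pullCls h (pullCls g c) := by
  obtain ⟨x, rfl⟩ := exists_rep c
  rw [pullCls_cls g, pullCls_cls h]
  exact pullCls_eq (h ≫ g) (pullHom h (pull g x) ≫ pullHom g x)

/-- An arrow over `g` between representatives of `d` and `c` exists iff `d = g^* c`. -/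
theorem pullCls_eq_iff {T' T : Over S} (g : T' ⟶ T) (x : 𝒳.p.Fiber T) (x' : 𝒳.p.Fiber T') :
    pullCls g (IsoNat.cls x) = IsoNat.cls x' ↔ ∃ a : x'.1 ⟶ x.1, 𝒳.p.IsHomLift g a := by
  constructor
  · intro h
    obtain ⟨α⟩ := (cls_eq_iff_hom _ _).1 h.symm
    exact ⟨α.1 ≫ pullHom g x, inferInstance⟩
  · rintro ⟨a, ha⟩
    exact pullCls_eq g a

variable (𝒳) in
/-- The presheaf of isomorphism classes. -/
noncomputable def clsPsh : (Over S)ᵒᵖ ⥤ Type (u + 1) where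
  obj T := IsoNat.IsoCl 𝒳 T.unop
  map g := ↾(pullCls g.unop)
  map_id T := by
    ext c
    exact pullCls_id c
  map_comp g h := by
    ext c
    exact pullCls_comp h.unop g.unop c

@[simp] theorem clsPsh_map {T T' : (Over S)ᵒᵖ} (g : T ⟶ T') (c : IsoNat.IsoCl 𝒳 T.unop) :
    (clsPsh 𝒳).map g c = pullCls g.unop c := rfl

end pull

section map

variable [FibCat.IsFibGrpd 𝒳.p] [FibCat.IsFibGrpd 𝒴.p] [FibCat.IsFibGrpd 𝒵.p]

theorem mapCls_cls (f : 𝒳 ⥤ᵇ 𝒴) {T : Over S} (x : 𝒳.p.Fiber T) :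
    IsoNat.mapCls f T (IsoNat.cls x) = IsoNat.cls ((IsoNat.fibFun f T).obj x) := rfl

theorem mapCls_pullCls (f : 𝒳 ⥤ᵇ 𝒴) {T' T : Over S} (g : T' ⟶ T) (c : IsoNat.IsoCl 𝒳 T) :
    IsoNat.mapCls f T' (pullCls g c) = pullCls g (IsoNat.mapCls f T c) := by
  obtain ⟨x, rfl⟩ := exists_rep c
  rw [pullCls_cls g, mapCls_cls, mapCls_cls]
  symm
  have h : 𝒴.p.IsHomLift g (f.map (pullHom g x)) := BasedFunctor.preserves_isHomLift f g _
  exact (pullCls_eq_iff g ((IsoNat.fibFun f T).obj x) ((IsoNat.fibFun f T').obj (pull g x))).2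
    ⟨(f.map (pullHom g x) : f.obj (pull g x).1 ⟶ f.obj x.1), h⟩

/-- The map of presheaves of classes induced by a based functor. -/
noncomputable def clsMap (f : 𝒳 ⥤ᵇ 𝒴) : clsPsh 𝒳 ⟶ clsPsh 𝒴 where
  app T := ↾(IsoNat.mapCls f T.unop)
  naturality T T' g := by
    ext c
    exact mapCls_pullCls f g.unop c

@[simp] theorem clsMap_app (f : 𝒳 ⥤ᵇ 𝒴) (T : (Over S)ᵒᵖ) (c : IsoNat.IsoCl 𝒳 T.unop) :
    (clsMap f).app T c = IsoNat.mapCls f T.unop c := rfl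

/-- 2-isomorphic based functors induce the same map of classes. -/
theorem mapCls_congr {f g : 𝒳 ⥤ᵇ 𝒴} (e : f ≅ g) (T : Over S) (c : IsoNat.IsoCl 𝒳 T) :
    IsoNat.mapCls f T c = IsoNat.mapCls g T c := by
  obtain ⟨x, rfl⟩ := exists_rep c
  rw [mapCls_cls, mapCls_cls]
  refine cls_eq_of_hom ⟨e.hom.toNatTrans.app x.1, ?_⟩
  exact BasedNatTrans.isHomLift e.hom x.2

theorem clsMap_congr {f g : 𝒳 ⥤ᵇ 𝒴} (e : f ≅ g) : clsMap f = clsMap g := by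
  ext T c
  exact mapCls_congr e T.unop c

theorem mapCls_id (T : Over S) (c : IsoNat.IsoCl 𝒳 T) :
    IsoNat.mapCls (BasedFunctor.id 𝒳) T c = c := by
  obtain ⟨x, rfl⟩ := exists_rep c
  rfl

theorem mapCls_comp (f : 𝒳 ⥤ᵇ 𝒴) (g : 𝒴 ⥤ᵇ 𝒵) (T : Over S) (c : IsoNat.IsoCl 𝒳 T) :
    IsoNat.mapCls (BasedFunctor.comp f g) T c = IsoNat.mapCls g T (IsoNat.mapCls f T c) := by
  obtain ⟨x, rfl⟩ := exists_rep c
  rfl

theorem clsMap_id : clsMap (BasedFunctor.id 𝒳) = 𝟙 _ := by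
  ext T c
  exact mapCls_id T.unop c

theorem clsMap_comp (f : 𝒳 ⥤ᵇ 𝒴) (g : 𝒴 ⥤ᵇ 𝒵) :
    clsMap (BasedFunctor.comp f g) = clsMap f ≫ clsMap g := by
  ext T c
  exact mapCls_comp f g T.unop c

theorem isIso_clsMap {f : 𝒳 ⥤ᵇ 𝒴} (hf : FibCat.IsEquivOver f) : IsIso (clsMap f) := by
  obtain ⟨g, ⟨e₁⟩, ⟨e₂⟩⟩ := hf
  refine ⟨⟨clsMap g, ?_, ?_⟩⟩
  · rw [← clsMap_comp, clsMap_congr e₁, clsMap_id]
  · rw [← clsMap_comp, clsMap_congr e₂, clsMap_id]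

end map

section fiso

variable [FibCat.IsFibGrpd 𝒳.p] [FibCat.IsFibGrpd 𝒴.p]

/-- Naturality of an `FIso` in pullback form. -/
theorem toEquiv_pullCls (φ : IsoNat.FIso 𝒳 𝒴) {T' T : Over S} (g : T' ⟶ T)
    (c : IsoNat.IsoCl 𝒳 T) : φ.toEquiv T' (pullCls g c) = pullCls g (φ.toEquiv T c) := by
  obtain ⟨x, rfl⟩ := exists_rep c
  rw [pullCls_cls]
  obtain ⟨y', y, b, hb, h1, h2⟩ := φ.natural g (pull g x) x (pullHom g x) inferInstance
  rw [h1, h2]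
  exact (pullCls_eq g b).symm

theorem toEquiv_symm_pullCls (φ : IsoNat.FIso 𝒳 𝒴) {T' T : Over S} (g : T' ⟶ T)
    (c : IsoNat.IsoCl 𝒴 T) :
    (φ.toEquiv T').symm (pullCls g c) = pullCls g ((φ.toEquiv T).symm c) := by
  rw [Equiv.symm_apply_eq, toEquiv_pullCls, Equiv.apply_symm_apply]

/-- The isomorphism of presheaves attached to an `FIso`. -/
noncomputable def fIsoPsh (φ : IsoNat.FIso 𝒳 𝒴) : clsPsh 𝒳 ≅ clsPsh 𝒴 :=
  NatIso.ofComponents (fun T => (φ.toEquiv T.unop).toIso)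
    (fun {T T'} g => by
      ext c
      exact toEquiv_pullCls φ g.unop c)

@[simp] theorem fIsoPsh_hom_app (φ : IsoNat.FIso 𝒳 𝒴) (T : (Over S)ᵒᵖ)
    (c : IsoNat.IsoCl 𝒳 T.unop) : (fIsoPsh φ).hom.app T c = φ.toEquiv T.unop c := rfl

/-- An `FIso` from a natural family of bijections. -/
noncomputable def mkFIso (e : ∀ T : Over S, IsoNat.IsoCl 𝒳 T ≃ IsoNat.IsoCl 𝒴 T)
    (he : ∀ {T' T : Over S} (g : T' ⟶ T) (c : IsoNat.IsoCl 𝒳 T),
      e T' (pullCls g c) = pullCls g (e T c)) : IsoNat.FIso 𝒳 𝒴 where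
  toEquiv := e
  natural {T' T} g x' x a ha := by
    obtain ⟨y', hy'⟩ := exists_rep (e T' (IsoNat.cls x'))
    obtain ⟨y, hy⟩ := exists_rep (e T (IsoNat.cls x))
    have h : pullCls g (IsoNat.cls y) = IsoNat.cls y' := by
      rw [hy, hy', ← he, pullCls_eq g a]
    obtain ⟨b, hb⟩ := (pullCls_eq_iff g y y').1 h
    exact ⟨y', y, b, hb, hy'.symm, hy.symm⟩

/-- The inverse of an `FIso`. -/
noncomputable def symm (φ : IsoNat.FIso 𝒳 𝒴) : IsoNat.FIso 𝒴 𝒳 :=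
  mkFIso (fun T => (φ.toEquiv T).symm) (fun g c => toEquiv_symm_pullCls φ g c)

@[simp] theorem symm_toEquiv (φ : IsoNat.FIso 𝒳 𝒴) (T : Over S) :
    (symm φ).toEquiv T = (φ.toEquiv T).symm := rfl

end fiso

end K862.Cls
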