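import Groth.Agent.IsoNat.K862.FLift

/-!
# Infinitesimal lifting transfers along isomorphisms of presheaves of isomorphism classes

`ELift x` and `Cor φ x y` imply `FLift y`, given local lifts to an affine atlas with `ELift` and étale charts by
affine schemes of the automorphism sheaves.
-/

set_option autoImplicit false
set_option linter.unusedSectionVars false
set_option backward.isDefEq.respectTransparency false
set_option backward.isDefEq.respectTransparency.types false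

universe u

open CategoryTheory CategoryTheory.Limits AlgebraicGeometry Opposite K862.Fib K862.Yon AlgSp
open K862.LiftSp

namespace K862

variable {S : Scheme.{u}} {𝒳 𝒴 : AlgSt.Cat S}

/-- The automorphism sheaves of objects over affine schemes have étale charts by affine schemes. -/
def AutChart (𝒴 : AlgSt.Cat S) : Prop :=
  ∀ (A : Over S) (t : 𝒴.p.Fiber A), IsAffine A.left → ∃ (F : Sp S) (_ : AutRep t F) (T₂ : Over S)
    (q : (yon S).obj T₂ ⟶ F), IsAffine T₂.left ∧ RepWith @Etale q ∧ RepWith @Surjective q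

/-- Objects lift, locally for the flat topology, to affine schemes with infinitesimal lifting. -/
def LocAtlas (𝒴 : AlgSt.Cat S) : Prop :=
  ∀ (A : Over S) (t : 𝒴.p.Fiber A) (pt : A.left), ∃ (W : Over S) (w : 𝒴.p.Fiber W) (B : Over S)
    (e : B ⟶ A) (tB : 𝒴.p.Fiber B) (_ : Ar e tB t) (v : B ⟶ W) (_ : Ar v tB w),
    IsAffine W.left ∧ IsAffine B.left ∧ Flat e.left ∧ pt ∈ Set.range e.left ∧ ELift w

section

variable [FibCat.IsFibGrpd 𝒴.p]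

/-- The scheme `T₂` and the lift to the atlas over it. -/
theorem exists_t2 {A₀ A W : Over S} {i : A₀ ⟶ A} (hi : Th i)
    {t₀ : 𝒴.p.Fiber A₀} {t : 𝒴.p.Fiber A} (c : Ar i t₀ t) (g₀ : t₀ ⟶ t₀)
    {w : 𝒴.p.Fiber W} {v : A ⟶ W} (l : Ar v t w) (hw : ELift w) {F : Sp S} (R : AutRep t F)
    {T₂ : Over S} (q : (yon S).obj T₂ ⟶ F) (hT₂ : IsAffine T₂.left) (hq : RepWith @Etale q)
    (hq' : RepWith @Surjective q) :
    ∃ (T₂ : Over S) (π₂ : T₂ ⟶ A) (t₂ : 𝒴.p.Fiber T₂) (β : Ar π₂ t₂ t) (b : t₂ ⟶ t₂) (v₂ : T₂ ⟶ W)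
      (l₂ : Ar v₂ t₂ w), IsAffine T₂.left ∧ RepWith @Etale (R.mk' β b) ∧
      RepWith @Surjective (R.mk' β b) ∧
      ∀ ⦃B₀ : Over S⦄ (z : 𝒴.p.Fiber B₀) (p : B₀ ⟶ T₂) (r : B₀ ⟶ A₀) (γ : Ar p z t₂)
        (δ : Ar r z t₀) (g b₀ : z ⟶ z), γ.1 ≫ β.1 = δ.1 ≫ c.1 → g.1 ≫ δ.1 = δ.1 ≫ g₀.1 →
        b₀.1 ≫ γ.1 = γ.1 ≫ b.1 → γ.1 ≫ l₂.1 = (g ≫ inv b₀).1 ≫ δ.1 ≫ c.1 ≫ l.1 := by
  obtain ⟨t₂', π₂', β', b', rfl⟩ := R.exists_mk' q
  -- restriction to the thickening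
  have sq := IsPullback.of_hasPullback i π₂'
  obtain ⟨t₂₀, ⟨γ'⟩⟩ := Ar.exists_pull (pullback.snd i π₂') t₂'
  obtain ⟨δ', hδ'⟩ := c.fac (γ'.comp β') (pullback.fst i π₂') pullback.condition
  obtain ⟨g₂, hg₂⟩ := δ'.exists_res δ' g₀
  obtain ⟨b₂, hb₂⟩ := γ'.exists_res γ' b'
  obtain ⟨T₂, e₂, t₂, β₂, v₂, l₂, hT, he, hes, H⟩ := hw (pullback.snd i π₂') (hi.of_isPullback sq) hT₂
    t₂₀ t₂' γ' _ ((((δ'.comp c).comp l)).precomp (g₂ ≫ inv b₂))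
  obtain ⟨b, hb⟩ := β₂.exists_res β₂ b'
  have hmk : (yon S).map e₂ ≫ R.mk' β' b' = R.mk' (β₂.comp β') b := R.map_mk' β₂ β' b' b hb
  refine ⟨T₂, e₂ ≫ π₂', t₂, β₂.comp β', b, v₂, l₂, hT, ?_, ?_, ?_⟩
  · rw [← hmk]
    exact (repWith_isMultiplicative (S := S) @Etale).comp_mem _ _ ((repWith_yon_map_iff _ _).2 he) hq
  · rw [← hmk]
    exact (repWith_isMultiplicative (S := S) @Surjective).comp_mem _ _
      ((repWith_yon_map_iff _ _).2 hes) hq'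
  · intro B₀ z p r γ δ g b₀ h1 h2 h3
    rw [Ar.comp_val, ← Category.assoc] at h1
    have hbase : (p ≫ e₂) ≫ π₂' = r ≫ i :=
      Ar.eq_of_val ((γ.comp β₂).comp β') (δ.comp c) (by simpa using h1)
    let k : B₀ ⟶ pullback i π₂' := pullback.lift r (p ≫ e₂) hbase.symm
    have hk1 : k ≫ pullback.fst i π₂' = r := pullback.lift_fst _ _ _
    have hk2 : k ≫ pullback.snd i π₂' = p ≫ e₂ := pullback.lift_snd _ _ _
    obtain ⟨κ, hκ⟩ := γ'.fac (γ.comp β₂) k hk2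
    simp only [Ar.comp_val] at hκ hδ'
    have hκδ : κ.1 ≫ δ'.1 = δ.1 := by
      refine Ar.cancel_val (a := (κ.comp δ').cast hk1) (b := δ) c ?_
      simp only [Ar.cast_val, Ar.comp_val, Category.assoc]
      rw [hδ', reassoc_of% hκ, ← h1, Category.assoc]
    have hg : g.1 ≫ κ.1 = κ.1 ≫ g₂.1 := by
      refine Ar.cancel_val (a := κ.precomp g) (b := κ.postcomp g₂) δ' ?_
      simp only [Ar.precomp_val, Ar.postcomp_val, Category.assoc]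
      rw [hκδ, hg₂, h2, reassoc_of% hκδ]
    have hb₀ : b₀.1 ≫ κ.1 = κ.1 ≫ b₂.1 := by
      refine Ar.cancel_val (a := κ.precomp b₀) (b := κ.postcomp b₂) γ' ?_
      simp only [Ar.precomp_val, Ar.postcomp_val, Category.assoc]
      rw [hκ, hb₂, reassoc_of% h3, hb, reassoc_of% hκ]
    have hθ : (g ≫ inv b₀).1 ≫ κ.1 = κ.1 ≫ (g₂ ≫ inv b₂).1 := by
      have e1 : (inv b₀).1 ≫ κ.1 = κ.1 ≫ (inv b₂).1 := by
        rw [inv_val, inv_val, IsIso.inv_comp_eq, ← Category.assoc, hb₀, Category.assoc,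
          IsIso.hom_inv_id, Category.comp_id]
      rw [comp_val, comp_val, Category.assoc, e1, reassoc_of% hg]
    have := H z p k γ κ (by rw [hκ])
    rw [this]
    simp only [Ar.precomp_val, Ar.comp_val, Category.assoc]
    rw [← reassoc_of% hθ, reassoc_of% hκδ]

/-- Recognising the restriction of the universal automorphism. -/
theorem AutRep.exists_ar {A : Over S} {t : 𝒴.p.Fiber A} {F : Sp S} (R : AutRep t F) {T₂ Z : Over S}
    {π₂ : T₂ ⟶ A} {t₂ : 𝒴.p.Fiber T₂} {β : Ar π₂ t₂ t} {b : t₂ ⟶ t₂} {γ : Z ⟶ T₂}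
    {z : 𝒴.p.Fiber Z} {g : Z ⟶ A} {ρ : Ar g z t} {d : z ⟶ z}
    (h : (yon S).map γ ≫ R.mk' β b = R.mk' ρ d) :
    ∃ χ : Ar γ z t₂, χ.1 ≫ β.1 = ρ.1 ∧ d.1 ≫ χ.1 = χ.1 ≫ b.1 := by
  obtain ⟨z', ⟨χ'⟩⟩ := Ar.exists_pull γ t₂
  obtain ⟨b', hb'⟩ := χ'.exists_res χ' b
  rw [R.map_mk' χ' β b b' hb', R.mk'_eq_iff] at h
  obtain ⟨θ, h1, h2⟩ := h
  refine ⟨χ'.precomp (inv θ), ?_, ?_⟩
  · rw [Ar.comp_val] at h2
    rw [Ar.precomp_val, inv_val, Category.assoc, ← h2, IsIso.inv_hom_id_assoc]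
  · have h3 : b'.1 ≫ θ.1 = θ.1 ≫ d.1 := congrArg Subtype.val h1
    rw [Ar.precomp_val, inv_val, Category.assoc, ← hb', ← Category.assoc, ← Category.assoc]
    congr 1
    rw [IsIso.comp_inv_eq, Category.assoc, h3, IsIso.inv_hom_id_assoc]

end

variable [FibCat.IsFibGrpd 𝒳.p] [FibCat.IsFibGrpd 𝒴.p] {φ : IsoNat.FIso 𝒳 𝒴}

theorem core {U : Over S} {x : 𝒳.p.Fiber U} {y : 𝒴.p.Fiber U} (hxy : Cor φ x y) (hx : ELift x)
    (hAut : AutChart 𝒴) {A₀ A W : Over S} {i : A₀ ⟶ A} (hi : Th i) (hA : IsAffine A.left)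
    {t₀ : 𝒴.p.Fiber A₀} {t : 𝒴.p.Fiber A} (c : Ar i t₀ t) {u : A ⟶ U} (a : Ar u t y)
    (a₀ : Ar (i ≫ u) t₀ y) {w : 𝒴.p.Fiber W} (hW : IsAffine W.left) {v : A ⟶ W} (l : Ar v t w)
    (hw : ELift w) (pt : A.left) : Sol c a₀ pt := by
  obtain ⟨g₀, hg₀⟩ := (c.comp a).facHom a₀
  obtain ⟨F, R, T₂', q', hT₂', hq', hqs'⟩ := hAut A t hA
  obtain ⟨T₂, π₂, t₂, β, b, v₂, l₂, hT₂, hq, hqs, H₂⟩ := exists_t2 hi c g₀ l hw R q' hT₂' hq' hqs'
  -- the two maps to `W` agree on `T₂₀`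
  have sq₂ := IsPullback.of_hasPullback i π₂
  have hTh₂ : Th (pullback.snd i π₂) := hi.of_isPullback sq₂
  have hvv : (pullback.fst i π₂ ≫ i) ≫ v = pullback.snd i π₂ ≫ v₂ := by
    obtain ⟨z, ⟨γ⟩⟩ := Ar.exists_pull (pullback.snd i π₂) t₂
    obtain ⟨δ, hδ⟩ := c.fac (γ.comp β) (pullback.fst i π₂) pullback.condition
    obtain ⟨g, hg⟩ := δ.exists_res δ g₀
    obtain ⟨b₀, hb₀⟩ := γ.exists_res γ b
    have := H₂ z _ _ γ δ g b₀ hδ.symm hg hb₀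
    exact (Ar.eq_of_val (γ.comp l₂) (((δ.comp c).comp l).precomp (g ≫ inv b₀)) (by
      simp only [Ar.precomp_val, Ar.comp_val, Category.assoc]
      exact this)).symm
  obtain ⟨T', hT', jA, j₂, v', hjA, hj, hv'A, hv'₂⟩ := AffGlue.exists_glue (pullback.fst i π₂ ≫ i)
    (pullback.snd i π₂) hTh₂ v v₂ hvv
  -- the object over `T'`
  obtain ⟨t', ⟨l'⟩⟩ := Ar.exists_pull v' w
  obtain ⟨lA, hlA⟩ := l'.fac l jA hv'A
  obtain ⟨l2, hl2⟩ := l'.fac l₂ j₂ hv'₂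
  obtain ⟨s', hs'⟩ := exists_cor φ t'
  obtain ⟨sA, ⟨ν⟩⟩ := Ar.exists_pull jA s'
  have hsA : Cor φ sA t := hs'.pull ν lA
  obtain ⟨aX⟩ := hsA.ar' hxy a
  obtain ⟨T, e, sT, εs, ut, aT', hT, he, hes, HX⟩ := hx jA hjA hT' sA s' ν u aX
  obtain ⟨tT, ⟨ε⟩⟩ := Ar.exists_pull e t'
  obtain ⟨aT⟩ := (hs'.pull εs ε).ar hxy aT'
  have hbase : ∀ ⦃P : Over S⦄ (p : P ⟶ T) (r : P ⟶ A), p ≫ e = r ≫ jA → p ≫ ut = r ≫ u := by
    intro P p r hpr
    obtain ⟨z, ⟨ψ⟩⟩ := Ar.exists_pull r sA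
    obtain ⟨ξ, hξ⟩ := εs.fac (ψ.comp ν) p hpr
    exact Ar.eq_of_val (ξ.comp aT') (ψ.comp aX) (HX z p r ξ ψ hξ)
  -- the restriction to `A`
  have sqA := IsPullback.of_hasPullback jA e
  obtain ⟨tA, ⟨ρA⟩⟩ := Ar.exists_pull (pullback.fst jA e) t
  obtain ⟨ρT, hρT⟩ := ε.fac (ρA.comp lA) (pullback.snd jA e) pullback.condition.symm
  obtain ⟨d₁, hd₁⟩ := (ρA.comp a).facHom ((ρT.comp aT).cast
    (hbase _ _ pullback.condition.symm))
  -- local lift to `T₂`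
  have hAsurj : Surjective (pullback.fst jA e).left :=
    MorphismProperty.of_isPullback (P := @Surjective) (K635.Thick.isPullback_left sqA).flip hes
  have hAflat : Flat (pullback.fst jA e).left :=
    MorphismProperty.of_isPullback (P := @Flat) (K635.Thick.isPullback_left sqA).flip
      (inferInstance : Flat e.left)
  obtain ⟨ptA, hptA⟩ := (pullback.fst jA e).left.surjective pt
  obtain ⟨P, snd, fst, sqP⟩ := hq.1 (R.mk' ρA d₁)
  obtain ⟨γ', rfl⟩ := (yon S).map_surjective fst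
  have hPe : Etale snd.left := hq.2 _ _ _ sqP
  have hPs : Surjective snd.left := hqs.2 _ _ _ sqP
  obtain ⟨ptP, hptP⟩ := snd.left.surjective ptA
  obtain ⟨V, hV, hptV, -⟩ := exists_isAffineOpen_mem_and_subset (X := P.left) (x := ptP) (U := ⊤)
    trivial
  let B : Over S := Over.mk (V.ι ≫ P.hom)
  let ιB : B ⟶ P := Over.homMk V.ι rfl
  have hBaff : IsAffine B.left := hV
  let e' : B ⟶ pullback jA e := ιB ≫ snd
  let γ : B ⟶ T₂ := ιB ≫ γ'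
  have he' : Flat e'.left := by
    change Flat (V.ι ≫ snd.left)
    infer_instance
  obtain ⟨tB, ⟨η⟩⟩ := Ar.exists_pull e' tA
  obtain ⟨d, hd⟩ := η.exists_res η d₁
  obtain ⟨χ, hχ1, hχ2⟩ := R.exists_ar (β := β) (b := b) (γ := γ) (ρ := η.comp ρA) (d := d) (by
    rw [← R.map_mk' η ρA d₁ d hd, Functor.map_comp, Functor.map_comp, Category.assoc,
      Category.assoc, sqP.w])
  simp only [Ar.comp_val, Ar.cast_val] at hχ1 hρT hlA hl2 hd₁ hg₀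
  -- lift to `T`
  obtain ⟨eA, heA⟩ : ∃ eA, eA = e' ≫ pullback.fst jA e := ⟨_, rfl⟩
  have hγ : γ ≫ π₂ = eA := heA ▸ Ar.eq_of_val (χ.comp β) (η.comp ρA) hχ1
  have hThB : Th (pullback.snd i eA) := hi.bc eA
  have hk2 : ∀ ⦃Z : Over S⦄ (p : Z ⟶ B) (r : Z ⟶ A₀), p ≫ eA = r ≫ i →
      p ≫ γ ≫ j₂ = r ≫ i ≫ jA := by
    intro Z p r hpr
    let k : Z ⟶ pullback i π₂ := pullback.lift r (p ≫ γ) (by rw [Category.assoc, hγ, hpr])
    have k1 : k ≫ pullback.fst i π₂ = r := pullback.lift_fst _ _ _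
    have k2 : k ≫ pullback.snd i π₂ = p ≫ γ := pullback.lift_snd _ _ _
    rw [← Category.assoc, ← k2, Category.assoc, ← hj, Category.assoc, reassoc_of% k1]
  have hcA : pullback.snd jA e ≫ e = pullback.fst jA e ≫ jA := pullback.condition.symm
  have hcB : pullback.snd i eA ≫ eA = pullback.fst i eA ≫ i := pullback.condition.symm
  have := hThB.closed
  have := hThB.surj
  obtain ⟨m, ⟨hm1, hm2⟩, -⟩ := K635.EtLift.over_existsUnique_lift e (pullback.snd i eA)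
    (pullback.snd i eA ≫ e' ≫ pullback.snd jA e) (γ ≫ j₂) (by
      rw [hk2 (pullback.snd i eA) (pullback.fst i eA) hcB, Category.assoc, Category.assoc, hcA,
        ← Category.assoc e', ← heA, ← Category.assoc, hcB, Category.assoc])
  obtain ⟨μ, hμ⟩ := ε.fac (χ.comp l2) m hm2
  simp only [Ar.comp_val] at hμ
  refine ⟨B, eA, tB, (η.comp ρA).cast heA.symm, m ≫ ut, μ.comp aT, hBaff, ?_, ?_, ?_⟩
  · rw [heA, Over.comp_left]; infer_instance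
  · refine ⟨⟨ptP, hptV⟩, ?_⟩
    rw [← hptA, ← hptP, heA]
    rfl
  · intro B₀ z p q Φ Ψ hΦΨ
    have hpq : p ≫ eA = q ≫ i :=
      Ar.eq_of_val (Φ.comp ((η.comp ρA).cast heA.symm)) (Ψ.comp c) hΦΨ
    simp only [Ar.comp_val, Ar.cast_val] at hΦΨ ⊢
    let k : B₀ ⟶ pullback i eA := pullback.lift q p hpq.symm
    have k2 : k ≫ pullback.snd i eA = p := pullback.lift_snd _ _ _
    have hpm : p ≫ m = p ≫ e' ≫ pullback.snd jA e := by
      rw [← k2, Category.assoc, hm1]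
      simp only [Category.assoc]
    obtain ⟨g, hg⟩ := Ψ.exists_res Ψ g₀
    obtain ⟨b₀, hb₀⟩ := Φ.exists_res Φ d
    have K1 := H₂ z (p ≫ γ) q (Φ.comp χ) Ψ g b₀ (by
      rw [Ar.comp_val, Category.assoc, hχ1, hΦΨ]) hg (by
      rw [Ar.comp_val, reassoc_of% hb₀, hχ2, Category.assoc])
    simp only [Ar.comp_val, Category.assoc] at K1
    -- compare over `T'`
    have K2 : Φ.1 ≫ χ.1 ≫ l2.1 = (g ≫ inv b₀).1 ≫ Ψ.1 ≫ c.1 ≫ lA.1 := by
      have hb1 : p ≫ γ ≫ j₂ = q ≫ i ≫ jA := hk2 p q hpq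
      refine Ar.cancel_val (a := (Φ.comp (χ.comp l2)).cast hb1)
        (b := (Ψ.comp (c.comp lA)).precomp (g ≫ inv b₀)) l' ?_
      simp only [Ar.cast_val, Ar.precomp_val, Ar.comp_val, Category.assoc]
      rw [hl2, hlA, K1]
    have K3 : Φ.1 ≫ μ.1 = (g ≫ inv b₀).1 ≫ Φ.1 ≫ η.1 ≫ ρT.1 := by
      refine Ar.cancel_val (a := (Φ.comp μ).cast hpm)
        (b := (Φ.comp (η.comp ρT)).precomp (g ≫ inv b₀)) ε ?_
      simp only [Ar.cast_val, Ar.precomp_val, Ar.comp_val, Category.assoc]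
      rw [hμ, K2, hρT, reassoc_of% hΦΨ]
    rw [reassoc_of% K3, ← hd₁, ← reassoc_of% hd, ← reassoc_of% hb₀, ← Category.assoc, ← comp_val,
      Category.assoc g, IsIso.inv_hom_id, Category.comp_id, reassoc_of% hΦΨ, reassoc_of% hg, hg₀]

/-- A lifting problem pulled back along `e : B ⟶ A`. -/
theorem Sol.of_pullback {U A₀ A : Over S} {y : 𝒴.p.Fiber U} {i : A₀ ⟶ A} {t₀ : 𝒴.p.Fiber A₀}
    {t : 𝒴.p.Fiber A} (c : Ar i t₀ t) {u₀ : A₀ ⟶ U} (a₀ : Ar u₀ t₀ y) {pt : A.left} {B : Over S}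
    (e : B ⟶ A) (he : Flat e.left) (pt' : B.left) (hpt : e.left pt' = pt) {tB : 𝒴.p.Fiber B}
    (b : Ar e tB t)
    (H : ∀ (B₀ : Over S) (j : B₀ ⟶ B) (f : B₀ ⟶ A₀), IsPullback f j i e → ∀ (z : 𝒴.p.Fiber B₀)
      (c' : Ar j z tB) (d : Ar f z t₀), d.1 ≫ c.1 = c'.1 ≫ b.1 → Sol c' (d.comp a₀) pt') :
    Sol c a₀ pt := by
  obtain ⟨z, ⟨c'⟩⟩ := Ar.exists_pull (pullback.snd i e) tB
  obtain ⟨d, hd⟩ := c.fac (c'.comp b) (pullback.fst i e) pullback.condition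
  exact Sol.of_cover (IsPullback.of_hasPullback i e) he pt' hpt (w := hd)
    (H _ _ _ (IsPullback.of_hasPullback i e) z c' d hd)

/-- **Transfer of infinitesimal lifting.** -/
theorem fLift_of_eLift {U : Over S} {x : 𝒳.p.Fiber U} {y : 𝒴.p.Fiber U} (hxy : Cor φ x y)
    (hx : ELift x) (hAut : AutChart 𝒴) (hAtl : LocAtlas 𝒴) : FLift y := by
  intro A₀ A i hi hA t₀ t c u₀ a₀ pt
  -- a first lift
  obtain ⟨s, hs⟩ := exists_cor φ t
  obtain ⟨s₀, ⟨c'⟩⟩ := Ar.exists_pull i s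
  obtain ⟨a₀'⟩ := (hs.pull c' c).ar' hxy a₀
  obtain ⟨B, e, sB, b', u, a', hB, he, hes, H⟩ := hx i hi hA s₀ s c' u₀ a₀'
  obtain ⟨tB, ⟨b⟩⟩ := Ar.exists_pull e t
  obtain ⟨a⟩ := (hs.pull b' b).ar hxy a'
  have hbase : ∀ ⦃P : Over S⦄ (p : P ⟶ B) (r : P ⟶ A₀), p ≫ e = r ≫ i → p ≫ u = r ≫ u₀ := by
    intro P p r hpr
    obtain ⟨z, ⟨ψ⟩⟩ := Ar.exists_pull r s₀
    obtain ⟨ξ, hξ⟩ := b'.fac (ψ.comp c') p hpr
    exact Ar.eq_of_val (ξ.comp a') (ψ.comp a₀') (H z p r ξ ψ hξ)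
  obtain ⟨pt₁, hpt₁⟩ := e.left.surjective pt
  refine Sol.of_pullback c a₀ e inferInstance pt₁ hpt₁ b ?_
  intro B₀ j f sqB z cB d hd
  have hj : Th j := hi.of_isPullback sqB
  -- lift to the atlas
  obtain ⟨W, w, D, e', tD, bD, v, l, hW, hD, he', ⟨pt₂, hpt₂⟩, hw⟩ := hAtl B tB pt₁
  refine Sol.of_pullback cB (d.comp a₀) e' he' pt₂ hpt₂ bD ?_
  intro D₀ j' f' sqD z' cD d' hd'
  have hj' : Th j' := hj.of_isPullback sqD
  have hu : f' ≫ f ≫ u₀ = j' ≫ e' ≫ u := by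
    have h1 : j' ≫ e' = f' ≫ j := sqD.w.symm
    have h2 : j ≫ u = f ≫ u₀ := hbase j f sqB.w.symm
    rw [← Category.assoc j', h1, Category.assoc, h2]
  exact core hxy hx hAut hj' hD cD (bD.comp a) ((d'.comp (d.comp a₀)).cast hu) hW l hw pt₂

end K862
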