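import Groth.Agent.IsoNat.K862.Square
import Groth.Agent.AlgSp.K635.EtCrit

/-!
# Étale charts and Deligne-Mumford stacks under isomorphisms of presheaves of classes
-/

set_option autoImplicit false
set_option linter.unusedSectionVars false
set_option backward.isDefEq.respectTransparency false
set_option backward.isDefEq.respectTransparency.types false

universe u

open CategoryTheory CategoryTheory.Limits AlgebraicGeometry Opposite K862.Fib K862.Yon AlgSp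
open K862.LiftSp K862.Cls

namespace K862

variable {S : Scheme.{u}} {𝒳 𝒴 : AlgSt.Cat S}

theorem etale_of_smooth_unramified {X Y : Scheme.{u}} (f : X ⟶ Y) [Smooth f]
    [FormallyUnramified f] : Etale f :=
  Etale.of_formallyUnramified_of_flat f

theorem repByAlgSpWith_etale [FibCat.IsFibGrpd 𝒳.p] [FibCat.IsFibGrpd 𝒴.p]
    (h𝒳 : AlgSt.IsAlgStack Scheme.fppfPrecoverage 𝒳)
    (h𝒴 : AlgSt.IsAlgStack Scheme.fppfPrecoverage 𝒴)
    (h𝒴d : AlgSt.RepByAlgSpWith (AlgSp.IsSeparatedMor ⊓ AlgSp.IsQuasiCompactMor)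
      (FibCat.diag (FibCat.toSelf 𝒴)))
    (h𝒴i : AlgSt.RepByAlgSpWith (AlgSp.LocP @LocallyOfFinitePresentation)
      (FibCat.inertiaToBase (FibCat.toSelf 𝒴)))
    (φ : IsoNat.FIso 𝒳 𝒴) {U : Over S} (x : FibCat.overCat U ⥤ᵇ 𝒳) (y : FibCat.overCat U ⥤ᵇ 𝒴)
    (hxy : φ.toEquiv U (IsoNat.objCls x) = IsoNat.objCls y)
    (hx : AlgSt.RepByAlgSpWith (AlgSp.LocP @Etale) x) :
    AlgSt.RepByAlgSpWith (AlgSp.LocP @Etale) y := by
  have hsm : AlgSt.RepByAlgSpWith (AlgSp.LocP @Smooth) x :=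
    repByAlgSpWith_mono (fun _ _ _ hf => locP_mono (fun _ _ g hg => by
      have : Etale g := hg
      infer_instance) hf) hx
  have hun : AlgSt.RepByAlgSpWith (AlgSp.LocP @FormallyUnramified) x :=
    repByAlgSpWith_mono (fun _ _ _ hf => locP_mono (fun _ _ g hg => by
      have : Etale g := hg
      infer_instance) hf) hx
  obtain ⟨hl, hs⟩ := smooth_chart (lfpLim S) h𝒴 h𝒴d h𝒴i φ x y hxy
    (repByAlgSpWith_lfp_of_smooth hsm) hsm
  refine repByAlgSpWith_of_spanRep fun t => ?_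
  obtain ⟨F, R, hR⟩ := exists_spanRep hs t
  have hR' : LocP @LocallyOfFinitePresentation R.π := locP_mono (fun _ _ g hg => by
    have : Smooth g := hg
    infer_instance) hR
  have h1 := locP_formallyUnramified h𝒳.isStack h𝒴.isStack h𝒴d (φ := φ) (x := objOf x)
    (y := objOf y) hxy (uUnq_of_spanRep (fun _ s => exists_spanRep hun s)) F.property R hR'
  refine ⟨F, R, fun _ _ _ _ _ ha hb w => ?_⟩
  have i1 := hR _ _ _ ha hb w
  have i2 := h1 _ _ _ ha hb w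
  exact etale_of_smooth_unramified _

/-- S15469 -/
theorem isDM_of_fIso (h𝒳 : AlgSt.IsAlgStack Scheme.fppfPrecoverage 𝒳)
    (h𝒴 : AlgSt.IsAlgStack Scheme.fppfPrecoverage 𝒴)
    (h𝒴d : AlgSt.RepByAlgSpWith (AlgSp.IsSeparatedMor ⊓ AlgSp.IsQuasiCompactMor)
      (FibCat.diag (FibCat.toSelf 𝒴)))
    (h𝒴i : AlgSt.RepByAlgSpWith (AlgSp.LocP @LocallyOfFinitePresentation)
      (FibCat.inertiaToBase (FibCat.toSelf 𝒴)))
    (φ : IsoNat.FIso 𝒳 𝒴) (hdm : AlgSt.IsDM Scheme.fppfPrecoverage 𝒳) :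
    AlgSt.IsDM Scheme.fppfPrecoverage 𝒴 := by
  have i1 : FibCat.IsFibGrpd 𝒳.p := h𝒳.isStack.1
  have i2 : FibCat.IsFibGrpd 𝒴.p := h𝒴.isStack.1
  obtain ⟨-, U, x, hx, hxs⟩ := hdm
  obtain ⟨y, hxy⟩ := exists_chart φ x
  refine ⟨h𝒴, U, y, ?_, repByAlgSpWith_surjective h𝒴.diag φ x y hxy hxs⟩
  have hx' : AlgSt.RepByAlgSpWith (LocP @Etale) x :=
    repByAlgSpWith_mono (fun _ _ _ hf => K629.LocP.locP_etale_of_isEtaleMor hf) hx
  have hy := repByAlgSpWith_etale h𝒳 h𝒴 h𝒴d h𝒴i φ x y hxy hx'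
  refine repByAlgSpWith_of_spanRep fun {T} t => ?_
  obtain ⟨F, R, hR⟩ := exists_spanRep hy t
  exact ⟨F, R, K629.LocP.isEtaleMor_of_locP (IsAlgSpace.yon_obj T) hR K629.EtLocInst.etale⟩

end K862
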