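import Groth.Agent.IsoNat.K862.RepAr
import Groth.Agent.IsoNat.K862.LiftSp

/-!
# Infinitesimal lifting for an object of a fibred category, up to étale covers
-/

set_option autoImplicit false
set_option linter.unusedSectionVars false
set_option backward.isDefEq.respectTransparency false
set_option backward.isDefEq.respectTransparency.types false

universe u

open CategoryTheory CategoryTheory.Limits AlgebraicGeometry Opposite K862.Fib K862.Yon AlgSp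
open K862.LiftSp

namespace K862

variable {S : Scheme.{u}} {𝒳 : AlgSt.Cat S}

/-- Infinitesimal lifting, up to étale covers, for the object `x` over `U`. -/
def ELift {U : Over S} (x : 𝒳.p.Fiber U) : Prop :=
  ∀ ⦃A₀ A : Over S⦄ (i : A₀ ⟶ A), Th i → IsAffine A.left →
    ∀ (s₀ : 𝒳.p.Fiber A₀) (s : 𝒳.p.Fiber A) (c : Ar i s₀ s) (u₀ : A₀ ⟶ U) (a₀ : Ar u₀ s₀ x),
    ∃ (B : Over S) (e : B ⟶ A) (sB : 𝒳.p.Fiber B) (b : Ar e sB s) (u : B ⟶ U) (a : Ar u sB x),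
      IsAffine B.left ∧ Etale e.left ∧ Surjective e.left ∧
      ∀ ⦃B₀ : Over S⦄ (z : 𝒳.p.Fiber B₀) (p : B₀ ⟶ B) (q : B₀ ⟶ A₀) (φ : Ar p z sB)
        (ψ : Ar q z s₀), φ.1 ≫ b.1 = ψ.1 ≫ c.1 → φ.1 ≫ a.1 = ψ.1 ≫ a₀.1

variable [FibCat.IsFibGrpd 𝒳.p]

theorem eLift_of_spanRep {U : Over S} {x : 𝒳.p.Fiber U}
    (hx : ∀ (A : Over S) (s : 𝒳.p.Fiber A), ∃ (F : AlgSp.Space S) (R : SpanRep x s F.obj),
      LocP @Smooth R.π) : ELift x := by
  intro A₀ A i hi hA s₀ s c u₀ a₀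
  obtain ⟨F, R, hR⟩ := hx A s
  obtain ⟨B, e, x', hB, he, hes, hx', hcompat⟩ := exists_section_of_smooth i hi F.property R.π hR
    (R.mk' c a₀) (R.mk'_π c a₀)
  obtain ⟨sB, ⟨b⟩⟩ := Ar.exists_pull e s
  obtain ⟨u, a, rfl⟩ := R.exists_mk'_of x' hx' b
  refine ⟨B, e, sB, b, u, a, hB, he, hes, ?_⟩
  intro B₀ z p q φ ψ hφψ
  have hpq : p ≫ e = q ≫ i := Ar.eq_of_val (φ.comp b) (ψ.comp c) hφψ
  have h1 := hcompat B₀ p q hpq
  rw [R.map_mk' φ, R.map_mk' ψ, R.mk'_eq_iff] at h1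
  obtain ⟨θ, h2, h3⟩ := h1
  simp only [Ar.comp_val] at h2 h3
  have : θ = 𝟙 z := Ar.cancelHom (ψ.comp c) (by
    rw [Ar.comp_val, h3, hφψ, id_val, Category.id_comp])
  rw [this, id_val, Category.id_comp] at h2
  exact h2.symm

end K862
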