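import Groth.Agent.IsoNat.K862.Fib

/-!
# Equivalences over the base from full faithfulness and essential surjectivity over identities
-/

set_option autoImplicit false
set_option linter.unusedSectionVars false
set_option backward.isDefEq.respectTransparency false
set_option backward.isDefEq.respectTransparency.types false

universe v₃ u₃ v₂ u₂ v u

open CategoryTheory K862.Fib

namespace K862.Equiv

variable {C : Type u} [Category.{v} C] {𝒳 : BasedCategory.{v₂, u₂} C}
  {𝒴 : BasedCategory.{v₃, u₃} C}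

section

variable (F : 𝒳 ⥤ᵇ 𝒴) (hff : F.toFunctor.FullyFaithful)
  (ob : 𝒴.obj → 𝒳.obj) (e : ∀ η, F.obj (ob η) ≅ η)
  (he : ∀ η, 𝒴.p.IsHomLift (𝟙 (𝒴.p.obj η)) (e η).hom)

include he in
theorem lift_preimage {η η' : 𝒴.obj} (φ : η ⟶ η') :
    𝒳.p.IsHomLift (𝒴.p.map φ) (hff.preimage ((e η).hom ≫ φ ≫ (e η').inv)) := by
  rw [← F.isHomLift_iff]
  have := he η
  have := he η'
  have h : F.map (hff.preimage ((e η).hom ≫ φ ≫ (e η').inv)) = (e η).hom ≫ φ ≫ (e η').inv :=
    hff.map_preimage _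
  rw [h]
  infer_instance

/-- The inverse functor. -/
@[simps! obj map]
noncomputable def inverse : 𝒴 ⥤ᵇ 𝒳 where
  toFunctor :=
    { obj := ob
      map := fun {η η'} φ => hff.preimage ((e η).hom ≫ φ ≫ (e η').inv)
      map_id := fun η => by
        apply hff.map_injective
        rw [hff.map_preimage]
        simp
      map_comp := fun {η η' η''} φ ψ => by
        apply hff.map_injective
        rw [hff.map_preimage, F.toFunctor.map_comp, hff.map_preimage, hff.map_preimage]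
        simp }
  w := Functor.ext
    (fun η => by
      have := he η
      exact (F.w_obj (ob η)).symm.trans (IsHomLift.domain_eq 𝒴.p (𝟙 (𝒴.p.obj η)) (e η).hom))
    (fun η η' φ => by
      have := lift_preimage F hff ob e he φ
      exact IsHomLift.fac' 𝒳.p (𝒴.p.map φ) (hff.preimage ((e η).hom ≫ φ ≫ (e η').inv)))

end

theorem isEquivOver_of (F : 𝒳 ⥤ᵇ 𝒴) [hf : F.toFunctor.Full] [hf' : F.toFunctor.Faithful]
    (h : ∀ η : 𝒴.obj, ∃ (ξ : 𝒳.obj) (e : F.obj ξ ≅ η),
      𝒴.p.IsHomLift (𝟙 (𝒴.p.obj η)) e.hom) : FibCat.IsEquivOver F := by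
  choose ob e he using h
  let hff : F.toFunctor.FullyFaithful := Functor.FullyFaithful.ofFullyFaithful _
  refine ⟨inverse F hff ob e he, ⟨?_⟩, ⟨?_⟩⟩
  · refine BasedNatIso.mkNatIso (NatIso.ofComponents
      (fun ξ => hff.preimageIso (e (F.obj ξ))) ?_) ?_
    · intro ξ ξ' φ
      apply hff.map_injective
      change F.map (hff.preimage _ ≫ hff.preimage _) = F.map (hff.preimage _ ≫ φ)
      rw [F.toFunctor.map_comp, F.toFunctor.map_comp, hff.map_preimage, hff.map_preimage,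
        hff.map_preimage]
      simp
    · intro ξ
      change 𝒳.p.IsHomLift (𝟙 (𝒳.p.obj ξ)) (hff.preimage (e (F.obj ξ)).hom)
      rw [← F.isHomLift_iff]
      have h1 : F.map (hff.preimage (e (F.obj ξ)).hom) = (e (F.obj ξ)).hom := hff.map_preimage _
      rw [h1]
      have := he (F.obj ξ)
      rwa [F.w_obj] at this
  · refine BasedNatIso.mkNatIso (NatIso.ofComponents (fun η => e η) ?_) ?_
    · intro η η' φ
      change F.map (hff.preimage _) ≫ _ = _ ≫ φ
      have h1 : F.map (hff.preimage ((e η).hom ≫ φ ≫ (e η').inv)) = (e η).hom ≫ φ ≫ (e η').inv :=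
        hff.map_preimage _
      rw [h1]
      simp
    · intro η
      exact he η

/-- An equivalence over the base is full, faithful and essentially surjective over identities. -/
theorem full_of {F : 𝒳 ⥤ᵇ 𝒴} (h : FibCat.IsEquivOver F) : F.toFunctor.IsEquivalence := by
  obtain ⟨G, ⟨e₁⟩, ⟨e₂⟩⟩ := h
  exact Functor.IsEquivalence.mk' G.toFunctor ((BasedNatTrans.forgetful _ _).mapIso e₁.symm)
    ((BasedNatTrans.forgetful _ _).mapIso e₂)

theorem exists_preimage {F : 𝒳 ⥤ᵇ 𝒴} (h : FibCat.IsEquivOver F) (η : 𝒴.obj) :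
    ∃ (ξ : 𝒳.obj) (e : F.obj ξ ≅ η), 𝒴.p.IsHomLift (𝟙 (𝒴.p.obj η)) e.hom := by
  obtain ⟨G, ⟨e₁⟩, ⟨e₂⟩⟩ := h
  exact ⟨G.obj η, ((BasedNatTrans.forgetful _ _).mapIso e₂).app η,
    BasedNatTrans.isHomLift e₂.hom rfl⟩

/-- Fibre version: every object of a fibre of the target is the image of an object of the fibre. -/
theorem exists_preimage_fiber {F : 𝒳 ⥤ᵇ 𝒴} (h : FibCat.IsEquivOver F) {T : C}
    (η : 𝒴.p.Fiber T) : ∃ (ξ : 𝒳.p.Fiber T) (e : F.obj ξ.1 ≅ η.1), 𝒴.p.IsHomLift (𝟙 T) e.hom := by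
  obtain ⟨η, rfl⟩ := η
  obtain ⟨ξ, e, he⟩ := exists_preimage h η
  refine ⟨⟨ξ, ?_⟩, e, he⟩
  exact (F.w_obj ξ).symm.trans (IsHomLift.domain_eq 𝒴.p (𝟙 (𝒴.p.obj η)) e.hom)

end K862.Equiv
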