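import Groth.Agent.IsoNat.K862.ELift
import Groth.Agent.IsoNat.K862.AffGlue

/-!
# Infinitesimal lifting up to flat covers, and its localisation
-/

set_option autoImplicit false
set_option linter.unusedSectionVars false
set_option backward.isDefEq.respectTransparency false
set_option backward.isDefEq.respectTransparency.types false

universe u

open CategoryTheory CategoryTheory.Limits AlgebraicGeometry Opposite K862.Fib K862.Yon AlgSp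
open K862.LiftSp

namespace K862

variable {S : Scheme.{u}} {𝒳 : AlgSt.Cat S}

/-- A lifting problem `(c, a₀)` for `x` has a solution on a flat affine cover of a neighbourhood of a point. -/
def Sol {U A₀ A : Over S} {x : 𝒳.p.Fiber U} {i : A₀ ⟶ A} {s₀ : 𝒳.p.Fiber A₀} {s : 𝒳.p.Fiber A}
    (c : Ar i s₀ s) {u₀ : A₀ ⟶ U} (a₀ : Ar u₀ s₀ x) (pt : A.left) : Prop :=
  ∃ (B : Over S) (e : B ⟶ A) (sB : 𝒳.p.Fiber B) (b : Ar e sB s) (u : B ⟶ U) (a : Ar u sB x),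
    IsAffine B.left ∧ Flat e.left ∧ pt ∈ Set.range e.left ∧
    ∀ ⦃B₀ : Over S⦄ (z : 𝒳.p.Fiber B₀) (p : B₀ ⟶ B) (q : B₀ ⟶ A₀) (φ : Ar p z sB)
      (ψ : Ar q z s₀), φ.1 ≫ b.1 = ψ.1 ≫ c.1 → φ.1 ≫ a.1 = ψ.1 ≫ a₀.1

/-- Infinitesimal lifting up to flat covers. -/
def FLift {U : Over S} (x : 𝒳.p.Fiber U) : Prop :=
  ∀ ⦃A₀ A : Over S⦄ (i : A₀ ⟶ A), Th i → IsAffine A.left →
    ∀ (s₀ : 𝒳.p.Fiber A₀) (s : 𝒳.p.Fiber A) (c : Ar i s₀ s) (u₀ : A₀ ⟶ U) (a₀ : Ar u₀ s₀ x)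
      (pt : A.left), Sol c a₀ pt

variable [FibCat.IsFibGrpd 𝒳.p]

/-- Solutions may be looked for after a flat base change. -/
theorem Sol.of_cover {U A₀ A : Over S} {x : 𝒳.p.Fiber U} {i : A₀ ⟶ A} {s₀ : 𝒳.p.Fiber A₀}
    {s : 𝒳.p.Fiber A} {c : Ar i s₀ s} {u₀ : A₀ ⟶ U} {a₀ : Ar u₀ s₀ x} {pt : A.left}
    {B₀ B : Over S} {j : B₀ ⟶ B} {e : B ⟶ A} {f : B₀ ⟶ A₀} (sq : IsPullback f j i e)
    (he : Flat e.left) (pt' : B.left) (hpt : e.left pt' = pt) {t₀ : 𝒳.p.Fiber B₀}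
    {t : 𝒳.p.Fiber B} {c' : Ar j t₀ t} {d : Ar f t₀ s₀} {b : Ar e t s}
    (w : d.1 ≫ c.1 = c'.1 ≫ b.1) (h : Sol c' (d.comp a₀) pt') : Sol c a₀ pt := by
  obtain ⟨B', e', sB, b', u, a, hB, hf, hr, H⟩ := h
  refine ⟨B', e' ≫ e, sB, b'.comp b, u, a, hB, ?_, ?_, ?_⟩
  · rw [Over.comp_left]; infer_instance
  · obtain ⟨y, rfl⟩ := hr
    exact ⟨y, by rw [← hpt]; rfl⟩
  · intro B₀' z p q φ ψ hφψ
    have hpq : (p ≫ e') ≫ e = q ≫ i := by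
      rw [Category.assoc]
      exact Ar.eq_of_val (φ.comp (b'.comp b)) (ψ.comp c) hφψ
    let k : B₀' ⟶ B₀ := sq.lift q (p ≫ e') hpq.symm
    have hk1 : k ≫ f = q := sq.lift_fst _ _ _
    have hk2 : k ≫ j = p ≫ e' := sq.lift_snd _ _ _
    obtain ⟨ψ', hψ'⟩ := c'.fac (φ.comp b') k hk2
    have h1 : ψ'.1 ≫ d.1 = ψ.1 := by
      refine Ar.cancel_val (a := (ψ'.comp d).cast hk1) (b := ψ) c ?_
      simp only [Ar.cast_val, Ar.comp_val, Category.assoc] at hψ' ⊢ hφψ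
      rw [w, reassoc_of% hψ', hφψ]
    rw [H z p k φ ψ' hψ'.symm, Ar.comp_val, ← Category.assoc, h1]

end K862
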