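import Groth.Prelude.Def_FibCat2

/-!
# Fibre calculus for categories fibred in groupoids

`p : 𝒳 ⥤ C` fibred in groupoids.  Objects of fibres `p.Fiber T`, morphisms `x ⟶ y` of the fibre
(lying over `𝟙 T`), raw arrows `a : x'.1 ⟶ x.1` of `𝒳` lying over `g : T' ⟶ T`.
* `cart` every arrow is strongly cartesian;
* `pull g x`, `pullHom g x` a chosen pullback;
* `fill p g h hk a b`: for `a : x'.1 ⟶ x.1` over `g`, `b : z.1 ⟶ x.1` over `k = h ≫ g`, the unique arrow
  `z.1 ⟶ x'.1` over `h`;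
* `res g a b α`: restriction of a fibre morphism `α : x ⟶ y` along `a : x'.1 ⟶ x.1`, `b : y'.1 ⟶ y.1`
  over the same `g`;
* fibre morphisms are isomorphisms.
-/

set_option autoImplicit false
set_option linter.unusedSectionVars false

universe v₂ u₂ v u

open CategoryTheory

namespace K862.Fib

variable {C : Type u} [Category.{v} C] {𝒳 : Type u₂} [Category.{v₂} 𝒳] {p : 𝒳 ⥤ C}

/-- Every arrow of a category fibred in groupoids is strongly cartesian over anything it lifts. -/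
theorem cart [hp : FibCat.IsFibGrpd p] {R T : C} (f : R ⟶ T) {a b : 𝒳} (φ : a ⟶ b)
    [p.IsHomLift f φ] : p.IsStronglyCartesian f φ := by
  subst_hom_lift p f φ
  exact hp.isStronglyCartesian φ

/-- An arrow over an isomorphism is an isomorphism. -/
theorem isIso_of_lift [FibCat.IsFibGrpd p] {R T : C} (f : R ⟶ T) [IsIso f] {a b : 𝒳} (φ : a ⟶ b)
    [p.IsHomLift f φ] : IsIso φ :=
  have := cart (p := p) f φ
  Functor.IsStronglyCartesian.isIso_of_base_isIso p f φ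

section lift

variable [FibCat.IsFibGrpd p]

theorem exists_fill {R R' T : C} {x x' z : 𝒳} (g : R ⟶ T) {k : R' ⟶ T} (h : R' ⟶ R)
    (hk : k = h ≫ g) (a : x' ⟶ x) (b : z ⟶ x) [p.IsHomLift g a] [p.IsHomLift k b] :
    ∃! c : z ⟶ x', p.IsHomLift h c ∧ c ≫ a = b :=
  have := cart (p := p) g a
  Functor.IsStronglyCartesian.universal_property p g a h k hk b

/-- The unique arrow over `h` through which `b` (over `h ≫ g`) factors. -/
noncomputable def fill (p : 𝒳 ⥤ C) [FibCat.IsFibGrpd p] {R R' T : C} {x x' z : 𝒳} (g : R ⟶ T)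
    {k : R' ⟶ T} (h : R' ⟶ R) (hk : k = h ≫ g) (a : x' ⟶ x) (b : z ⟶ x) [p.IsHomLift g a]
    [p.IsHomLift k b] : z ⟶ x' :=
  Classical.choose (exists_fill (p := p) g h hk a b)

variable {R R' T : C} {x x' z : 𝒳} (g : R ⟶ T) {k : R' ⟶ T} (h : R' ⟶ R)

instance fill_isHomLift (hk : k = h ≫ g) (a : x' ⟶ x) (b : z ⟶ x) [p.IsHomLift g a]
    [p.IsHomLift k b] : p.IsHomLift h (fill p g h hk a b) :=
  (Classical.choose_spec (exists_fill (p := p) g h hk a b)).1.1

@[reassoc (attr := simp)]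
theorem fill_comp (hk : k = h ≫ g) (a : x' ⟶ x) (b : z ⟶ x) [p.IsHomLift g a]
    [p.IsHomLift k b] : fill p g h hk a b ≫ a = b :=
  (Classical.choose_spec (exists_fill (p := p) g h hk a b)).1.2

theorem fill_uniq (hk : k = h ≫ g) (a : x' ⟶ x) (b : z ⟶ x) [p.IsHomLift g a]
    [p.IsHomLift k b] (c : z ⟶ x') [p.IsHomLift h c] (hc : c ≫ a = b) : c = fill p g h hk a b :=
  (Classical.choose_spec (exists_fill (p := p) g h hk a b)).2 c ⟨inferInstance, hc⟩

/-- Two arrows over the same `h` with the same composite with an arrow are equal. -/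
theorem cancel {R R' T : C} {x x' z : 𝒳} (g : R ⟶ T) (h : R' ⟶ R) (a : x' ⟶ x) [p.IsHomLift g a]
    {c c' : z ⟶ x'} [p.IsHomLift h c] [p.IsHomLift h c'] (e : c ≫ a = c' ≫ a) : c = c' :=
  have := cart (p := p) g a
  Functor.IsStronglyCartesian.ext p g a h e

end lift

/-! ### fibres -/

section fibre

variable {T T' T'' : C}

instance hom_isHomLift {x y : p.Fiber T} (α : x ⟶ y) : p.IsHomLift (𝟙 T) α.1 := α.2

theorem hom_ext' {x y : p.Fiber T} {α β : x ⟶ y} (h : α.1 = β.1) : α = β := Subtype.ext h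

@[simp] theorem id_val (x : p.Fiber T) : (𝟙 x : x ⟶ x).1 = 𝟙 x.1 := rfl

@[simp] theorem comp_val {x y z : p.Fiber T} (α : x ⟶ y) (β : y ⟶ z) :
    (α ≫ β).1 = α.1 ≫ β.1 := rfl

/-- The canonical object of the fibre of `p` over `p x`. -/
def obj (x : 𝒳) : p.Fiber (p.obj x) := ⟨x, rfl⟩

variable [FibCat.IsFibGrpd p]

instance isIso_val {x y : p.Fiber T} (α : x ⟶ y) : IsIso α.1 :=
  isIso_of_lift (p := p) (𝟙 T) α.1

/-- Morphisms in a fibre are isomorphisms. -/
instance isIso_fibre {x y : p.Fiber T} (α : x ⟶ y) : IsIso α := by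
  refine ⟨⟨⟨inv α.1, inferInstance⟩, hom_ext' ?_, hom_ext' ?_⟩⟩
  · simp
  · simp

@[simp] theorem inv_val {x y : p.Fiber T} (α : x ⟶ y) : (inv α).1 = inv α.1 := by
  rw [← cancel_epi α.1, IsIso.hom_inv_id]
  exact congrArg Subtype.val (IsIso.hom_inv_id α)

theorem exists_pull (g : T' ⟶ T) (x : p.Fiber T) :
    ∃ (x' : p.Fiber T') (a : x'.1 ⟶ x.1), p.IsHomLift g a := by
  obtain ⟨x, rfl⟩ := x
  obtain ⟨y, φ, hφ⟩ := FibCat.IsFibGrpd.exists_lift (p := p) (x := x) g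
  exact ⟨⟨y, IsHomLift.domain_eq p g φ⟩, φ, hφ⟩

/-- A chosen pullback of `x` along `g`. -/
noncomputable def pull (g : T' ⟶ T) (x : p.Fiber T) : p.Fiber T' :=
  Classical.choose (exists_pull g x)

/-- The arrow `g^* x ⟶ x`. -/
noncomputable def pullHom (g : T' ⟶ T) (x : p.Fiber T) : (pull g x).1 ⟶ x.1 :=
  Classical.choose (Classical.choose_spec (exists_pull g x))

instance pullHom_isHomLift (g : T' ⟶ T) (x : p.Fiber T) : p.IsHomLift g (pullHom g x) :=
  Classical.choose_spec (Classical.choose_spec (exists_pull g x))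

/-- The comparison morphism in the fibre between two lifts of `g` at the same object. -/
noncomputable def cmpHom (g : T' ⟶ T) {x : p.Fiber T} {x' x'' : p.Fiber T'} (a : x'.1 ⟶ x.1)
    (b : x''.1 ⟶ x.1) [p.IsHomLift g a] [p.IsHomLift g b] : x' ⟶ x'' :=
  ⟨fill p g (𝟙 T') (Category.id_comp g).symm b a, inferInstance⟩

@[reassoc (attr := simp)]
theorem cmp_comp (g : T' ⟶ T) {x : p.Fiber T} {x' x'' : p.Fiber T'} (a : x'.1 ⟶ x.1)
    (b : x''.1 ⟶ x.1) [p.IsHomLift g a] [p.IsHomLift g b] :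
    (cmpHom g a b).1 ≫ b = a :=
  fill_comp (p := p) g (𝟙 T') (Category.id_comp g).symm b a

/-- Restriction of a fibre morphism `α : x ⟶ y` along `a : x' ⟶ x` and `b : y' ⟶ y` over `g`. -/
noncomputable def res (g : T' ⟶ T) {x y : p.Fiber T} {x' y' : p.Fiber T'} (a : x'.1 ⟶ x.1)
    (b : y'.1 ⟶ y.1) [p.IsHomLift g a] [p.IsHomLift g b] (α : x ⟶ y) : x' ⟶ y' :=
  ⟨fill p g (𝟙 T') (Category.id_comp g).symm b (a ≫ α.1), inferInstance⟩

section res

variable (g : T' ⟶ T) {x y z : p.Fiber T} {x' y' z' : p.Fiber T'} (a : x'.1 ⟶ x.1)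
  (b : y'.1 ⟶ y.1) (c : z'.1 ⟶ z.1) [p.IsHomLift g a] [p.IsHomLift g b] [p.IsHomLift g c]

@[reassoc (attr := simp)]
theorem res_comp (α : x ⟶ y) : (res g a b α).1 ≫ b = a ≫ α.1 :=
  fill_comp (p := p) g (𝟙 T') (Category.id_comp g).symm b (a ≫ α.1)

theorem eq_res (α : x ⟶ y) (β : x' ⟶ y') (h : β.1 ≫ b = a ≫ α.1) : β = res g a b α :=
  hom_ext' (cancel (p := p) g (𝟙 T') b (h.trans (res_comp g a b α).symm))

theorem res_eq_iff (α : x ⟶ y) (β : x' ⟶ y') : res g a b α = β ↔ β.1 ≫ b = a ≫ α.1 :=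
  ⟨fun h => h ▸ res_comp g a b α, fun h => (eq_res g a b α β h).symm⟩

@[simp] theorem res_id : res g a a (𝟙 x) = 𝟙 x' := by
  rw [res_eq_iff]; simp

@[simp] theorem res_comp_res (α : x ⟶ y) (β : y ⟶ z) :
    res g a c (α ≫ β) = res g a b α ≫ res g b c β := by
  rw [res_eq_iff]; simp

theorem res_inv (α : x ⟶ y) : res g b a (inv α) = inv (res g a b α) := by
  rw [← cancel_epi (res g a b α), ← res_comp_res]; simp

/-- Restricting in two steps. -/
theorem res_res {h : T'' ⟶ T'} {x'' y'' : p.Fiber T''} (a' : x''.1 ⟶ x'.1) (b' : y''.1 ⟶ y'.1)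
    [p.IsHomLift h a'] [p.IsHomLift h b'] (α : x ⟶ y) :
    res h a' b' (res g a b α) = res (h ≫ g) (a' ≫ a) (b' ≫ b) α := by
  symm
  rw [res_eq_iff]
  rw [Category.assoc, ← res_comp g a b α, ← Category.assoc, res_comp, Category.assoc]

/-- Restricting along an identity-like arrow conjugates. -/
theorem res_change {x₂ y₂ : p.Fiber T'} (a₂ : x₂.1 ⟶ x.1) (b₂ : y₂.1 ⟶ y.1)
    [p.IsHomLift g a₂] [p.IsHomLift g b₂] (α : x ⟶ y) :
    res g a₂ b₂ α = cmpHom g a₂ a ≫ res g a b α ≫ cmpHom g b b₂ := by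
  rw [res_eq_iff]; simp

end res

end fibre

end K862.Fib
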