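import Groth.Agent.IsoNat.K862.Fib

/-!
# 2-fibre products, slices and the base are fibred in groupoids
-/

set_option autoImplicit false
set_option linter.unusedSectionVars false
set_option backward.isDefEq.respectTransparency false
set_option backward.isDefEq.respectTransparency.types false

universe v₄ u₄ v₃ u₃ v₂ u₂ v u

open CategoryTheory CategoryTheory.Limits K862.Fib

namespace K862.Fp

variable {C : Type u} [Category.{v} C]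

/-- A criterion to be fibred in groupoids in terms of `IsHomLift`. -/
theorem isFibGrpd_mk {𝒳 : Type u₂} [Category.{v₂} 𝒳] (p : 𝒳 ⥤ C)
    (h1 : ∀ {x : 𝒳} {V : C} (f : V ⟶ p.obj x), ∃ (y : 𝒳) (φ : y ⟶ x), p.IsHomLift f φ)
    (h2 : ∀ {y x z : 𝒳} (φ : y ⟶ x) (ψ : z ⟶ x) (g : p.obj z ⟶ p.obj y),
      p.map ψ = g ≫ p.map φ → ∃! χ : z ⟶ y, p.map χ = g ∧ χ ≫ φ = ψ) : FibCat.IsFibGrpd p where
  exists_lift f := h1 f
  isStronglyCartesian {y x} φ :=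
    { universal_property' := fun {a'} g φ' hφ' => by
        obtain ⟨χ, ⟨e1, e2⟩, e3⟩ := h2 φ φ' g (IsHomLift.eq_of_isHomLift p (g ≫ p.map φ) φ').symm
        refine ⟨χ, ⟨e1 ▸ IsHomLift.map p χ, e2⟩, ?_⟩
        rintro χ' ⟨h, h'⟩
        exact e3 χ' ⟨(IsHomLift.eq_of_isHomLift p g χ').symm, h'⟩ }

instance isFibGrpd_overCat (U : C) : FibCat.IsFibGrpd (FibCat.overCat U).p := by
  apply isFibGrpd_mk
  · intro x V f
    refine ⟨Over.mk (f ≫ x.hom), Over.homMk f (by simp), ?_⟩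
    exact IsHomLift.map (Over.forget U) (Over.homMk f (by simp) : Over.mk (f ≫ x.hom) ⟶ x)
  · intro y x z φ ψ g h
    refine ⟨Over.homMk g ?_, ⟨rfl, ?_⟩, ?_⟩
    · have h' : ψ.left = g ≫ φ.left := h
      have e1 : φ.left ≫ x.hom = y.hom := Over.w φ
      have e2 : ψ.left ≫ x.hom = z.hom := Over.w ψ
      rw [← e1, ← e2, h', Category.assoc]
    · exact Over.OverMorphism.ext h.symm
    · rintro χ ⟨h1, -⟩
      exact Over.OverMorphism.ext h1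

instance isFibGrpd_selfOver : FibCat.IsFibGrpd (FibCat.selfOver C).p := by
  apply isFibGrpd_mk
  · intro x V f
    exact ⟨V, f, IsHomLift.map (𝟭 C) f⟩
  · intro y x z φ ψ g h
    refine ⟨g, ⟨rfl, h.symm⟩, ?_⟩
    rintro χ ⟨h1, -⟩
    exact h1

section fp

variable {𝒳 : BasedCategory.{v₂, u₂} C} {𝒴 : BasedCategory.{v₃, u₃} C}
  {𝒮 : BasedCategory.{v₄, u₄} C} (F : 𝒳 ⥤ᵇ 𝒮) (G : 𝒴 ⥤ᵇ 𝒮)

/-- Constructor for objects of the 2-fibre product. -/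
abbrev mkObj (a : 𝒳.obj) (b : 𝒴.obj) (i : F.obj a ≅ G.obj b)
    (hi : 𝒮.p.IsHomLift (𝟙 (𝒳.p.obj a)) i.hom) : (FibCat.fp F G).obj :=
  ⟨⟨a, b, i⟩, hi⟩

variable {F G}

/-- Constructor for morphisms of the 2-fibre product. -/
abbrev mkHom {z z' : (FibCat.fp F G).obj} (a : z.obj.fst ⟶ z'.obj.fst)
    (b : z.obj.snd ⟶ z'.obj.snd)
    (w : F.map a ≫ z'.obj.iso.hom = z.obj.iso.hom ≫ G.map b) : z ⟶ z' :=
  ObjectProperty.homMk ⟨a, b, w⟩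

theorem fp_hom_ext {z z' : (FibCat.fp F G).obj} {φ ψ : z ⟶ z'} (h1 : φ.hom.fst = ψ.hom.fst)
    (h2 : φ.hom.snd = ψ.hom.snd) : φ = ψ := by
  apply ObjectProperty.hom_ext
  exact CategoricalPullback.hom_ext h1 h2

theorem fp_w {z z' : (FibCat.fp F G).obj} (φ : z ⟶ z') :
    F.map φ.hom.fst ≫ z'.obj.iso.hom = z.obj.iso.hom ≫ G.map φ.hom.snd := φ.hom.w

variable [FibCat.IsFibGrpd 𝒳.p] [FibCat.IsFibGrpd 𝒴.p] [FibCat.IsFibGrpd 𝒮.p]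

variable (F G) in
instance isFibGrpd_fp : FibCat.IsFibGrpd (FibCat.fp F G).p := by
  apply isFibGrpd_mk
  · intro z V f
    obtain ⟨⟨a, b, i⟩, hi⟩ := z
    change 𝒮.p.IsHomLift (𝟙 (𝒳.p.obj a)) i.hom at hi
    change V ⟶ 𝒳.p.obj a at f
    have hb : 𝒴.p.obj b = 𝒳.p.obj a :=
      (G.w_obj b).symm.trans (IsHomLift.codomain_eq 𝒮.p (𝟙 (𝒳.p.obj a)) i.hom)
    obtain ⟨a', α, hα⟩ := exists_pull (p := 𝒳.p) f ⟨a, rfl⟩
    obtain ⟨b', β, hβ⟩ := exists_pull (p := 𝒴.p) f ⟨b, hb⟩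
    change a'.1 ⟶ a at α
    change b'.1 ⟶ b at β
    have hFα : 𝒮.p.IsHomLift f (F.map α) := BasedFunctor.preserves_isHomLift F f α
    have hGβ : 𝒮.p.IsHomLift f (G.map β) := BasedFunctor.preserves_isHomLift G f β
    have h1 : 𝒮.p.IsHomLift f (F.map α ≫ i.hom) := IsHomLift.comp_lift_id_right 𝒮.p f _ _
    let j : F.obj a'.1 ⟶ G.obj b'.1 :=
      fill 𝒮.p f (𝟙 V) (k := f) (Category.id_comp f).symm (G.map β) (F.map α ≫ i.hom)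
    have hj : 𝒮.p.IsHomLift (𝟙 V) j := fill_isHomLift (p := 𝒮.p) f (𝟙 V) (Category.id_comp f).symm (G.map β) (F.map α ≫ i.hom)
    have hj' : IsIso j := isIso_of_lift (p := 𝒮.p) (𝟙 V) j
    have hj2 : j ≫ G.map β = F.map α ≫ i.hom := fill_comp (p := 𝒮.p) f (𝟙 V) (Category.id_comp f).symm (G.map β) (F.map α ≫ i.hom)
    refine ⟨mkObj F G a'.1 b'.1 (asIso j) ?_, mkHom α β ?_, ?_⟩
    · have : 𝒳.p.obj a'.1 = V := a'.2
      rw [this]; exact hj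
    · exact hj2.symm
    · change 𝒳.p.IsHomLift f α at hα
      obtain ⟨a', rfl⟩ := a'
      have hf := IsHomLift.eq_of_isHomLift 𝒳.p f α
      subst hf
      exact IsHomLift.map (FibCat.fp F G).p (mkHom (z := mkObj F G a' b'.1 (asIso j) _)
        (z' := ⟨⟨a, b, i⟩, hi⟩) α β _)
  · intro y x z φ ψ g h
    change 𝒳.p.obj z.obj.fst ⟶ 𝒳.p.obj y.obj.fst at g
    have hy : 𝒮.p.IsHomLift (𝟙 (𝒳.p.obj y.obj.fst)) y.obj.iso.hom := y.property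
    have hz : 𝒮.p.IsHomLift (𝟙 (𝒳.p.obj z.obj.fst)) z.obj.iso.hom := z.property
    have e1 : 𝒳.p.IsHomLift (𝒳.p.map φ.hom.fst) φ.hom.fst := IsHomLift.map _ _
    have e2 : 𝒴.p.IsHomLift (𝒳.p.map φ.hom.fst) φ.hom.snd := FibCat.fp_isHomLift_snd F G φ
    have e3 : 𝒳.p.IsHomLift (𝒳.p.map ψ.hom.fst) ψ.hom.fst := IsHomLift.map _ _
    have e4 : 𝒴.p.IsHomLift (𝒳.p.map ψ.hom.fst) ψ.hom.snd := FibCat.fp_isHomLift_snd F G ψ
    have hk : 𝒳.p.map ψ.hom.fst = g ≫ 𝒳.p.map φ.hom.fst := h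
    let χ₁ := fill 𝒳.p (𝒳.p.map φ.hom.fst) g hk φ.hom.fst ψ.hom.fst
    let χ₂ := fill 𝒴.p (𝒳.p.map φ.hom.fst) g hk φ.hom.snd ψ.hom.snd
    have c1 : 𝒳.p.IsHomLift g χ₁ := fill_isHomLift (p := 𝒳.p) _ g hk φ.hom.fst ψ.hom.fst
    have c2 : 𝒴.p.IsHomLift g χ₂ := fill_isHomLift (p := 𝒴.p) _ g hk φ.hom.snd ψ.hom.snd
    have d1 : χ₁ ≫ φ.hom.fst = ψ.hom.fst := fill_comp (p := 𝒳.p) _ g hk φ.hom.fst ψ.hom.fst
    have d2 : χ₂ ≫ φ.hom.snd = ψ.hom.snd := fill_comp (p := 𝒴.p) _ g hk φ.hom.snd ψ.hom.snd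
    have f1 : 𝒮.p.IsHomLift g (F.map χ₁) := BasedFunctor.preserves_isHomLift F g χ₁
    have f2 : 𝒮.p.IsHomLift g (G.map χ₂) := BasedFunctor.preserves_isHomLift G g χ₂
    have f3 : 𝒮.p.IsHomLift (𝒳.p.map φ.hom.fst) (G.map φ.hom.snd) :=
      BasedFunctor.preserves_isHomLift G _ _
    have f4 : 𝒮.p.IsHomLift g (F.map χ₁ ≫ y.obj.iso.hom) := IsHomLift.comp_lift_id_right 𝒮.p g _ _
    have f5 : 𝒮.p.IsHomLift g (z.obj.iso.hom ≫ G.map χ₂) := IsHomLift.comp_lift_id_left 𝒮.p g _ _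
    have w : F.map χ₁ ≫ y.obj.iso.hom = z.obj.iso.hom ≫ G.map χ₂ := by
      refine cancel (p := 𝒮.p) (𝒳.p.map φ.hom.fst) g (G.map φ.hom.snd) ?_
      rw [Category.assoc, Category.assoc, ← G.toFunctor.map_comp, d2, ← fp_w φ, ← Category.assoc,
        ← F.toFunctor.map_comp, d1, fp_w ψ]
    refine ⟨mkHom χ₁ χ₂ w, ⟨?_, fp_hom_ext d1 d2⟩, ?_⟩
    · exact (IsHomLift.eq_of_isHomLift 𝒳.p g χ₁).symm
    · rintro χ ⟨h1, h2⟩
      have k1 : 𝒳.p.IsHomLift g χ.hom.fst := h1 ▸ IsHomLift.map 𝒳.p χ.hom.fst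
      have k2 : 𝒴.p.IsHomLift g χ.hom.snd := h1 ▸ FibCat.fp_isHomLift_snd F G χ
      have q1 : χ.hom.fst = χ₁ := by
        refine cancel (p := 𝒳.p) (𝒳.p.map φ.hom.fst) g φ.hom.fst ?_
        rw [d1, ← h2]; rfl
      have q2 : χ.hom.snd = χ₂ := by
        refine cancel (p := 𝒴.p) (𝒳.p.map φ.hom.fst) g φ.hom.snd ?_
        rw [d2, ← h2]; rfl
      exact fp_hom_ext q1 q2

end fp

end K862.Fp
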