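import Groth.Agent.IsoNat.K862.FRep

/-!
# Isomorphism spaces and automorphism spaces, elementwise

* `IsomRep s t F` (objects `s t` over `T`): sections of `F` over `T'` are classes of spans
  `s ← z → t` with both arrows over the same `g : T' ⟶ T`; `exists_isomRep` from
  `RepByAlgSpWith P (FibCat.diag (FibCat.toSelf 𝒳))`.
* `AutRep t F`: sections are classes `(g, z, σ : z ⟶ z, b : z → t over g)`; `exists_autRep` from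
  `RepByAlgSpWith P (FibCat.inertiaToBase (FibCat.toSelf 𝒳))`.
-/

set_option autoImplicit false
set_option linter.unusedSectionVars false
set_option backward.isDefEq.respectTransparency false
set_option backward.isDefEq.respectTransparency.types false

universe u

open CategoryTheory CategoryTheory.Limits AlgebraicGeometry Opposite K862.Fib K862.Yon

namespace K862

variable {S : Scheme.{u}} {𝒳 : AlgSt.Cat S}

/-- The sheaf `F` over `h_T` is the sheaf of isomorphisms between `s` and `t`. -/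
structure IsomRep {T : Over S} (s t : 𝒳.p.Fiber T) (F : AlgSp.Sp S) where
  /-- the projection to `T` -/
  π : F ⟶ (AlgSp.yon S).obj T
  /-- the section attached to a span -/
  sec : ∀ {T' : Over S} (g : T' ⟶ T) (z : 𝒳.p.Fiber T') (a : z.1 ⟶ s.1)
    (b : z.1 ⟶ t.1), 𝒳.p.IsHomLift g a → 𝒳.p.IsHomLift g b → F.obj.obj (op T')
  sec_π : ∀ {T' : Over S} (g : T' ⟶ T) (z : 𝒳.p.Fiber T') (a : z.1 ⟶ s.1)
    (b : z.1 ⟶ t.1) (ha : 𝒳.p.IsHomLift g a) (hb : 𝒳.p.IsHomLift g b),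
    π.hom.app (op T') (sec g z a b ha hb) = ⟨g⟩
  sec_surj : ∀ {T' : Over S} (σ : F.obj.obj (op T')), ∃ (g : T' ⟶ T)
    (z : 𝒳.p.Fiber T') (a : z.1 ⟶ s.1) (b : z.1 ⟶ t.1) (ha : 𝒳.p.IsHomLift g a)
    (hb : 𝒳.p.IsHomLift g b), sec g z a b ha hb = σ
  sec_eq_iff : ∀ {T' : Over S} (g g' : T' ⟶ T) (z z' : 𝒳.p.Fiber T')
    (a : z.1 ⟶ s.1) (a' : z'.1 ⟶ s.1) (b : z.1 ⟶ t.1) (b' : z'.1 ⟶ t.1)
    (ha : 𝒳.p.IsHomLift g a) (ha' : 𝒳.p.IsHomLift g' a') (hb : 𝒳.p.IsHomLift g b)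
    (hb' : 𝒳.p.IsHomLift g' b'),
    sec g z a b ha hb = sec g' z' a' b' ha' hb' ↔
      ∃ θ : z ⟶ z', θ.1 ≫ a' = a ∧ θ.1 ≫ b' = b
  sec_map : ∀ {T' T'' : Over S} (h : T'' ⟶ T') (g : T' ⟶ T) (z'' : 𝒳.p.Fiber T'')
    (z : 𝒳.p.Fiber T') (c : z''.1 ⟶ z.1) (a : z.1 ⟶ s.1) (b : z.1 ⟶ t.1)
    (_ : 𝒳.p.IsHomLift h c) (ha : 𝒳.p.IsHomLift g a) (hb : 𝒳.p.IsHomLift g b)
    (hca : 𝒳.p.IsHomLift (h ≫ g) (c ≫ a)) (hcb : 𝒳.p.IsHomLift (h ≫ g) (c ≫ b)),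
    F.obj.map h.op (sec g z a b ha hb) = sec (h ≫ g) z'' (c ≫ a) (c ≫ b) hca hcb

namespace IsomRep

variable {T : Over S} {s t : 𝒳.p.Fiber T} {F : AlgSp.Sp S} (R : IsomRep s t F)
variable [FibCat.IsFibGrpd 𝒳.p]

theorem sec_congr {T' : Over S} {g g' : T' ⟶ T} {z : 𝒳.p.Fiber T'}
    {a a' : z.1 ⟶ s.1} {b b' : z.1 ⟶ t.1} (ha : 𝒳.p.IsHomLift g a) (ha' : 𝒳.p.IsHomLift g' a')
    (hb : 𝒳.p.IsHomLift g b) (hb' : 𝒳.p.IsHomLift g' b') (h : a = a') (h' : b = b') :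
    R.sec g z a b ha hb = R.sec g' z a' b' ha' hb' := by
  subst h h'
  rw [R.sec_eq_iff]
  exact ⟨𝟙 z, by simp, by simp⟩

/-- The section attached to an isomorphism between pullbacks. -/
def isoSec {T' : Over S} (g : T' ⟶ T) {s' t' : 𝒳.p.Fiber T'} (a : s'.1 ⟶ s.1) (b : t'.1 ⟶ t.1)
    (ha : 𝒳.p.IsHomLift g a) (hb : 𝒳.p.IsHomLift g b) (α : s' ⟶ t') : F.obj.obj (op T') :=
  R.sec g s' a (α.1 ≫ b) ha (IsHomLift.comp_lift_id_left 𝒳.p g b α.1)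

theorem isoSec_π {T' : Over S} (g : T' ⟶ T) {s' t' : 𝒳.p.Fiber T'} (a : s'.1 ⟶ s.1)
    (b : t'.1 ⟶ t.1) (ha : 𝒳.p.IsHomLift g a) (hb : 𝒳.p.IsHomLift g b) (α : s' ⟶ t') :
    R.π.hom.app (op T') (R.isoSec g a b ha hb α) = ⟨g⟩ := R.sec_π _ _ _ _ _ _

theorem isoSec_inj {T' : Over S} (g : T' ⟶ T) {s' t' : 𝒳.p.Fiber T'} (a : s'.1 ⟶ s.1)
    (b : t'.1 ⟶ t.1) (ha : 𝒳.p.IsHomLift g a) (hb : 𝒳.p.IsHomLift g b) {α β : s' ⟶ t'}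
    (h : R.isoSec g a b ha hb α = R.isoSec g a b ha hb β) : α = β := by
  obtain ⟨θ, h1, h2⟩ := (R.sec_eq_iff _ _ _ _ _ _ _ _ _ _ _ _).1 h
  have : θ = 𝟙 s' := hom_ext' (cancel (p := 𝒳.p) g (𝟙 T') a (by
    rw [h1, id_val, Category.id_comp]))
  rw [this, id_val, Category.id_comp] at h2
  exact (hom_ext' (cancel (p := 𝒳.p) g (𝟙 T') b h2)).symm

theorem isoSec_surj {T' : Over S} (g : T' ⟶ T) {s' t' : 𝒳.p.Fiber T'} (a : s'.1 ⟶ s.1)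
    (b : t'.1 ⟶ t.1) (ha : 𝒳.p.IsHomLift g a) (hb : 𝒳.p.IsHomLift g b)
    (σ : F.obj.obj (op T')) (hσ : R.π.hom.app (op T') σ = ⟨g⟩) :
    ∃ α : s' ⟶ t', R.isoSec g a b ha hb α = σ := by
  obtain ⟨g', z, a', b', ha', hb', rfl⟩ := R.sec_surj σ
  rw [R.sec_π] at hσ
  obtain rfl : g' = g := congrArg ULift.down hσ
  refine ⟨cmpHom g' a a' ≫ cmpHom g' b' b, ?_⟩
  refine (R.sec_eq_iff _ _ _ _ _ _ _ _ _ _ _ _).2 ⟨cmpHom g' a a', cmp_comp g' a a', ?_⟩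
  rw [comp_val, Category.assoc, cmp_comp]

theorem isoSec_map {T' T'' : Over S} (h : T'' ⟶ T') (g : T' ⟶ T) {s' t' : 𝒳.p.Fiber T'}
    {s'' t'' : 𝒳.p.Fiber T''} (c : s''.1 ⟶ s'.1) (d : t''.1 ⟶ t'.1) (a : s'.1 ⟶ s.1)
    (b : t'.1 ⟶ t.1) (hc : 𝒳.p.IsHomLift h c) (hd : 𝒳.p.IsHomLift h d)
    (ha : 𝒳.p.IsHomLift g a) (hb : 𝒳.p.IsHomLift g b) (α : s' ⟶ t') :
    F.obj.map h.op (R.isoSec g a b ha hb α) =
      R.isoSec (h ≫ g) (c ≫ a) (d ≫ b) (IsHomLift.comp 𝒳.p h g c a) (IsHomLift.comp 𝒳.p h g d b)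
        (res h c d α) := by
  have l1 : 𝒳.p.IsHomLift g (α.1 ≫ b) := IsHomLift.comp_lift_id_left 𝒳.p g b α.1
  rw [isoSec, R.sec_map h g s'' s' c a (α.1 ≫ b) hc ha l1 (IsHomLift.comp 𝒳.p h g c a)
    (IsHomLift.comp 𝒳.p h g c (α.1 ≫ b))]
  apply R.sec_congr
  · rfl
  · rw [← Category.assoc, ← Category.assoc, res_comp]

end IsomRep

section

variable {T : Over S}

/-- The pair `(s, t)` as an object of `𝒳 × 𝒳` over `T`. -/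
def pairObj (s t : 𝒳.p.Fiber T) :
    (FibCat.fp (FibCat.toSelf 𝒳) (FibCat.toSelf 𝒳)).p.Fiber T :=
  ⟨Fp.mkObj (FibCat.toSelf 𝒳) (FibCat.toSelf 𝒳) s.1 t.1 (eqToIso (s.2.trans t.2.symm)) (by
    have : (FibCat.selfOver (Over S)).p.IsHomLift (𝟙 (𝒳.p.obj s.1))
        (eqToHom (s.2.trans t.2.symm)) := by
      generalize s.2.trans t.2.symm = e
      revert e
      generalize 𝒳.p.obj t.1 = V
      rintro rfl
      exact (IsHomLift.id (p := (FibCat.selfOver (Over S)).p) (a := 𝒳.p.obj s.1) rfl)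
    exact this), s.2⟩

theorem pair_w {s t : 𝒳.p.Fiber T} {T' : Over S} {g : T' ⟶ T} {z : 𝒳.p.Fiber T'}
    (a : z.1 ⟶ s.1) (b : z.1 ⟶ t.1) (ha : 𝒳.p.IsHomLift g a) (hb : 𝒳.p.IsHomLift g b) :
    𝒳.p.map a ≫ eqToHom (s.2.trans t.2.symm) = 𝟙 (𝒳.p.obj z.1) ≫ 𝒳.p.map b := by
  rw [IsHomLift.fac' 𝒳.p g a, IsHomLift.fac' 𝒳.p g b]
  simp

/-- The arrow to `(s, t)` in `𝒳 × 𝒳` attached to a span over `g`. -/
def pairArr {s t : 𝒳.p.Fiber T} {T' : Over S} {g : T' ⟶ T} {z : 𝒳.p.Fiber T'}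
    (a : z.1 ⟶ s.1) (b : z.1 ⟶ t.1) (ha : 𝒳.p.IsHomLift g a) (hb : 𝒳.p.IsHomLift g b) :
    (FibCat.diag (FibCat.toSelf 𝒳)).obj z.1 ⟶ (pairObj s t).1 :=
  Fp.mkHom (z := (FibCat.diag (FibCat.toSelf 𝒳)).obj z.1) (z' := (pairObj s t).1) a b
    (pair_w a b ha hb)

theorem pairArr_lift {s t : 𝒳.p.Fiber T} {T' : Over S} {g : T' ⟶ T} {z : 𝒳.p.Fiber T'}
    (a : z.1 ⟶ s.1) (b : z.1 ⟶ t.1) (ha : 𝒳.p.IsHomLift g a) (hb : 𝒳.p.IsHomLift g b) :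
    (FibCat.fp (FibCat.toSelf 𝒳) (FibCat.toSelf 𝒳)).p.IsHomLift g (pairArr a b ha hb) := by
  refine IsHomLift.of_fac _ _ _ z.2 s.2 ?_
  have : (FibCat.fp (FibCat.toSelf 𝒳) (FibCat.toSelf 𝒳)).p.map (pairArr a b ha hb) =
    𝒳.p.map a := rfl
  rw [this]
  exact IsHomLift.fac 𝒳.p g a

variable [FibCat.IsFibGrpd 𝒳.p] {s t : 𝒳.p.Fiber T} {F : AlgSp.Sp S}

theorem diag_map_comp {z z' : 𝒳.obj} (θ : z ⟶ z') {a' : z' ⟶ s.1} {b' : z' ⟶ t.1}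
    (d : (FibCat.diag (FibCat.toSelf 𝒳)).obj z' ⟶ (pairObj s t).1) (h1 : d.hom.fst = a')
    (h2 : d.hom.snd = b') :
    ((FibCat.diag (FibCat.toSelf 𝒳)).map θ ≫ d).hom.fst = θ ≫ a' ∧
    ((FibCat.diag (FibCat.toSelf 𝒳)).map θ ≫ d).hom.snd = θ ≫ b' := by
  subst h1 h2
  exact ⟨rfl, rfl⟩

theorem fst_lift {T' : Over S} {g : T' ⟶ T} {z : 𝒳.p.Fiber T'}
    (d : (FibCat.diag (FibCat.toSelf 𝒳)).obj z.1 ⟶ (pairObj s t).1)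
    (hd : (FibCat.fp (FibCat.toSelf 𝒳) (FibCat.toSelf 𝒳)).p.IsHomLift g d) :
    𝒳.p.IsHomLift g (show z.1 ⟶ s.1 from d.hom.fst) :=
  BasedFunctor.preserves_isHomLift (FibCat.fpFst (FibCat.toSelf 𝒳) (FibCat.toSelf 𝒳)) g d

theorem snd_lift' {T' : Over S} {g : T' ⟶ T} {z : 𝒳.p.Fiber T'}
    (d : (FibCat.diag (FibCat.toSelf 𝒳)).obj z.1 ⟶ (pairObj s t).1)
    (hd : (FibCat.fp (FibCat.toSelf 𝒳) (FibCat.toSelf 𝒳)).p.IsHomLift g d) :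
    𝒳.p.IsHomLift g (show z.1 ⟶ t.1 from d.hom.snd) :=
  BasedFunctor.preserves_isHomLift (FibCat.fpSnd (FibCat.toSelf 𝒳) (FibCat.toSelf 𝒳)) g d

/-- From `FRep` for the diagonal to `IsomRep`. -/
noncomputable def IsomRep.ofFRep
    (R : FRep (FibCat.diag (FibCat.toSelf 𝒳)) (pairObj s t) F) : IsomRep s t F where
  π := R.π
  sec g z a b ha hb := R.sec g z (pairArr a b ha hb) (pairArr_lift a b ha hb)
  sec_π g z a b ha hb := R.sec_π g _ _ _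
  sec_surj {T'} σ := by
    obtain ⟨g, z, d, hd, rfl⟩ := R.sec_surj σ
    exact ⟨g, z, d.hom.fst, d.hom.snd, fst_lift d hd, snd_lift' d hd,
      R.sec_congr _ _ (Fp.fp_hom_ext rfl rfl)⟩
  sec_eq_iff {T'} g g' z z' a a' b b' ha ha' hb hb' := by
    rw [R.sec_eq_iff]
    refine exists_congr fun θ => ?_
    constructor
    · intro h
      exact ⟨congrArg (fun d => d.hom.fst) h, congrArg (fun d => d.hom.snd) h⟩
    · rintro ⟨h1, h2⟩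
      exact Fp.fp_hom_ext h1 h2
  sec_map {T' T''} h g z'' z c a b hc ha hb hca hcb := by
    have l := pairArr_lift a b ha hb
    have lc : (FibCat.fp (FibCat.toSelf 𝒳) (FibCat.toSelf 𝒳)).p.IsHomLift h
      ((FibCat.diag (FibCat.toSelf 𝒳)).map c) :=
        BasedFunctor.preserves_isHomLift (FibCat.diag (FibCat.toSelf 𝒳)) h c
    rw [R.sec_map h g z'' z c (pairArr a b ha hb) hc l (IsHomLift.comp _ h g _ _)]
    exact R.sec_congr _ _ (Fp.fp_hom_ext rfl rfl)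

variable (s t) in
theorem exists_isomRep {P : MorphismProperty (AlgSp.Sp S)}
    (h : AlgSt.RepByAlgSpWith P (FibCat.diag (FibCat.toSelf 𝒳))) :
    ∃ (F : AlgSp.Space S) (R : IsomRep s t F.obj), P R.π := by
  obtain ⟨F, R, hR⟩ := exists_fRep h (pairObj s t)
  exact ⟨F, IsomRep.ofFRep R, hR⟩

end

/-! ### automorphisms -/

/-- The sheaf `F` over `h_T` is the sheaf of automorphisms of `t`. -/
structure AutRep {T : Over S} (t : 𝒳.p.Fiber T) (F : AlgSp.Sp S) where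
  /-- the projection to `T` -/
  π : F ⟶ (AlgSp.yon S).obj T
  /-- the section attached to an automorphism of a pullback -/
  sec : ∀ {T' : Over S} (g : T' ⟶ T) (z : 𝒳.p.Fiber T') (b : z.1 ⟶ t.1) (_ : z ⟶ z),
    𝒳.p.IsHomLift g b → F.obj.obj (op T')
  sec_π : ∀ {T' : Over S} (g : T' ⟶ T) (z : 𝒳.p.Fiber T') (b : z.1 ⟶ t.1) (σ : z ⟶ z)
    (hb : 𝒳.p.IsHomLift g b), π.hom.app (op T') (sec g z b σ hb) = ⟨g⟩
  sec_surj : ∀ {T' : Over S} (τ : F.obj.obj (op T')), ∃ (g : T' ⟶ T)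
    (z : 𝒳.p.Fiber T') (b : z.1 ⟶ t.1) (σ : z ⟶ z) (hb : 𝒳.p.IsHomLift g b), sec g z b σ hb = τ
  sec_eq_iff : ∀ {T' : Over S} (g g' : T' ⟶ T) (z z' : 𝒳.p.Fiber T')
    (b : z.1 ⟶ t.1) (b' : z'.1 ⟶ t.1) (σ : z ⟶ z) (σ' : z' ⟶ z') (hb : 𝒳.p.IsHomLift g b)
    (hb' : 𝒳.p.IsHomLift g' b'),
    sec g z b σ hb = sec g' z' b' σ' hb' ↔ ∃ θ : z ⟶ z', σ ≫ θ = θ ≫ σ' ∧ θ.1 ≫ b' = b
  sec_map : ∀ {T' T'' : Over S} (h : T'' ⟶ T') (g : T' ⟶ T) (z'' : 𝒳.p.Fiber T'')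
    (z : 𝒳.p.Fiber T') (c : z''.1 ⟶ z.1) (b : z.1 ⟶ t.1) (σ : z ⟶ z) (σ'' : z'' ⟶ z'')
    (_ : 𝒳.p.IsHomLift h c) (hb : 𝒳.p.IsHomLift g b) (hcb : 𝒳.p.IsHomLift (h ≫ g) (c ≫ b)),
    σ''.1 ≫ c = c ≫ σ.1 → F.obj.map h.op (sec g z b σ hb) = sec (h ≫ g) z'' (c ≫ b) σ'' hcb

namespace AutRep

variable {T : Over S} {t : 𝒳.p.Fiber T} {F : AlgSp.Sp S} (R : AutRep t F)
variable [FibCat.IsFibGrpd 𝒳.p]

theorem sec_inj {T' : Over S} (g : T' ⟶ T) {z : 𝒳.p.Fiber T'} (b : z.1 ⟶ t.1)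
    (hb : 𝒳.p.IsHomLift g b) {σ σ' : z ⟶ z} (h : R.sec g z b σ hb = R.sec g z b σ' hb) :
    σ = σ' := by
  obtain ⟨θ, h1, h2⟩ := (R.sec_eq_iff _ _ _ _ _ _ _ _ _ _).1 h
  have : θ = 𝟙 z := hom_ext' (cancel (p := 𝒳.p) g (𝟙 T') b (by
    rw [h2, id_val, Category.id_comp]))
  rw [this] at h1
  simpa using h1

theorem sec_surj' {T' : Over S} (g : T' ⟶ T) {z : 𝒳.p.Fiber T'} (b : z.1 ⟶ t.1)
    (hb : 𝒳.p.IsHomLift g b) (τ : F.obj.obj (op T')) (hτ : R.π.hom.app (op T') τ = ⟨g⟩) :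
    ∃ σ : z ⟶ z, R.sec g z b σ hb = τ := by
  obtain ⟨g', z', b', σ', hb', rfl⟩ := R.sec_surj τ
  rw [R.sec_π] at hτ
  obtain rfl : g' = g := congrArg ULift.down hτ
  refine ⟨cmpHom g' b b' ≫ σ' ≫ inv (cmpHom g' b b'), ?_⟩
  rw [R.sec_eq_iff]
  exact ⟨cmpHom g' b b', by simp, cmp_comp g' b b'⟩

theorem sec_res {T' T'' : Over S} (h : T'' ⟶ T') (g : T' ⟶ T) {z'' : 𝒳.p.Fiber T''}
    {z : 𝒳.p.Fiber T'} (c : z''.1 ⟶ z.1) (b : z.1 ⟶ t.1) (σ : z ⟶ z)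
    (hc : 𝒳.p.IsHomLift h c) (hb : 𝒳.p.IsHomLift g b) :
    F.obj.map h.op (R.sec g z b σ hb) =
      R.sec (h ≫ g) z'' (c ≫ b) (res h c c σ) (IsHomLift.comp 𝒳.p h g c b) :=
  R.sec_map h g z'' z c b σ _ hc hb _ (res_comp h c c σ)

end AutRep

section

variable {T : Over S} [FibCat.IsFibGrpd 𝒳.p] {t : 𝒳.p.Fiber T} {F : AlgSp.Sp S}

/-- An automorphism of a fibre object as an object of the inertia. -/
noncomputable def inertiaPt {T' : Over S} (z : 𝒳.p.Fiber T') (σ : z ⟶ z) :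
    (FibCat.inertia (FibCat.toSelf 𝒳)).p.Fiber T' :=
  ⟨{ pt := z.1
     aut := asIso σ.1
     map_aut := by
      obtain ⟨z, rfl⟩ := z
      change 𝒳.p.map σ.1 = 𝟙 _
      have := σ.2
      exact (IsHomLift.eq_of_isHomLift 𝒳.p (𝟙 (𝒳.p.obj z)) σ.1).symm }, z.2⟩

theorem isFibGrpd_inertia : FibCat.IsFibGrpd (FibCat.inertia (FibCat.toSelf 𝒳)).p := by
  apply Fp.isFibGrpd_mk
  · intro x V f
    obtain ⟨pt, aut, haut⟩ := x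
    change V ⟶ 𝒳.p.obj pt at f
    obtain ⟨y, φ, hφ⟩ := exists_pull (p := 𝒳.p) f ⟨pt, rfl⟩
    change y.1 ⟶ pt at φ
    have haut' : 𝒳.p.map aut.hom = 𝟙 (𝒳.p.obj pt) := haut
    let x₀ : 𝒳.p.Fiber (𝒳.p.obj pt) := ⟨pt, rfl⟩
    have α : { α : x₀ ⟶ x₀ // α.1 = aut.hom } :=
      ⟨⟨aut.hom, haut' ▸ IsHomLift.map 𝒳.p aut.hom⟩, rfl⟩
    obtain ⟨α, hα⟩ := α
    change y.1 ⟶ x₀.1 at φ
    have e := res_comp (p := 𝒳.p) f (x' := y) (y' := y) (x := x₀) (y := x₀) φ φ α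
    rw [hα] at e
    obtain ⟨y, rfl⟩ := y
    refine ⟨(inertiaPt (⟨y, rfl⟩ : 𝒳.p.Fiber (𝒳.p.obj y)) (res f φ φ α)).1, ⟨φ, e⟩, ?_⟩
    have hf := IsHomLift.eq_of_isHomLift 𝒳.p f φ
    subst hf
    exact IsHomLift.map (FibCat.inertia (FibCat.toSelf 𝒳)).p
      (⟨φ, e⟩ : (inertiaPt (⟨y, rfl⟩ : 𝒳.p.Fiber (𝒳.p.obj y)) (res (𝒳.p.map φ) φ φ α)).1 ⟶
        (⟨pt, aut, haut⟩ : FibCat.InertiaObj (FibCat.toSelf 𝒳)))
  · intro y x z φ ψ g h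
    change 𝒳.p.obj z.pt ⟶ 𝒳.p.obj y.pt at g
    have hk : 𝒳.p.map ψ.hom = g ≫ 𝒳.p.map φ.hom := h
    let χ := fill 𝒳.p (𝒳.p.map φ.hom) g hk φ.hom ψ.hom
    have c1 : 𝒳.p.IsHomLift g χ := fill_isHomLift (p := 𝒳.p) _ g hk φ.hom ψ.hom
    have d1 : χ ≫ φ.hom = ψ.hom := fill_comp (p := 𝒳.p) _ g hk φ.hom ψ.hom
    have hz : 𝒳.p.IsHomLift (𝟙 (𝒳.p.obj z.pt)) z.aut.hom := by
      have : 𝒳.p.map z.aut.hom = 𝟙 _ := z.map_aut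
      rw [← this]; exact IsHomLift.map _ _
    have hy : 𝒳.p.IsHomLift (𝟙 (𝒳.p.obj y.pt)) y.aut.hom := by
      have : 𝒳.p.map y.aut.hom = 𝟙 _ := y.map_aut
      rw [← this]; exact IsHomLift.map _ _
    have w : z.aut.hom ≫ χ = χ ≫ y.aut.hom := by
      have l1 : 𝒳.p.IsHomLift g (z.aut.hom ≫ χ) := IsHomLift.comp_lift_id_left 𝒳.p g χ z.aut.hom
      have l2 : 𝒳.p.IsHomLift g (χ ≫ y.aut.hom) := IsHomLift.comp_lift_id_right 𝒳.p g χ y.aut.hom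
      refine cancel (p := 𝒳.p) (𝒳.p.map φ.hom) g φ.hom ?_
      rw [Category.assoc, Category.assoc, d1, ψ.comm, φ.comm, ← Category.assoc, d1]
    refine ⟨⟨χ, w⟩, ⟨?_, FibCat.InertiaObj.hom_ext d1⟩, ?_⟩
    · exact (IsHomLift.eq_of_isHomLift 𝒳.p g χ).symm
    · rintro χ' ⟨h1, h2⟩
      have k1 : 𝒳.p.IsHomLift g χ'.hom := by
        have : 𝒳.p.map χ'.hom = g := h1
        rw [← this]; exact IsHomLift.map _ _
      apply FibCat.InertiaObj.hom_ext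
      refine cancel (p := 𝒳.p) (𝒳.p.map φ.hom) g φ.hom ?_
      have h3 : χ'.hom ≫ φ.hom = ψ.hom := congrArg FibCat.InertiaObj.Hom.hom h2
      rw [h3]; exact d1.symm

/-- From `FRep` for the inertia to `AutRep`. -/
noncomputable def AutRep.ofFRep
    (R : FRep (FibCat.inertiaToBase (FibCat.toSelf 𝒳)) t F) : AutRep t F where
  π := R.π
  sec g z b σ hb := R.sec g (inertiaPt z σ) b hb
  sec_π g z b σ hb := R.sec_π g _ _ _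
  sec_surj {T'} τ := by
    obtain ⟨g, ⟨⟨pt, aut, haut⟩, hz⟩, b, hb, rfl⟩ := R.sec_surj τ
    have haut' : 𝒳.p.map aut.hom = 𝟙 (𝒳.p.obj pt) := haut
    have hl : 𝒳.p.IsHomLift (𝟙 T') aut.hom := by
      obtain rfl : 𝒳.p.obj pt = T' := hz
      rw [← haut']; exact IsHomLift.map _ _
    refine ⟨g, ⟨pt, hz⟩, b, ⟨aut.hom, hl⟩, hb, ?_⟩
    rw [R.sec_eq_iff]
    refine ⟨⟨⟨𝟙 pt, ?_⟩, ?_⟩, ?_⟩
    · exact (Category.comp_id aut.hom).trans (Category.id_comp aut.hom).symm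
    · rw [← BasedFunctor.isHomLift_iff (FibCat.inertiaToBase (FibCat.toSelf 𝒳))]
      exact IsHomLift.id (p := 𝒳.p) (a := pt) hz
    · exact Category.id_comp b
  sec_eq_iff {T'} g g' z z' b b' σ σ' hb hb' := by
    rw [R.sec_eq_iff]
    constructor
    · rintro ⟨θ, hθ⟩
      refine ⟨⟨θ.1.hom, ?_⟩, hom_ext' θ.1.comm, hθ⟩
      have := θ.2
      exact BasedFunctor.preserves_isHomLift (FibCat.inertiaToBase (FibCat.toSelf 𝒳)) (𝟙 T') θ.1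
    · rintro ⟨θ, h1, h2⟩
      refine ⟨⟨⟨θ.1, congrArg Subtype.val h1⟩, ?_⟩, h2⟩
      rw [← BasedFunctor.isHomLift_iff (FibCat.inertiaToBase (FibCat.toSelf 𝒳))]
      exact θ.2
  sec_map {T' T''} h g z'' z c b σ σ'' hc hb hcb e := by
    let d : (inertiaPt z'' σ'').1 ⟶ (inertiaPt z σ).1 := ⟨c, e⟩
    have hd : (FibCat.inertia (FibCat.toSelf 𝒳)).p.IsHomLift h d := by
      rw [← BasedFunctor.isHomLift_iff (FibCat.inertiaToBase (FibCat.toSelf 𝒳))]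
      exact hc
    rw [R.sec_map h g (inertiaPt z'' σ'') (inertiaPt z σ) d b hd hb hcb]
    rfl

variable (t) in
theorem exists_autRep {P : MorphismProperty (AlgSp.Sp S)}
    (h : AlgSt.RepByAlgSpWith P (FibCat.inertiaToBase (FibCat.toSelf 𝒳))) :
    ∃ (F : AlgSp.Space S) (R : AutRep t F.obj), P R.π := by
  have := isFibGrpd_inertia (𝒳 := 𝒳)
  obtain ⟨F, R, hR⟩ := exists_fRep h t
  exact ⟨F, AutRep.ofFRep R, hR⟩

end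

end K862
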