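import Groth.Agent.IsoNat.K862.ChartUnr
import Groth.Agent.AlgSp.K601.RelLimSp

/-!
# Morphisms locally of finite presentation are relatively limit preserving
-/

set_option autoImplicit false
set_option backward.isDefEq.respectTransparency false
set_option backward.isDefEq.respectTransparency.types false

universe u

open CategoryTheory CategoryTheory.Limits AlgebraicGeometry Opposite AlgSp

namespace K862

theorem lfpLim (S : Scheme.{u}) : LfpLim S := by
  intro X Y f hf I _ _ D c hc hD hpt x i y hxy
  have h := (K601.RelLimSp.locP_lfp_iff X.property Y.property f).1 hf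
  obtain ⟨hs, -⟩ := (K601.LimPres.isRelLimitPreserving_iff f.hom).1 h D c hc hD hpt
  obtain ⟨j, φ, xj, h1, h2⟩ := hs (K607.sec x) i (K607.sec y) (by
    rw [← K607.sec_comp, hxy, K607.sec_map]
    rfl)
  refine ⟨j, φ, K607.pt xj, ?_, ?_⟩
  · apply K607.sec_injective
    rw [K607.sec_map, K607.sec_pt]
    exact h1
  · apply K607.sec_injective
    rw [K607.sec_comp, K607.sec_pt, K607.sec_map]
    exact h2

end K862
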