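import Groth.Agent.IsoNat.K862.DM

/-!
# Local finite presentation of morphisms under isomorphisms of maps of presheaves of classes
-/

set_option autoImplicit false
set_option linter.unusedSectionVars false
set_option backward.isDefEq.respectTransparency false
set_option backward.isDefEq.respectTransparency.types false

universe u

open CategoryTheory CategoryTheory.Limits AlgebraicGeometry Opposite K862.Fib K862.Yon AlgSp
open K862.LiftSp K862.Cls K602.Retract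

namespace K862

variable {S : Scheme.{u}} {𝒳 𝒴 𝒳' 𝒴' : AlgSt.Cat S}

/-- S15475 -/
theorem repByAlgSpWith_isEtaleMor [FibCat.IsFibGrpd 𝒳.p] [FibCat.IsFibGrpd 𝒴.p]
    (h𝒳 : AlgSt.IsAlgStack Scheme.fppfPrecoverage 𝒳)
    (h𝒴 : AlgSt.IsAlgStack Scheme.fppfPrecoverage 𝒴)
    (h𝒴d : AlgSt.RepByAlgSpWith (AlgSp.IsSeparatedMor ⊓ AlgSp.IsQuasiCompactMor)
      (FibCat.diag (FibCat.toSelf 𝒴)))
    (h𝒴i : AlgSt.RepByAlgSpWith (AlgSp.LocP @LocallyOfFinitePresentation)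
      (FibCat.inertiaToBase (FibCat.toSelf 𝒴)))
    (φ : IsoNat.FIso 𝒳 𝒴) {U : Over S} (x : FibCat.overCat U ⥤ᵇ 𝒳) (y : FibCat.overCat U ⥤ᵇ 𝒴)
    (hxy : φ.toEquiv U (IsoNat.objCls x) = IsoNat.objCls y)
    (hx : AlgSt.RepByAlgSpWith AlgSp.IsEtaleMor x) :
    AlgSt.RepByAlgSpWith (AlgSp.LocP @LocallyOfFinitePresentation) y ∧
      AlgSt.RepByAlgSpWith AlgSp.IsEtaleMor y := by
  have hx' : AlgSt.RepByAlgSpWith (LocP @Etale) x :=
    repByAlgSpWith_mono (fun _ _ _ hf => K629.LocP.locP_etale_of_isEtaleMor hf) hx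
  have hy := repByAlgSpWith_etale h𝒳 h𝒴 h𝒴d h𝒴i φ x y hxy hx'
  refine ⟨repByAlgSpWith_mono (fun _ _ _ hf => locP_mono (fun _ _ g hg => by
      have : Etale g := hg
      infer_instance) hf) hy, repByAlgSpWith_of_spanRep fun {T} t => ?_⟩
  obtain ⟨F, R, hR⟩ := exists_spanRep hy t
  exact ⟨F, R, K629.LocP.isEtaleMor_of_locP (IsAlgSpace.yon_obj T) hR K629.EtLocInst.etale⟩

section mk

variable [FibCat.IsFibGrpd 𝒳.p] [FibCat.IsFibGrpd 𝒴.p]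

/-- The image of an arrow. -/
def arMap (f : 𝒳 ⥤ᵇ 𝒴) {T' T : Over S} {g : T' ⟶ T} {s : 𝒳.p.Fiber T'} {t : 𝒳.p.Fiber T}
    (a : Ar g s t) : Ar g (fibObj f s) (fibObj f t) :=
  ⟨f.map a.1, haveI := a.2; BasedFunctor.preserves_isHomLift f g a.1⟩

@[simp] theorem arMap_val (f : 𝒳 ⥤ᵇ 𝒴) {T' T : Over S} {g : T' ⟶ T} {s : 𝒳.p.Fiber T'}
    {t : 𝒳.p.Fiber T} (a : Ar g s t) : (arMap f a).1 = f.map a.1 := rfl

namespace FRep

variable {f : 𝒳 ⥤ᵇ 𝒴} {T : Over S} {t : 𝒴.p.Fiber T} {F : AlgSp.Sp S} (R : FRep f t F)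

/-- The map attached to a triple. -/
noncomputable def mk' {T' : Over S} {g : T' ⟶ T} (x : 𝒳.p.Fiber T') (b : Ar g (fibObj f x) t) :
    (yon S).obj T' ⟶ F :=
  K607.pt (R.sec g x b.1 b.2)

theorem mk'_π {T' : Over S} {g : T' ⟶ T} (x : 𝒳.p.Fiber T') (b : Ar g (fibObj f x) t) :
    R.mk' x b ≫ R.π = (yon S).map g := by
  apply K607.sec_injective
  rw [K607.sec_comp, mk', K607.sec_pt, R.sec_π, sec_yon_map]

theorem exists_mk' {T' : Over S} (h : (yon S).obj T' ⟶ F) :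
    ∃ (g : T' ⟶ T) (x : 𝒳.p.Fiber T') (b : Ar g (fibObj f x) t), R.mk' x b = h := by
  obtain ⟨g, x, b, hb, h'⟩ := R.sec_surj (K607.sec h)
  refine ⟨g, x, ⟨b, hb⟩, ?_⟩
  apply K607.sec_injective
  rw [mk', K607.sec_pt]
  exact h'

theorem mk'_eq_iff {T' : Over S} {g g' : T' ⟶ T} (x x' : 𝒳.p.Fiber T')
    (b : Ar g (fibObj f x) t) (b' : Ar g' (fibObj f x') t) :
    R.mk' x b = R.mk' x' b' ↔ ∃ θ : x ⟶ x', f.map θ.1 ≫ b'.1 = b.1 := by
  rw [← R.sec_eq_iff g g' x x' b.1 b'.1 b.2 b'.2]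
  exact ⟨fun h => K607.pt_injective h, fun h => congrArg K607.pt h⟩

theorem map_mk' {T' T'' : Over S} {h : T'' ⟶ T'} {g : T' ⟶ T} {x'' : 𝒳.p.Fiber T''}
    {x : 𝒳.p.Fiber T'} (c : Ar h x'' x) (b : Ar g (fibObj f x) t) :
    (yon S).map h ≫ R.mk' x b = R.mk' x'' ((arMap f c).comp b) := by
  rw [mk', K607.map_pt]
  exact congrArg K607.pt (R.sec_map h g x'' x c.1 b.1 c.2 b.2 ((arMap f c).comp b).2)

theorem exists_mk'_of {T' : Over S} (h : (yon S).obj T' ⟶ F) {g : T' ⟶ T}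
    (hh : h ≫ R.π = (yon S).map g) :
    ∃ (x : 𝒳.p.Fiber T') (b : Ar g (fibObj f x) t), R.mk' x b = h := by
  obtain ⟨g', x, b, rfl⟩ := R.exists_mk' h
  rw [R.mk'_π] at hh
  obtain rfl : g' = g := (yon S).map_injective hh
  exact ⟨x, b, rfl⟩

end FRep

end mk

/-- Local finite presentation from relative limit preservation. -/
theorem locP_lfp_of_surjComp {F : Sp S} {T : Over S} (π : F ⟶ (yon S).obj T) (h' : SurjComp π) :
    LocP @LocallyOfFinitePresentation π := by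
  intro U V a b g ha hb hab
  rw [locallyOfFinitePresentation_iff]
  intro V₀ hV₀ U₀ hU₀ e
  have hw : hU₀.fromSpec ≫ U.hom = Spec.map (g.left.appLE V₀ U₀ e) ≫ hV₀.fromSpec ≫ V.hom := by
    rw [← Over.w g, ← Category.assoc, ← Category.assoc, hV₀.SpecMap_appLE_fromSpec g.left hU₀ e]
  let u : Over.mk (Spec.map (g.left.appLE V₀ U₀ e) ≫ hV₀.fromSpec ≫ V.hom) ⟶ U :=
    Over.homMk hU₀.fromSpec hw
  let v : Over.mk (hV₀.fromSpec ≫ V.hom) ⟶ V := Over.homMk hV₀.fromSpec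
  have hu : RepWith @Etale ((yon S).map u) := (repWith_yon_map_iff _ _).2
    (show Etale hU₀.fromSpec from inferInstance)
  have hv : RepWith @Etale ((yon S).map v) := (repWith_yon_map_iff _ _).2
    (show Etale hV₀.fromSpec from inferInstance)
  have hmul : (RepWith (S := S) @Etale).IsMultiplicative := repWith_isMultiplicative (S := S) @Etale
  refine K602.S31.finitePresentation h' (hV₀.fromSpec ≫ V.hom) (g.left.appLE V₀ U₀ e)
    ((yon S).map u ≫ a) ((yon S).map v ≫ b) (hmul.comp_mem _ _ hu ha) (hmul.comp_mem _ _ hv hb) ?_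
  have key : u ≫ g = Over.homMk (Spec.map (g.left.appLE V₀ U₀ e)) ≫ v := by
    ext1
    exact (hV₀.SpecMap_appLE_fromSpec g.left hU₀ e).symm
  calc ((yon S).map u ≫ a) ≫ π = (yon S).map (u ≫ g) ≫ b := by
        rw [Category.assoc, hab, Functor.map_comp, Category.assoc]
    _ = _ := by rw [key, Functor.map_comp, Category.assoc]

variable [FibCat.IsFibGrpd 𝒳.p] [FibCat.IsFibGrpd 𝒴.p] [FibCat.IsFibGrpd 𝒳'.p]
    [FibCat.IsFibGrpd 𝒴'.p] {f : 𝒳 ⥤ᵇ 𝒴} {f' : 𝒳' ⥤ᵇ 𝒴'} (φ : IsoNat.FIsoSq f f')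

theorem cor_fibObj {T : Over S} {x : 𝒳.p.Fiber T} {x' : 𝒳'.p.Fiber T} (h : Cor φ.src x x') :
    Cor φ.tgt (fibObj f x) (fibObj f' x') := by
  have h' : φ.src.toEquiv T (IsoNat.cls x) = IsoNat.cls x' := h
  have h1 := φ.comm T (IsoNat.cls x)
  rw [h'] at h1
  exact h1

include φ in
theorem surjComp_of_fIsoSq
    (hf : ∀ (T : Over S) (s : 𝒴.p.Fiber T), ∃ (F : AlgSp.Space S) (R : FRep f s F.obj),
      LocP @LocallyOfFinitePresentation R.π)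
    (hAut : ∀ (T : Over S) (t : 𝒴'.p.Fiber T), ∃ (F : AlgSp.Space S) (R : AutRep t F.obj),
      LocP @LocallyOfFinitePresentation R.π)
    {T : Over S} {t : 𝒴'.p.Fiber T} {F : Sp S} (R : FRep f' t F) : SurjComp R.π := by
  intro I _ _ D c hc hD hpt x₀ i y₀ hxy₀
  obtain ⟨g, rfl⟩ := (yon S).map_surjective y₀
  obtain ⟨ti, ⟨ρ⟩⟩ := Ar.exists_pull g t
  obtain ⟨x', b, rfl⟩ := R.exists_mk'_of x₀ (g := c.π.app i ≫ g) (by rw [hxy₀, Functor.map_comp])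
  obtain ⟨a, ha⟩ := ρ.fac b (c.π.app i) rfl
  obtain ⟨si, hsi⟩ := exists_cor φ.tgt ti
  obtain ⟨x, hx⟩ := exists_cor φ.src x'
  obtain ⟨a₁⟩ := (cor_fibObj φ hx).ar' hsi a
  obtain ⟨F', R', hR'⟩ := hf _ si
  obtain ⟨j, ψ, fj, hfj, hfj'⟩ := lfpLim S F' ⟨_, IsAlgSpace.yon_obj (D.obj i)⟩ R'.π hR' D c hc hD
    hpt (R'.mk' x a₁) i (𝟙 _) (by rw [R'.mk'_π, Category.comp_id])
  rw [Category.comp_id] at hfj'
  obtain ⟨xj, aj, rfl⟩ := R'.exists_mk'_of fj hfj'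
  have hw : c.π.app j ≫ D.map ψ = c.π.app i := c.w ψ
  -- the arrow `x ⟶ xj`
  obtain ⟨xj', ⟨κ⟩⟩ := Ar.exists_pull (c.π.app j) xj
  rw [R'.map_mk' κ, R'.mk'_eq_iff] at hfj
  obtain ⟨θ, -⟩ := hfj
  have ej : Ar (c.π.app j) x xj := κ.precomp (inv θ)
  obtain ⟨yj, hyj⟩ := exists_cor' φ.src xj
  obtain ⟨ej'⟩ := hx.ar hyj ej
  obtain ⟨aj'⟩ := (cor_fibObj φ hyj).ar hsi aj
  obtain ⟨ε, hε⟩ := ((arMap f' ej').comp aj').facHom (a.cast hw.symm)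
  rw [Ar.cast_val] at hε
  -- descend the automorphism
  obtain ⟨F'', R'', hR''⟩ := hAut _ (fibObj f' yj)
  obtain ⟨k, χ, fk, hfk, hfk'⟩ := lfpLim S F'' ⟨_, IsAlgSpace.yon_obj (D.obj j)⟩ R''.π hR'' D c hc
    hD hpt (R''.mk' (arMap f' ej') ε) j (𝟙 _) (by rw [R''.mk'_π, Category.comp_id])
  rw [Category.comp_id] at hfk'
  obtain ⟨yk, ⟨κ₂⟩⟩ := Ar.exists_pull (D.map χ) yj
  obtain ⟨εk, rfl⟩ := R''.exists_mk'_of fk hfk' (arMap f' κ₂)
  obtain ⟨l₂, hl₂⟩ := κ₂.fac ej' (c.π.app k) (c.w χ)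
  obtain ⟨ε', hε'⟩ := (arMap f' l₂).exists_res (arMap f' l₂) εk
  rw [R''.map_mk' (arMap f' l₂) (arMap f' κ₂) εk ε' hε', R''.mk'_eq_iff] at hfk
  obtain ⟨θ', h1, h2⟩ := hfk
  have hl₂' : f'.map l₂.1 ≫ f'.map κ₂.1 = f'.map ej'.1 := by rw [← f'.map_comp, hl₂]
  rw [Ar.comp_val, arMap_val, arMap_val, arMap_val, hl₂'] at h2
  have hθ : θ' = 𝟙 _ := Ar.cancelHom (arMap f' ej') (by
    rw [arMap_val, h2, id_val, Category.id_comp])
  rw [hθ, Category.comp_id, Category.id_comp] at h1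
  subst h1
  refine ⟨k, χ ≫ ψ, R.mk' yk (((arMap f' κ₂).comp (aj'.comp ρ)).precomp εk |>.cast
    (Category.assoc _ _ _).symm), ?_, ?_⟩
  · rw [R.map_mk' l₂, R.mk'_eq_iff]
    refine ⟨𝟙 _, ?_⟩
    simp only [id_val, Ar.comp_val, Ar.precomp_val, Ar.cast_val, arMap_val]
    rw [f'.map_id, Category.id_comp]
    rw [arMap_val] at hε'
    rw [← reassoc_of% hε', reassoc_of% hl₂', ← ha, ← hε, Ar.comp_val, arMap_val]
    simp only [Category.assoc]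
  · have e : (D.map χ ≫ D.map ψ) ≫ g = D.map (χ ≫ ψ) ≫ g := by rw [D.map_comp]
    have e' := (yon S).map_comp (D.map (χ ≫ ψ)) g
    rw [← e', ← e, R.mk'_π, Category.assoc]

include φ in
/-- S15476 -/
theorem repByAlgSpWith_lfp_of_fIsoSq
    (h𝒴'i : AlgSt.RepByAlgSpWith (AlgSp.LocP @LocallyOfFinitePresentation)
      (FibCat.inertiaToBase (FibCat.toSelf 𝒴')))
    (hf' : AlgSt.RepByAlgSp1 f')
    (hf : AlgSt.RepByAlgSpWith (AlgSp.LocP @LocallyOfFinitePresentation) f) :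
    AlgSt.RepByAlgSpWith (AlgSp.LocP @LocallyOfFinitePresentation) f' := by
  have h2 : AlgSt.RepByAlgSpWith ⊤ f' := fun V z => by
    obtain ⟨F, e, he⟩ := hf' V z
    exact ⟨F, e, he, trivial⟩
  refine repByAlgSpWith_of_fRep fun t => ?_
  obtain ⟨F, R, -⟩ := exists_fRep h2 t
  exact ⟨F, R, locP_lfp_of_surjComp R.π (surjComp_of_fIsoSq φ (fun _ s => exists_fRep hf s)
    (fun _ t => exists_autRep t h𝒴'i) R)⟩

end K862
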