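import Groth.Agent.IsoNat.K862.FRep

/-!
# `U ×_𝒳 T` for objects `x` over `U`, `t` over `T`, elementwise

`SpanRep x t F`: sections of `F` over `T'` are classes of spans `x ← z → t` with `z` over `T'`.
* `exists_spanRep`, `repByAlgSpWith_of_spanRep` : relation with `AlgSt.RepByAlgSpWith P X` for
  `X : FibCat.overCat U ⥤ᵇ 𝒳` with object `objOf X`.
-/

set_option autoImplicit false
set_option linter.unusedSectionVars false
set_option backward.isDefEq.respectTransparency false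
set_option backward.isDefEq.respectTransparency.types false

universe u

open CategoryTheory CategoryTheory.Limits AlgebraicGeometry Opposite K862.Fib K862.Yon

namespace K862

variable {S : Scheme.{u}} {𝒳 : AlgSt.Cat S}

/-- The sheaf `F` with its maps to `h_T` and `h_U` is the fibre product `U ×_𝒳 T` of the objects
`x` over `U` and `t` over `T`. -/
structure SpanRep {U : Over S} (x : 𝒳.p.Fiber U) {T : Over S} (t : 𝒳.p.Fiber T)
    (F : AlgSp.Sp S) where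
  /-- the projection to `T` -/
  π : F ⟶ (AlgSp.yon S).obj T
  /-- the section attached to a span -/
  sec : ∀ {T' : Over S} (g : T' ⟶ T) (u : T' ⟶ U) (z : 𝒳.p.Fiber T') (a : z.1 ⟶ x.1)
    (b : z.1 ⟶ t.1), 𝒳.p.IsHomLift u a → 𝒳.p.IsHomLift g b → F.obj.obj (op T')
  sec_π : ∀ {T' : Over S} (g : T' ⟶ T) (u : T' ⟶ U) (z : 𝒳.p.Fiber T') (a : z.1 ⟶ x.1)
    (b : z.1 ⟶ t.1) (ha : 𝒳.p.IsHomLift u a) (hb : 𝒳.p.IsHomLift g b),
    π.hom.app (op T') (sec g u z a b ha hb) = ⟨g⟩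
  sec_surj : ∀ {T' : Over S} (s : F.obj.obj (op T')), ∃ (g : T' ⟶ T) (u : T' ⟶ U)
    (z : 𝒳.p.Fiber T') (a : z.1 ⟶ x.1) (b : z.1 ⟶ t.1) (ha : 𝒳.p.IsHomLift u a)
    (hb : 𝒳.p.IsHomLift g b), sec g u z a b ha hb = s
  sec_eq_iff : ∀ {T' : Over S} (g g' : T' ⟶ T) (u u' : T' ⟶ U) (z z' : 𝒳.p.Fiber T')
    (a : z.1 ⟶ x.1) (a' : z'.1 ⟶ x.1) (b : z.1 ⟶ t.1) (b' : z'.1 ⟶ t.1)
    (ha : 𝒳.p.IsHomLift u a) (ha' : 𝒳.p.IsHomLift u' a') (hb : 𝒳.p.IsHomLift g b)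
    (hb' : 𝒳.p.IsHomLift g' b'),
    sec g u z a b ha hb = sec g' u' z' a' b' ha' hb' ↔
      ∃ θ : z ⟶ z', θ.1 ≫ a' = a ∧ θ.1 ≫ b' = b
  sec_map : ∀ {T' T'' : Over S} (h : T'' ⟶ T') (g : T' ⟶ T) (u : T' ⟶ U) (z'' : 𝒳.p.Fiber T'')
    (z : 𝒳.p.Fiber T') (c : z''.1 ⟶ z.1) (a : z.1 ⟶ x.1) (b : z.1 ⟶ t.1)
    (_ : 𝒳.p.IsHomLift h c) (ha : 𝒳.p.IsHomLift u a) (hb : 𝒳.p.IsHomLift g b)
    (hca : 𝒳.p.IsHomLift (h ≫ u) (c ≫ a)) (hcb : 𝒳.p.IsHomLift (h ≫ g) (c ≫ b)),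
    F.obj.map h.op (sec g u z a b ha hb) = sec (h ≫ g) (h ≫ u) z'' (c ≫ a) (c ≫ b) hca hcb

section

variable [FibCat.IsFibGrpd 𝒳.p] {U T : Over S} {X : FibCat.overCat U ⥤ᵇ 𝒳} {t : 𝒳.p.Fiber T}
  {F : AlgSp.Sp S}

/-- `u : T' ⟶ U` as an object of the fibre of `Sch/U`. -/
def ovr {T' : Over S} (u : T' ⟶ U) : (FibCat.overCat U).p.Fiber T' := ⟨Over.mk u, rfl⟩

theorem ovr_hom_eq {T' : Over S} {u u' : T' ⟶ U} (θ : ovr u ⟶ ovr u') : u = u' := by
  have h1 : 𝟙 T' = Over.Hom.left θ.1 :=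
    eq_of_lift (FibCat.overCat U).p θ.1 θ.2 (IsHomLift.map (FibCat.overCat U).p θ.1)
  have h2 : Over.Hom.left θ.1 ≫ u' = u := Over.w θ.1
  exact h2.symm.trans ((congrArg (· ≫ u') h1.symm).trans (Category.id_comp u'))

theorem overCat_hom_ext {T' T'' : Over S} (h : T'' ⟶ T') {v : (FibCat.overCat U).p.Fiber T''}
    {w : (FibCat.overCat U).p.Fiber T'} (c c' : v.1 ⟶ w.1)
    (hc : (FibCat.overCat U).p.IsHomLift h c) (hc' : (FibCat.overCat U).p.IsHomLift h c') :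
    c = c' := by
  obtain ⟨v, rfl⟩ := v
  obtain ⟨w, rfl⟩ := w
  exact Over.OverMorphism.ext ((IsHomLift.eq_of_isHomLift (FibCat.overCat U).p h c).symm.trans
    (IsHomLift.eq_of_isHomLift (FibCat.overCat U).p h c'))

/-- The comparison attached to an arrow to `X(𝟙)` over `u`. -/
noncomputable def spanCmp {T' : Over S} (u : T' ⟶ U) (z : 𝒳.p.Fiber T') (a : z.1 ⟶ (objOf X).1)
    (ha : 𝒳.p.IsHomLift u a) : objAt X u ⟶ z :=
  cmpHom (p := 𝒳.p) u (arrAt X u) a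

theorem spanCmp_comp {T' : Over S} (u : T' ⟶ U) (z : 𝒳.p.Fiber T') (a : z.1 ⟶ (objOf X).1)
    (ha : 𝒳.p.IsHomLift u a) : (spanCmp u z a ha).1 ≫ a = arrAt X u :=
  cmp_comp (p := 𝒳.p) u (arrAt X u) a

theorem spanCmp_uniq {T' : Over S} (u : T' ⟶ U) (z : 𝒳.p.Fiber T') (a : z.1 ⟶ (objOf X).1)
    (ha : 𝒳.p.IsHomLift u a) (c : objAt X u ⟶ z) (hc : c.1 ≫ a = arrAt X u) :
    c = spanCmp u z a ha :=
  hom_ext' (cancel (p := 𝒳.p) u (𝟙 T') a (hc.trans (spanCmp_comp u z a ha).symm))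

theorem lift_spanCmp {T' : Over S} {g : T' ⟶ T} (u : T' ⟶ U) (z : 𝒳.p.Fiber T')
    (a : z.1 ⟶ (objOf X).1) (b : z.1 ⟶ t.1)
    (ha : 𝒳.p.IsHomLift u a) (hb : 𝒳.p.IsHomLift g b) :
    𝒳.p.IsHomLift g ((spanCmp u z a ha).1 ≫ b) :=
  IsHomLift.comp_lift_id_left 𝒳.p g b (spanCmp u z a ha).1

/-- From `FRep` to `SpanRep`. -/
noncomputable def SpanRep.ofFRep (R : FRep X t F) : SpanRep (objOf X) t F where
  π := R.π
  sec g u z a b ha hb := R.sec g (ovr u) ((spanCmp u z a ha).1 ≫ b) (lift_spanCmp u z a b ha hb)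
  sec_π g u z a b ha hb := R.sec_π g _ _ _
  sec_surj s := by
    obtain ⟨g, ⟨x', rfl⟩, b, hb, rfl⟩ := R.sec_surj s
    refine ⟨g, x'.hom, objAt X x'.hom, arrAt X x'.hom, b, inferInstance, hb, ?_⟩
    apply R.sec_congr
    have : 𝟙 _ = spanCmp x'.hom (objAt X x'.hom) (arrAt X x'.hom) inferInstance :=
      spanCmp_uniq _ _ _ _ _ (Category.id_comp _)
    rw [← this]
    exact Category.id_comp _
  sec_eq_iff {T'} g g' u u' z z' a a' b b' ha ha' hb hb' := by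
    rw [R.sec_eq_iff]
    constructor
    · rintro ⟨θ, hθ⟩
      obtain rfl : u = u' := ovr_hom_eq θ
      have hθ1 : θ.1 = 𝟙 _ := overCat_hom_ext (𝟙 T') θ.1 (𝟙 _) θ.2 (IsHomLift.id rfl)
      rw [hθ1] at hθ
      have hid : X.map (𝟙 (ovr u).1) = 𝟙 _ := X.toFunctor.map_id _
      rw [hid, Category.id_comp] at hθ
      have e1 := spanCmp_comp u z a ha
      have e2 := spanCmp_comp u z' a' ha'
      refine ⟨inv (spanCmp u z a ha) ≫ spanCmp u z' a' ha', ?_, ?_⟩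
      · rw [comp_val, Category.assoc, e2, ← e1, ← Category.assoc, ← comp_val, IsIso.inv_hom_id,
          id_val, Category.id_comp]
      · rw [comp_val, Category.assoc, hθ, ← Category.assoc, ← comp_val, IsIso.inv_hom_id,
          id_val, Category.id_comp]
    · rintro ⟨θ, hθ1, hθ2⟩
      have l1 : 𝒳.p.IsHomLift u' (θ.1 ≫ a') := IsHomLift.comp_lift_id_left 𝒳.p u' a' θ.1
      rw [hθ1] at l1
      obtain rfl : u = u' := eq_of_lift 𝒳.p a ha l1
      refine ⟨𝟙 _, ?_⟩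
      have hid : X.map (𝟙 (ovr u).1) = 𝟙 _ := X.toFunctor.map_id _
      have e3 : spanCmp u z a ha ≫ θ = spanCmp u z' a' ha' := by
        apply spanCmp_uniq
        rw [comp_val, Category.assoc, hθ1, spanCmp_comp]
      rw [id_val, hid, Category.id_comp, ← e3, comp_val, Category.assoc, hθ2]
  sec_map {T' T''} h g u z'' z c a b hc ha hb hca hcb := by
    let d : (ovr (h ≫ u)).1 ⟶ (ovr u).1 := Over.homMk h
    have hd : (FibCat.overCat U).p.IsHomLift h d := overCat_isHomLift d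
    have hXd : 𝒳.p.IsHomLift h (X.map d) := lift_map X d
    have hd2 : X.map d ≫ arrAt X u = arrAt X (h ≫ u) := map_arrAt X d
    have key : X.map d ≫ (spanCmp u z a ha).1 = (spanCmp (h ≫ u) z'' (c ≫ a) hca).1 ≫ c := by
      have k1 : 𝒳.p.IsHomLift h (X.map d ≫ (spanCmp u z a ha).1) :=
        IsHomLift.comp_lift_id_right 𝒳.p h (X.map d) (spanCmp u z a ha).1
      have k2 : 𝒳.p.IsHomLift h ((spanCmp (h ≫ u) z'' (c ≫ a) hca).1 ≫ c) :=
        IsHomLift.comp_lift_id_left 𝒳.p h c (spanCmp (h ≫ u) z'' (c ≫ a) hca).1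
      refine cancel (p := 𝒳.p) u h a ?_
      have q1 : (X.map d ≫ (spanCmp u z a ha).1) ≫ a = X.map d ≫ arrAt X u := by
        rw [Category.assoc, spanCmp_comp]
      have q2 : ((spanCmp (h ≫ u) z'' (c ≫ a) hca).1 ≫ c) ≫ a = arrAt X (h ≫ u) := by
        rw [Category.assoc, spanCmp_comp]
      rw [q1, q2, hd2]
    have l3 := lift_spanCmp u z a b ha hb
    rw [R.sec_map h g (ovr (h ≫ u)) (ovr u) d _ hd _ (IsHomLift.comp 𝒳.p h g (X.map d) _)]
    apply R.sec_congr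
    have : X.map d ≫ (spanCmp u z a ha).1 ≫ b =
        (spanCmp (h ≫ u) z'' (c ≫ a) hca).1 ≫ c ≫ b := by
      rw [← Category.assoc, key, Category.assoc]
    exact this

/-- The morphism `T' ⟶ U` attached to an object of the fibre of `Sch/U`. -/
def ovrHom {T' : Over S} (x' : (FibCat.overCat U).p.Fiber T') : T' ⟶ U :=
  eqToHom x'.2.symm ≫ (x'.1 : Over U).hom

theorem can_lift' {T' : Over S} (x' : (FibCat.overCat U).p.Fiber T') :
    𝒳.p.IsHomLift (ovrHom x') (X.map (can x'.1)) := by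
  obtain ⟨x', rfl⟩ := x'
  simp only [ovrHom, eqToHom_refl, Category.id_comp]
  exact lift_map X (can x')

/-- From `SpanRep` to `FRep`. -/
noncomputable def SpanRep.toFRep (R : SpanRep (objOf X) t F) : FRep X t F where
  π := R.π
  sec g x' b hb := R.sec g (ovrHom x') (fibObj X x') (X.map (can x'.1)) b (can_lift' x') hb
  sec_π g x' b hb := R.sec_π _ _ _ _ _ _ _
  sec_surj {T'} s := by
    obtain ⟨g, u, z, a, b, ha, hb, rfl⟩ := R.sec_surj s
    refine ⟨g, ovr u, (spanCmp u z a ha).1 ≫ b, lift_spanCmp u z a b ha hb, ?_⟩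
    rw [R.sec_eq_iff]
    exact ⟨spanCmp u z a ha, spanCmp_comp u z a ha, rfl⟩
  sec_eq_iff {T'} g g' x' x'' b b' hb hb' := by
    rw [R.sec_eq_iff]
    constructor
    · rintro ⟨θ, hθ1, hθ2⟩
      have l1 : 𝒳.p.IsHomLift (ovrHom x'') (θ.1 ≫ X.map (can x''.1)) :=
        haveI := can_lift' (X := X) x''
        IsHomLift.comp_lift_id_left 𝒳.p _ _ θ.1
      have l2 := can_lift' (X := X) x'
      have hu : ovrHom x' = ovrHom x'' := by
        rw [hθ1] at l1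
        exact eq_of_lift 𝒳.p _ l2 l1
      obtain ⟨x', rfl⟩ := x'
      obtain ⟨x'', hx''⟩ := x''
      let d : x' ⟶ x'' := Over.homMk (eqToHom hx''.symm) (by
        have : eqToHom hx''.symm ≫ x''.hom = x'.hom := by
          have h0 : ovrHom (⟨x', rfl⟩ : (FibCat.overCat U).p.Fiber _) = x'.hom := by
            simp only [ovrHom, eqToHom_refl, Category.id_comp]
          rw [← h0, hu]
          rfl
        exact this)
      have hd : (FibCat.overCat U).p.IsHomLift (𝟙 ((FibCat.overCat U).p.obj x')) d :=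
        IsHomLift.of_fac (FibCat.overCat U).p _ d rfl hx'' (by
          have h9 : (FibCat.overCat U).p.map d = eqToHom hx''.symm := rfl
          rw [h9, eqToHom_trans, eqToHom_refl, Category.comp_id])
      have hXd : 𝒳.p.IsHomLift (𝟙 ((FibCat.overCat U).p.obj x')) (X.map d) :=
        BasedFunctor.preserves_isHomLift X _ d
      refine ⟨⟨d, hd⟩, ?_⟩
      have k : X.map d = θ.1 := by
        have k2 := can_lift' (X := X) (⟨x'', hx''⟩ : (FibCat.overCat U).p.Fiber _)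
        have hθl : 𝒳.p.IsHomLift (𝟙 ((FibCat.overCat U).p.obj x')) θ.1 := θ.2
        refine cancel (p := 𝒳.p) (ovrHom (⟨x'', hx''⟩ : (FibCat.overCat U).p.Fiber _))
          (𝟙 ((FibCat.overCat U).p.obj x')) (X.map (can x'')) ?_
        rw [hθ1, ← X.toFunctor.map_comp, comp_can]
      rw [k, hθ2]
    · rintro ⟨θ, hθ⟩
      have hXd : 𝒳.p.IsHomLift (𝟙 T') (X.map θ.1) :=
        haveI := θ.2
        BasedFunctor.preserves_isHomLift X (𝟙 T') θ.1
      refine ⟨⟨X.map θ.1, hXd⟩, ?_, hθ⟩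
      rw [← X.toFunctor.map_comp, comp_can]
  sec_map {T' T''} h g x'' x' c b hc hb hcb := by
    have l1 := can_lift' (X := X) x'
    have hXc : 𝒳.p.IsHomLift h (X.map c) := BasedFunctor.preserves_isHomLift X h c
    have key : X.map c ≫ X.map (can x'.1) = X.map (can x''.1) := by
      rw [← X.toFunctor.map_comp, comp_can]
    have l2 : 𝒳.p.IsHomLift (h ≫ ovrHom x') (X.map c ≫ X.map (can x'.1)) :=
      IsHomLift.comp 𝒳.p h _ _ _
    rw [R.sec_map h g (ovrHom x') (fibObj X x'') (fibObj X x') (X.map c) _ b hXc l1 hb l2 hcb]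
    rw [R.sec_eq_iff]
    exact ⟨𝟙 _, by rw [id_val, Category.id_comp, key], by rw [id_val, Category.id_comp]⟩
  uniq {T'} g' x' x'' θ θ' b' hb' e :=
    hom_ext' (overCat_hom_ext (𝟙 T') θ.1 θ'.1 θ.2 θ'.2)

theorem exists_spanRep {P : MorphismProperty (AlgSp.Sp S)} (h : AlgSt.RepByAlgSpWith P X)
    (t : 𝒳.p.Fiber T) : ∃ (F : AlgSp.Space S) (R : SpanRep (objOf X) t F.obj), P R.π := by
  obtain ⟨F, R, hR⟩ := exists_fRep h t
  exact ⟨F, SpanRep.ofFRep R, hR⟩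

theorem repByAlgSpWith_of_spanRep {P : MorphismProperty (AlgSp.Sp S)}
    (h : ∀ {T : Over S} (t : 𝒳.p.Fiber T),
      ∃ (F : AlgSp.Space S) (R : SpanRep (objOf X) t F.obj), P R.π) :
    AlgSt.RepByAlgSpWith P X :=
  repByAlgSpWith_of_fRep fun t => by
    obtain ⟨F, R, hR⟩ := h t
    exact ⟨F, R.toFRep, hR⟩

end

end K862
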