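import Groth.Agent.IsoNat.K862.Ar
import Groth.Agent.IsoNat.K862.Span
import Groth.Agent.IsoNat.K862.Isom
import Groth.Agent.AlgSp.K607.Pt

/-!
# `SpanRep` and `AutRep` in terms of maps `h_T ⟶ F` and bundled arrows
-/

set_option autoImplicit false
set_option linter.unusedSectionVars false
set_option backward.isDefEq.respectTransparency false
set_option backward.isDefEq.respectTransparency.types false

universe u

open CategoryTheory CategoryTheory.Limits AlgebraicGeometry Opposite K862.Fib K862.Yon AlgSp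

namespace K862

variable {S : Scheme.{u}} {𝒳 : AlgSt.Cat S}

section

variable {T' : Over S} {G : Sp S}

theorem sec_yon_map {T : Over S} (g : T' ⟶ T) : K607.sec ((yon S).map g) = ⟨g⟩ := by
  have h : (yon S).map g = (yon S).map g ≫ 𝟙 _ := (Category.comp_id _).symm
  rw [h, K607.sec_map]
  change ((yon S).obj T).obj.map g.op ⟨𝟙 T⟩ = _
  apply ULift.ext
  exact Category.comp_id g

end

namespace SpanRep

variable {U T : Over S} {x : 𝒳.p.Fiber U} {t : 𝒳.p.Fiber T} {F : Sp S} (R : SpanRep x t F)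

/-- The map attached to a span. -/
noncomputable def mk' {T' : Over S} {z : 𝒳.p.Fiber T'} {g : T' ⟶ T} {u : T' ⟶ U} (b : Ar g z t)
    (a : Ar u z x) : (yon S).obj T' ⟶ F :=
  K607.pt (R.sec g u z a.1 b.1 a.2 b.2)

theorem mk'_π {T' : Over S} {z : 𝒳.p.Fiber T'} {g : T' ⟶ T} {u : T' ⟶ U} (b : Ar g z t)
    (a : Ar u z x) : R.mk' b a ≫ R.π = (yon S).map g := by
  apply K607.sec_injective
  rw [K607.sec_comp, mk', K607.sec_pt, R.sec_π, sec_yon_map]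

theorem exists_mk' {T' : Over S} (f : (yon S).obj T' ⟶ F) :
    ∃ (z : 𝒳.p.Fiber T') (g : T' ⟶ T) (u : T' ⟶ U) (b : Ar g z t) (a : Ar u z x),
      R.mk' b a = f := by
  obtain ⟨g, u, z, a, b, ha, hb, h⟩ := R.sec_surj (K607.sec f)
  refine ⟨z, g, u, ⟨b, hb⟩, ⟨a, ha⟩, ?_⟩
  apply K607.sec_injective
  rw [mk', K607.sec_pt, h]

theorem mk'_eq_iff {T' : Over S} {z z' : 𝒳.p.Fiber T'} {g g' : T' ⟶ T} {u u' : T' ⟶ U}
    (b : Ar g z t) (a : Ar u z x) (b' : Ar g' z' t) (a' : Ar u' z' x) :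
    R.mk' b a = R.mk' b' a' ↔ ∃ θ : z ⟶ z', θ.1 ≫ a'.1 = a.1 ∧ θ.1 ≫ b'.1 = b.1 := by
  rw [← R.sec_eq_iff g g' u u' z z' a.1 a'.1 b.1 b'.1 a.2 a'.2 b.2 b'.2]
  exact ⟨fun h => K607.pt_injective h, fun h => congrArg K607.pt h⟩

theorem map_mk' {T' T'' : Over S} {z : 𝒳.p.Fiber T'} {z'' : 𝒳.p.Fiber T''} {g : T' ⟶ T}
    {u : T' ⟶ U} {h : T'' ⟶ T'} (c : Ar h z'' z) (b : Ar g z t) (a : Ar u z x) :
    (yon S).map h ≫ R.mk' b a = R.mk' (c.comp b) (c.comp a) := by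
  rw [mk', K607.map_pt]
  exact congrArg K607.pt (R.sec_map h g u z'' z c.1 a.1 b.1 c.2 a.2 b.2 (c.comp a).2 (c.comp b).2)

/-- Every map over `g` comes from a span with given left leg. -/
theorem exists_mk'_of [FibCat.IsFibGrpd 𝒳.p] {T' : Over S} (f : (yon S).obj T' ⟶ F) {g : T' ⟶ T}
    (hf : f ≫ R.π = (yon S).map g) {z : 𝒳.p.Fiber T'} (b : Ar g z t) :
    ∃ (u : T' ⟶ U) (a : Ar u z x), R.mk' b a = f := by
  obtain ⟨z', g', u, b', a', rfl⟩ := R.exists_mk' f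
  rw [R.mk'_π] at hf
  obtain rfl : g' = g := (yon S).map_injective hf
  obtain ⟨α, hα⟩ := b'.facHom b
  exact ⟨u, a'.precomp α, (R.mk'_eq_iff _ _ _ _).2 ⟨α, rfl, hα⟩⟩

end SpanRep

namespace AutRep

variable {T : Over S} {t : 𝒳.p.Fiber T} {F : Sp S} (R : AutRep t F)

/-- The map attached to an automorphism of a pullback. -/
noncomputable def mk' {T' : Over S} {z : 𝒳.p.Fiber T'} {g : T' ⟶ T} (b : Ar g z t)
    (σ : z ⟶ z) : (yon S).obj T' ⟶ F :=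
  K607.pt (R.sec g z b.1 σ b.2)

theorem mk'_π {T' : Over S} {z : 𝒳.p.Fiber T'} {g : T' ⟶ T} (b : Ar g z t)
    (σ : z ⟶ z) : R.mk' b σ ≫ R.π = (yon S).map g := by
  apply K607.sec_injective
  rw [K607.sec_comp, mk', K607.sec_pt, R.sec_π, sec_yon_map]

theorem exists_mk' {T' : Over S} (f : (yon S).obj T' ⟶ F) :
    ∃ (z : 𝒳.p.Fiber T') (g : T' ⟶ T) (b : Ar g z t) (σ : z ⟶ z), R.mk' b σ = f := by
  obtain ⟨g, z, b, σ, hb, h⟩ := R.sec_surj (K607.sec f)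
  refine ⟨z, g, ⟨b, hb⟩, σ, ?_⟩
  apply K607.sec_injective
  rw [mk', K607.sec_pt, h]

theorem mk'_eq_iff {T' : Over S} {z z' : 𝒳.p.Fiber T'} {g g' : T' ⟶ T}
    (b : Ar g z t) (σ : z ⟶ z) (b' : Ar g' z' t) (σ' : z' ⟶ z') :
    R.mk' b σ = R.mk' b' σ' ↔ ∃ θ : z ⟶ z', σ ≫ θ = θ ≫ σ' ∧ θ.1 ≫ b'.1 = b.1 := by
  rw [← R.sec_eq_iff g g' z z' b.1 b'.1 σ σ' b.2 b'.2]
  exact ⟨fun h => K607.pt_injective h, fun h => congrArg K607.pt h⟩

theorem map_mk' {T' T'' : Over S} {z : 𝒳.p.Fiber T'} {z'' : 𝒳.p.Fiber T''} {g : T' ⟶ T}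
    {h : T'' ⟶ T'} (c : Ar h z'' z) (b : Ar g z t) (σ : z ⟶ z) (σ'' : z'' ⟶ z'')
    (e : σ''.1 ≫ c.1 = c.1 ≫ σ.1) :
    (yon S).map h ≫ R.mk' b σ = R.mk' (c.comp b) σ'' := by
  rw [mk', K607.map_pt]
  exact congrArg K607.pt (R.sec_map h g z'' z c.1 b.1 σ σ'' c.2 b.2 (c.comp b).2 e)

theorem mk'_inj [FibCat.IsFibGrpd 𝒳.p] {T' : Over S} {z : 𝒳.p.Fiber T'} {g : T' ⟶ T}
    (b : Ar g z t) {σ σ' : z ⟶ z} (h : R.mk' b σ = R.mk' b σ') : σ = σ' :=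
  R.sec_inj g b.1 b.2 (K607.pt_injective h)

theorem exists_mk'_of [FibCat.IsFibGrpd 𝒳.p] {T' : Over S} (f : (yon S).obj T' ⟶ F) {g : T' ⟶ T}
    (hf : f ≫ R.π = (yon S).map g) {z : 𝒳.p.Fiber T'} (b : Ar g z t) :
    ∃ σ : z ⟶ z, R.mk' b σ = f := by
  obtain ⟨z', g', b', σ', rfl⟩ := R.exists_mk' f
  rw [R.mk'_π] at hf
  obtain rfl : g' = g := (yon S).map_injective hf
  obtain ⟨α, hα⟩ := b'.facHom b
  exact ⟨α ≫ σ' ≫ inv α, (R.mk'_eq_iff _ _ _ _).2 ⟨α, by simp, hα⟩⟩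

end AutRep

end K862
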