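import Groth.Agent.IsoNat.K862.SplitLoc
import Mathlib.AlgebraicGeometry.Morphisms.Smooth
import Mathlib.AlgebraicGeometry.Morphisms.FinitePresentation

/-!
# Smoothness from infinitesimal lifting up to flat covers
-/

set_option autoImplicit false
universe u
open CategoryTheory CategoryTheory.Limits AlgebraicGeometry

namespace K862.SmoothLoc

/-- A morphism locally of finite presentation with the infinitesimal lifting property locally for the flat
topology is smooth. -/
theorem smooth_of_local_lift {X Y : Scheme.{u}} (f : X ⟶ Y) [LocallyOfFinitePresentation f]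
    (H : ∀ (A : Type u) [CommRing A] (I : Ideal A), I ^ 2 = ⊥ →
      ∀ (x₀ : Spec (.of (A ⧸ I)) ⟶ X) (a : Spec (.of A) ⟶ Y),
        x₀ ≫ f = Spec.map (CommRingCat.ofHom (Ideal.Quotient.mk I)) ≫ a →
      ∀ p : Ideal A, p.IsMaximal → ∃ (B : Type u) (_ : CommRing B) (e : A →+* B), e.Flat ∧
        p.map e ≠ ⊤ ∧ ∃ x : Spec (.of B) ⟶ X, x ≫ f = Spec.map (CommRingCat.ofHom e) ≫ a ∧
          Spec.map (CommRingCat.ofHom (Ideal.Quotient.mk (I.map e))) ≫ x =
            Spec.map (CommRingCat.ofHom (Ideal.quotientMap (I.map e) e Ideal.le_comap_map)) ≫ x₀) :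
    Smooth f := by
  rw [smooth_iff]
  intro U hU V hV e
  let R : Type u := Γ(Y, U)
  let C : Type u := Γ(X, V)
  let _ : Algebra R C := (f.appLE U V e).hom.toAlgebra
  have hfp : Algebra.FinitePresentation R C := f.finitePresentation_appLE hU hV e
  obtain ⟨n, π, hπ, hfg⟩ := hfp.out
  suffices h : Algebra.FormallySmooth R C from ⟨h, hfp⟩
  refine SplitLoc.formallySmooth_of_local π hπ hfg ?_
  intro p hp
  let J : Ideal (MvPolynomial (Fin n) R) := RingHom.ker π.toRingHom
  let A : Type u := MvPolynomial (Fin n) R ⧸ J ^ 2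
  let I : Ideal A := J.map (Ideal.Quotient.mk (J ^ 2))
  have hI2 : I ^ 2 = ⊥ := by
    change (J.map (Ideal.Quotient.mk (J ^ 2))) ^ 2 = ⊥
    rw [← Ideal.map_pow, Ideal.map_quotient_self]
  let τ : A →+* C := Ideal.Quotient.lift (J ^ 2) π.toRingHom (fun a ha => by
    exact (Ideal.pow_le_self two_ne_zero ha : a ∈ J))
  have hτ : ∀ x, τ (Ideal.Quotient.mk _ x) = π x := fun x => rfl
  have hτs : Function.Surjective τ := by
    intro c
    obtain ⟨x, rfl⟩ := hπ c
    exact ⟨Ideal.Quotient.mk _ x, rfl⟩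
  have hτk : RingHom.ker τ = I := by
    ext a
    obtain ⟨x, rfl⟩ := Ideal.Quotient.mk_surjective a
    rw [RingHom.mem_ker, hτ]
    constructor
    · intro h
      exact Ideal.mem_map_of_mem _ (h : x ∈ J)
    · intro h
      rw [Ideal.mem_map_iff_of_surjective _ Ideal.Quotient.mk_surjective] at h
      obtain ⟨z, hz, hz'⟩ := h
      have h1 : τ (Ideal.Quotient.mk _ z) = τ (Ideal.Quotient.mk _ x) := by rw [hz']
      rw [hτ, hτ] at h1
      rw [← h1]
      exact hz
  let κ : A ⧸ I ≃+* C := (Ideal.quotEquivOfEq hτk.symm).trans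
    (RingHom.quotientKerEquivOfSurjective hτs)
  have hκ : ∀ a, κ.symm (τ a) = Ideal.Quotient.mk I a := by
    intro a
    rw [RingEquiv.symm_apply_eq]
    rfl
  let κs : C →+* A ⧸ I := κ.symm
  let mκ : CommRingCat.of C ⟶ CommRingCat.of (A ⧸ I) := CommRingCat.ofHom κs
  let mI : CommRingCat.of A ⟶ CommRingCat.of (A ⧸ I) := CommRingCat.ofHom (Ideal.Quotient.mk I)
  let mA : CommRingCat.of R ⟶ CommRingCat.of A := CommRingCat.ofHom (algebraMap R A)
  let x₀ : Spec (.of (A ⧸ I)) ⟶ X := Spec.map mκ ≫ hV.fromSpec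
  let a : Spec (.of A) ⟶ Y := Spec.map mA ≫ hU.fromSpec
  have hw : x₀ ≫ f = Spec.map (CommRingCat.ofHom (Ideal.Quotient.mk I)) ≫ a := by
    have h1 : hV.fromSpec ≫ f = Spec.map (f.appLE U V e) ≫ hU.fromSpec :=
      (hU.SpecMap_appLE_fromSpec f hV e).symm
    change (_ ≫ _) ≫ _ = _ ≫ _ ≫ _
    rw [Category.assoc, h1, ← Category.assoc, ← Category.assoc]
    congr 1
    have h2 : f.appLE U V e ≫ mκ = mA ≫ mI := by
      ext r
      change κ.symm (algebraMap R C r) = Ideal.Quotient.mk I (algebraMap R A r)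
      have h3 : algebraMap R C r = τ (algebraMap R A r) := (π.commutes r).symm
      rw [h3, hκ]
    exact (Spec.map_comp _ _).symm.trans ((congrArg Spec.map h2).trans (Spec.map_comp _ _))
  obtain ⟨B, _, ε, hflat, hne, x, hx1, hx2⟩ := H A I hI2 x₀ a hw p hp
  -- `x` lands in `V`
  have hnil : ∀ b ∈ I.map ε, b ^ 2 = 0 := by
    intro b hb
    have : b ^ 2 ∈ (I.map ε) ^ 2 := Ideal.pow_mem_pow hb 2
    rw [← Ideal.map_pow, hI2, Ideal.map_bot] at this
    exact this
  have hsurj : ∀ b : Spec (.of B), ∃ b' : Spec (.of (B ⧸ I.map ε)),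
      Spec.map (CommRingCat.ofHom (Ideal.Quotient.mk (I.map ε))) b' = b := by
    intro b
    have h1 : b ∈ Set.range (PrimeSpectrum.comap (Ideal.Quotient.mk (I.map ε))) := by
      rw [range_comap_of_surjective _ _ Ideal.Quotient.mk_surjective, Ideal.mk_ker]
      intro z hz
      exact b.isPrime.mem_of_pow_mem 2 (by rw [hnil z hz]; exact Ideal.zero_mem _)
    exact h1
  have hrange : Set.range x ⊆ Set.range hV.fromSpec := by
    rintro _ ⟨b, rfl⟩
    obtain ⟨b', rfl⟩ := hsurj b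
    rw [← Scheme.Hom.comp_apply, hx2]
    exact ⟨Spec.map mκ (Spec.map (CommRingCat.ofHom
      (Ideal.quotientMap (I.map ε) ε Ideal.le_comap_map)) b'), by
        rw [← Scheme.Hom.comp_apply, ← Scheme.Hom.comp_apply]⟩
  let ξ : Spec (.of B) ⟶ Spec (.of C) := IsOpenImmersion.lift hV.fromSpec x hrange
  have hξ : ξ ≫ hV.fromSpec = x := IsOpenImmersion.lift_fac _ _ _
  obtain ⟨ρ, hρ⟩ : ∃ ρ : C →+* B, Spec.map (CommRingCat.ofHom ρ) = ξ :=
    ⟨(Spec.preimage ξ).hom, Spec.map_preimage ξ⟩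
  have h1 : Spec.map (CommRingCat.ofHom ρ) ≫ Spec.map (f.appLE U V e) =
      Spec.map (CommRingCat.ofHom ε) ≫ Spec.map mA := by
    rw [← cancel_mono hU.fromSpec, Category.assoc, Category.assoc,
      hU.SpecMap_appLE_fromSpec f hV e, ← Category.assoc, hρ, hξ, hx1]
  have h2 : ∀ r, ρ (algebraMap R C r) = ε (algebraMap R A r) := by
    rw [← Spec.map_comp, ← Spec.map_comp] at h1
    intro r
    exact congrArg (fun k => k.hom r) (Spec.map_injective h1)
  have h3 : Spec.map (CommRingCat.ofHom (Ideal.Quotient.mk (I.map ε))) ≫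
      Spec.map (CommRingCat.ofHom ρ) =
      Spec.map (CommRingCat.ofHom (Ideal.quotientMap (I.map ε) ε Ideal.le_comap_map)) ≫
        Spec.map mκ := by
    rw [← cancel_mono hV.fromSpec, Category.assoc, Category.assoc, hρ, hξ, hx2]
  have h4 : ∀ c, Ideal.Quotient.mk (I.map ε) (ρ c) =
      Ideal.quotientMap (I.map ε) ε Ideal.le_comap_map (κ.symm c) := by
    rw [← Spec.map_comp, ← Spec.map_comp] at h3
    intro c
    exact congrArg (fun k => k.hom c) (Spec.map_injective h3)
  refine ⟨B, inferInstance, ε.toAlgebra, hflat, hne, ρ, fun y => ?_, h2⟩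
  change ρ (π y) - ε (Ideal.Quotient.mk _ y) ∈ I.map ε
  rw [← Ideal.Quotient.mk_eq_mk_iff_sub_mem, h4, ← hτ, hκ]
  rfl

end K862.SmoothLoc
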