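import Groth.Agent.IsoNat.K862.Equiv
import Groth.Agent.IsoNat.K862.Fp
import Groth.Prelude.Def_AlgSt2

/-!
# Representability of a category over `(Sch/S)` by a sheaf, elementwise

`SpRep 𝒵 F`: sections of `F` over `T` are the isomorphism classes of objects of `𝒵` over `T`, and
the fibres of `𝒵` are thin.  `SpRep.ofEquiv` and `SpRep.functor`, `SpRep.isEquivOver` relate it to
equivalences `AlgSt.ofSp F ⥤ᵇ 𝒵` over `(Sch/S)`.
-/

set_option autoImplicit false
set_option linter.unusedSectionVars false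
set_option backward.isDefEq.respectTransparency false
set_option backward.isDefEq.respectTransparency.types false

universe w v u

open CategoryTheory CategoryTheory.Limits AlgebraicGeometry Opposite K862.Fib

namespace K862

variable {S : Scheme.{u}}

/-- The base arrow lifted by a given arrow is unique. -/
theorem eq_of_lift {C : Type*} [Category* C] {𝒳 : Type*} [Category* 𝒳] (p : 𝒳 ⥤ C) {R T : C}
    {f g : R ⟶ T} {a b : 𝒳} (c : a ⟶ b) (hf : p.IsHomLift f c) (hg : p.IsHomLift g c) : f = g :=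
  (IsHomLift.fac p f c).trans (IsHomLift.fac p g c).symm

/-- `F` represents `𝒵`: sections of `F` over `T` are classes of objects of `𝒵` over `T`. -/
structure SpRep (𝒵 : BasedCategory.{v, w} (Over S)) (F : AlgSp.Sp S) where
  /-- the section attached to an object -/
  sec : ∀ {T : Over S}, 𝒵.p.Fiber T → F.obj.obj (op T)
  sec_surj : ∀ {T : Over S} (s : F.obj.obj (op T)), ∃ z : 𝒵.p.Fiber T, sec z = s
  sec_eq : ∀ {T : Over S} {z z' : 𝒵.p.Fiber T}, sec z = sec z' → Nonempty (z ⟶ z')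
  sec_map : ∀ {T' T : Over S} (h : T' ⟶ T) (z' : 𝒵.p.Fiber T') (z : 𝒵.p.Fiber T)
    (c : z'.1 ⟶ z.1), 𝒵.p.IsHomLift h c → sec z' = F.obj.map h.op (sec z)
  thin : ∀ {T : Over S} {z z' : 𝒵.p.Fiber T} (θ θ' : z ⟶ z'), θ = θ'

namespace SpRep

variable {𝒵 : BasedCategory.{v, w} (Over S)} {F : AlgSp.Sp S}

theorem sec_eq_of_hom (R : SpRep 𝒵 F) {T : Over S} {z z' : 𝒵.p.Fiber T} (θ : z ⟶ z') :
    R.sec z = R.sec z' := by
  have := R.sec_map (𝟙 T) z z' θ.1 θ.2
  simpa using this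

theorem sec_eq_iff (R : SpRep 𝒵 F) {T : Over S} {z z' : 𝒵.p.Fiber T} :
    R.sec z = R.sec z' ↔ Nonempty (z ⟶ z') :=
  ⟨R.sec_eq, fun ⟨θ⟩ => R.sec_eq_of_hom θ⟩

section functor

variable (R : SpRep 𝒵 F)

/-- A chosen object with given section. -/
noncomputable def ob {T : Over S} (s : F.obj.obj (op T)) : 𝒵.p.Fiber T :=
  Classical.choose (R.sec_surj s)

@[simp] theorem sec_ob {T : Over S} (s : F.obj.obj (op T)) : R.sec (R.ob s) = s :=
  Classical.choose_spec (R.sec_surj s)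

variable [FibCat.IsFibGrpd 𝒵.p]

theorem exists_arr {T' T : Over S} (h : T' ⟶ T) {z' : 𝒵.p.Fiber T'} {z : 𝒵.p.Fiber T}
    (e : R.sec z' = F.obj.map h.op (R.sec z)) : ∃ c : z'.1 ⟶ z.1, 𝒵.p.IsHomLift h c := by
  rw [← R.sec_map h (pull h z) z (pullHom h z) inferInstance] at e
  obtain ⟨θ⟩ := R.sec_eq e
  exact ⟨θ.1 ≫ pullHom h z, inferInstance⟩

include R in
theorem arr_unique {T' T : Over S} (h : T' ⟶ T) {z' : 𝒵.p.Fiber T'} {z : 𝒵.p.Fiber T}
    (c c' : z'.1 ⟶ z.1) [𝒵.p.IsHomLift h c] [𝒵.p.IsHomLift h c'] : c = c' := by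
  rw [← cmp_comp h c (pullHom h z), ← cmp_comp h c' (pullHom h z),
    R.thin (cmpHom h c (pullHom h z)) (cmpHom h c' (pullHom h z))]

/-- The chosen arrow. -/
noncomputable def arr {T' T : Over S} (h : T' ⟶ T) {z' : 𝒵.p.Fiber T'} {z : 𝒵.p.Fiber T}
    (e : R.sec z' = F.obj.map h.op (R.sec z)) : z'.1 ⟶ z.1 :=
  Classical.choose (R.exists_arr h e)

theorem arr_lift {T' T : Over S} (h : T' ⟶ T) {z' : 𝒵.p.Fiber T'} {z : 𝒵.p.Fiber T}
    (e : R.sec z' = F.obj.map h.op (R.sec z)) : 𝒵.p.IsHomLift h (R.arr h e) :=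
  Classical.choose_spec (R.exists_arr h e)

theorem sec_aux {a b : (AlgSt.ofSp F).obj} (f : a ⟶ b) :
    R.sec (R.ob a.sec) = F.obj.map f.hom.op (R.sec (R.ob b.sec)) := by
  rw [sec_ob, sec_ob]; exact f.map_sec.symm

/-- The functor over `(Sch/S)` from the category of `F`. -/
noncomputable def functor : AlgSt.ofSp F ⥤ᵇ 𝒵 where
  toFunctor :=
    { obj := fun a => (R.ob a.sec).1
      map := fun {a b} f => R.arr f.hom (R.sec_aux f)
      map_id := fun a => by
        have h1 := R.arr_lift (Stk.EltObj.Hom.hom (𝟙 a)) (R.sec_aux (𝟙 a))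
        have h2 : 𝒵.p.IsHomLift (Stk.EltObj.Hom.hom (𝟙 a)) (𝟙 (R.ob a.sec).1) :=
          IsHomLift.id (R.ob a.sec).2
        exact R.arr_unique (Stk.EltObj.Hom.hom (𝟙 a)) _ _
      map_comp := fun {a b c} f g => by
        have h1 := R.arr_lift f.hom (R.sec_aux f)
        have h2 := R.arr_lift g.hom (R.sec_aux g)
        have h3 := R.arr_lift (f ≫ g).hom (R.sec_aux (f ≫ g))
        have h4 : 𝒵.p.IsHomLift (f ≫ g).hom (R.arr f.hom (R.sec_aux f) ≫
            R.arr g.hom (R.sec_aux g)) :=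
          IsHomLift.comp 𝒵.p f.hom g.hom _ _
        exact R.arr_unique (f ≫ g).hom _ _ }
  w := CategoryTheory.Functor.ext (fun (a : Stk.EltObj F.obj) => (R.ob a.sec).2) (fun a b f => by
    have h1 := R.arr_lift f.hom (R.sec_aux f)
    exact IsHomLift.fac' 𝒵.p f.hom _)

theorem functor_obj (a : (AlgSt.ofSp F).obj) : R.functor.obj a = (R.ob a.sec).1 := rfl

theorem functor_map_lift {a b : (AlgSt.ofSp F).obj} (f : a ⟶ b) :
    𝒵.p.IsHomLift f.hom (R.functor.map f) :=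
  R.arr_lift f.hom (R.sec_aux f)

theorem isEquivOver : FibCat.IsEquivOver R.functor := by
  have hfull : R.functor.toFunctor.Full := ⟨fun {a b} c => by
    have hc : 𝒵.p.IsHomLift (𝒵.p.map c) c := IsHomLift.map _ _
    let h : a.base ⟶ b.base := eqToHom (R.ob a.sec).2.symm ≫ 𝒵.p.map c ≫ eqToHom (R.ob b.sec).2
    have hc' : 𝒵.p.IsHomLift h c := IsHomLift.of_fac 𝒵.p h c (R.ob a.sec).2 (R.ob b.sec).2 rfl
    have e := R.sec_map h (R.ob a.sec) (R.ob b.sec) c hc'
    rw [sec_ob, sec_ob] at e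
    refine ⟨⟨h, e.symm⟩, ?_⟩
    have := R.functor_map_lift (⟨h, e.symm⟩ : a ⟶ b)
    exact R.arr_unique (z' := R.ob a.sec) (z := R.ob b.sec) h _ _⟩
  have hfaith : R.functor.toFunctor.Faithful := ⟨fun {a b} f g hfg => by
    have h1 := R.functor_map_lift f
    have h2 := R.functor_map_lift g
    apply Stk.EltObj.hom_ext
    have h3 : R.functor.map f = R.functor.map g := hfg
    rw [← h3] at h2
    exact eq_of_lift 𝒵.p _ h1 h2⟩
  apply Equiv.isEquivOver_of
  intro η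
  let z : 𝒵.p.Fiber (𝒵.p.obj η) := ⟨η, rfl⟩
  obtain ⟨θ⟩ := R.sec_eq (R.sec_ob (R.sec z))
  exact ⟨⟨𝒵.p.obj η, R.sec z⟩, asIso θ.1, θ.2⟩

end functor

section ofEquiv

variable (e : AlgSt.ofSp F ⥤ᵇ 𝒵) (he : FibCat.IsEquivOver e)

include he in
theorem exists_section {T : Over S} (z : 𝒵.p.Fiber T) :
    ∃ (s : F.obj.obj (op T)) (i : e.obj ⟨T, s⟩ ≅ z.1), 𝒵.p.IsHomLift (𝟙 T) i.hom := by
  obtain ⟨⟨⟨T', s⟩, hT⟩, i, hi⟩ := Equiv.exists_preimage_fiber he z
  obtain rfl : T' = T := hT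
  exact ⟨s, i, hi⟩

theorem map_lift {T' T : Over S} {h : T' ⟶ T} {s' : F.obj.obj (op T')} {s : F.obj.obj (op T)}
    (f : (⟨T', s'⟩ : Stk.EltObj F.obj) ⟶ ⟨T, s⟩) (hf : f.hom = h) : 𝒵.p.IsHomLift h (e.map f) := by
  subst hf
  have : (AlgSt.ofSp F).p.IsHomLift f.hom f := IsHomLift.map (AlgSt.ofSp F).p f
  exact BasedFunctor.preserves_isHomLift e f.hom f

include he in
theorem full_over {T' T : Over S} {h : T' ⟶ T} {s' : F.obj.obj (op T')} {s : F.obj.obj (op T)}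
    (c : e.obj ⟨T', s'⟩ ⟶ e.obj ⟨T, s⟩) (hc : 𝒵.p.IsHomLift h c) :
    ∃ f : (⟨T', s'⟩ : Stk.EltObj F.obj) ⟶ ⟨T, s⟩, f.hom = h ∧ e.map f = c := by
  have := Equiv.full_of he
  obtain ⟨f, rfl⟩ := e.toFunctor.map_surjective c
  refine ⟨f, ?_, rfl⟩
  have h1 : (AlgSt.ofSp F).p.IsHomLift h f := (e.isHomLift_iff h f).1 hc
  exact eq_of_lift (AlgSt.ofSp F).p f (IsHomLift.map (AlgSt.ofSp F).p f) h1

/-- The elementwise representation attached to an equivalence over the base. -/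
noncomputable def ofEquiv [FibCat.IsFibGrpd 𝒵.p] : SpRep 𝒵 F where
  sec z := Classical.choose (exists_section e he z)
  sec_surj {T} s := by
    let z : 𝒵.p.Fiber T := ⟨e.obj ⟨T, s⟩, e.w_obj _⟩
    refine ⟨z, ?_⟩
    obtain ⟨i, hi⟩ := Classical.choose_spec (exists_section e he z)
    obtain ⟨f, hf, -⟩ := full_over e he (h := 𝟙 T) i.hom hi
    have := f.map_sec
    rw [hf] at this
    simpa using this.symm
  sec_eq {T z z'} h := by
    obtain ⟨i, hi⟩ := Classical.choose_spec (exists_section e he z)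
    obtain ⟨i', hi'⟩ := Classical.choose_spec (exists_section e he z')
    have h' := h
    generalize Classical.choose (exists_section e he z) = s at *
    generalize Classical.choose (exists_section e he z') = s' at *
    subst h'
    have : 𝒵.p.IsHomLift (𝟙 T) (i.inv ≫ i'.hom) := inferInstance
    exact ⟨⟨i.inv ≫ i'.hom, this⟩⟩
  sec_map {T' T} h z' z c hc := by
    obtain ⟨i, hi⟩ := Classical.choose_spec (exists_section e he z)
    obtain ⟨i', hi'⟩ := Classical.choose_spec (exists_section e he z')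
    have h1 : 𝒵.p.IsHomLift h (i'.hom ≫ c ≫ i.inv) := by
      have : 𝒵.p.IsHomLift h (c ≫ i.inv) := IsHomLift.comp_lift_id_right 𝒵.p h c i.inv
      exact IsHomLift.comp_lift_id_left 𝒵.p h _ _
    obtain ⟨f, hf, -⟩ := full_over e he (h := h) (i'.hom ≫ c ≫ i.inv) h1
    have := f.map_sec
    rw [hf] at this
    exact this.symm
  thin {T z z'} θ θ' := by
    have := Equiv.full_of he
    obtain ⟨i, hi⟩ := Classical.choose_spec (exists_section e he z)
    obtain ⟨i', hi'⟩ := Classical.choose_spec (exists_section e he z')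
    have h1 : 𝒵.p.IsHomLift (𝟙 T) (i.hom ≫ θ.1 ≫ i'.inv) := by
      have : 𝒵.p.IsHomLift (𝟙 T) (θ.1 ≫ i'.inv) := IsHomLift.comp_of_lift_id 𝒵.p T θ.1 i'.inv
      exact IsHomLift.comp_of_lift_id 𝒵.p T _ _
    have h2 : 𝒵.p.IsHomLift (𝟙 T) (i.hom ≫ θ'.1 ≫ i'.inv) := by
      have : 𝒵.p.IsHomLift (𝟙 T) (θ'.1 ≫ i'.inv) := IsHomLift.comp_of_lift_id 𝒵.p T θ'.1 i'.inv
      exact IsHomLift.comp_of_lift_id 𝒵.p T _ _
    obtain ⟨f, hf, hf'⟩ := full_over e he (h := 𝟙 T) (i.hom ≫ θ.1 ≫ i'.inv) h1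
    obtain ⟨g, hg, hg'⟩ := full_over e he (h := 𝟙 T) (i.hom ≫ θ'.1 ≫ i'.inv) h2
    have hfg : f = g := Stk.EltObj.hom_ext (hf.trans hg.symm)
    rw [hfg, hg'] at hf'
    apply hom_ext'
    have := (cancel_epi i.hom).1 hf'
    exact ((cancel_mono i'.inv).1 this).symm

/-- The section of an object in the image of the equivalence. -/
theorem ofEquiv_sec_obj [FibCat.IsFibGrpd 𝒵.p] {T : Over S} (s : F.obj.obj (op T)) :
    (ofEquiv e he).sec ⟨e.obj ⟨T, s⟩, e.w_obj _⟩ = s := by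
  let z : 𝒵.p.Fiber T := ⟨e.obj ⟨T, s⟩, e.w_obj _⟩
  obtain ⟨i, hi⟩ := Classical.choose_spec (exists_section e he z)
  obtain ⟨f, hf, -⟩ := full_over e he (h := 𝟙 T) i.hom hi
  have := f.map_sec
  rw [hf] at this
  change Classical.choose (exists_section e he z) = s
  simpa using this.symm

end ofEquiv

end SpRep

end K862
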