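import Groth.Agent.IsoNat.K862.SpRep
import Groth.Agent.IsoNat.K862.Ar
import Groth.Agent.IsoNat.K863.AutEquiv

/-!
# Transfer of elementwise representability along an isomorphism of presheaves of classes
-/

set_option autoImplicit false
set_option backward.isDefEq.respectTransparency false
set_option backward.isDefEq.respectTransparency.types false

universe u

open CategoryTheory CategoryTheory.Limits AlgebraicGeometry Opposite

namespace K862

open Fib Cls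

variable {S : Scheme.{u}} {𝒳 𝒴 : AlgSt.Cat S} [FibCat.IsFibGrpd 𝒳.p] [FibCat.IsFibGrpd 𝒴.p]

/-- If `F` represents `𝒳` and the fibres of `𝒴` are thin then `F` represents `𝒴`. -/
noncomputable def SpRep.transfer {F : AlgSp.Sp S} (R : SpRep 𝒳 F) (φ : IsoNat.FIso 𝒳 𝒴)
    (thin : ∀ {T : Over S} {z z' : 𝒴.p.Fiber T} (θ θ' : z ⟶ z'), θ = θ') : SpRep 𝒴 F where
  sec {T} t := R.sec (Cls.rep ((φ.toEquiv T).symm (IsoNat.cls t)))
  sec_surj {T} a := by
    obtain ⟨z, rfl⟩ := R.sec_surj a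
    obtain ⟨t, ht⟩ := exists_rep (φ.toEquiv T (IsoNat.cls z))
    refine ⟨t, ?_⟩
    rw [ht, Equiv.symm_apply_apply]
    apply R.sec_eq_iff.2
    rw [← cls_eq_iff_hom]
    exact Cls.cls_rep _
  sec_eq {T t t'} h := by
    rw [R.sec_eq_iff, ← cls_eq_iff_hom, Cls.cls_rep, Cls.cls_rep] at h
    rw [← cls_eq_iff_hom]
    exact (φ.toEquiv T).symm.injective h
  sec_map {T' T} h t' t c hc := by
    have e1 : pullCls h (IsoNat.cls t) = IsoNat.cls t' := (pullCls_eq_iff h t t').2 ⟨c, hc⟩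
    have e2 : pullCls h ((φ.toEquiv T).symm (IsoNat.cls t)) =
        (φ.toEquiv T').symm (IsoNat.cls t') := by
      rw [← toEquiv_symm_pullCls, e1]
    rw [← e2]
    have e3 : pullCls h (IsoNat.cls (Cls.rep ((φ.toEquiv T).symm (IsoNat.cls t)))) =
        IsoNat.cls (Cls.rep (pullCls h ((φ.toEquiv T).symm (IsoNat.cls t)))) := by
      rw [Cls.cls_rep, Cls.cls_rep]
    obtain ⟨a, ha⟩ := (pullCls_eq_iff h _ _).1 e3
    exact R.sec_map h _ _ a ha
  thin := thin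

theorem repByAlgSp_of_fIso (h𝒳 : Stk.IsStack (AlgSp.J S) 𝒳) (h𝒴 : Stk.IsStack (AlgSp.J S) 𝒴)
    (hd𝒳 : AlgSt.RepByAlgSpWith (AlgSp.IsSeparatedMor ⊓ AlgSp.IsQuasiCompactMor)
      (FibCat.diag (FibCat.toSelf 𝒳)))
    (hd𝒴 : AlgSt.RepByAlgSpWith (AlgSp.IsSeparatedMor ⊓ AlgSp.IsQuasiCompactMor)
      (FibCat.diag (FibCat.toSelf 𝒴)))
    (φ : IsoNat.FIso 𝒳 𝒴) (hsp : AlgSt.RepByAlgSp 𝒳) : AlgSt.RepByAlgSp 𝒴 := by
  obtain ⟨F, e, he⟩ := hsp
  let R : SpRep 𝒳 F.obj := SpRep.ofEquiv e he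
  have key : ∀ (T : Over S) (t : 𝒴.p.Fiber T) (a : t ⟶ t), a = 𝟙 t := by
    intro T t a
    obtain ⟨s, hs⟩ := exists_cor φ t
    have hab : IsoNat.IsAutAbelian s := by
      intro T' x _ α β
      exact Iso.ext (R.thin _ _)
    obtain ⟨E⟩ := K863.AutEquiv.main h𝒳 h𝒴 hd𝒳 hd𝒴 (η := s) (η' := t) (φ := φ) hs hab
    have h1 : ∀ α : Aut t, α = 1 := by
      intro α
      obtain ⟨β, rfl⟩ := E.surjective α
      have : β = 1 := Iso.ext (R.thin _ _)
      rw [this, map_one]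
    have h2 := h1 (asIso a)
    have := congrArg Iso.hom h2
    exact this
  have thin : ∀ {T : Over S} {z z' : 𝒴.p.Fiber T} (θ θ' : z ⟶ z'), θ = θ' := by
    intro T z z' θ θ'
    have := key T z' (inv θ ≫ θ')
    rw [← cancel_epi (inv θ), IsIso.inv_hom_id, this]
  exact ⟨F, (R.transfer φ thin).functor, (R.transfer φ thin).isEquivOver⟩

end K862
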