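import Mathlib.RingTheory.Flat.Equalizer
import Mathlib.RingTheory.Smooth.Basic
import Mathlib.Algebra.MvPolynomial.PDeriv
import Mathlib.LinearAlgebra.TensorProduct.Pi
import Mathlib.RingTheory.Spectrum.Prime.RingHom

/-!
# Sections of `P → C` modulo squares exist if they exist locally for the flat topology
-/

set_option autoImplicit false
universe u
open TensorProduct

namespace K862.SplitLoc

/-- Solvability of a linear system with unknowns in an ideal, locally for the flat topology. -/
theorem exists_solution {A : Type u} [CommRing A] (I : Ideal A) {n m : ℕ} (c : Fin m → Fin n → A)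
    (v : Fin m → A) (hv : ∀ j, v j ∈ I)
    (H : ∀ p : Ideal A, p.IsMaximal → ∃ (A' : Type u) (_ : CommRing A') (_ : Algebra A A'),
      Module.Flat A A' ∧ p.map (algebraMap A A') ≠ ⊤ ∧
        ∃ w : Fin n → A', (∀ i, w i ∈ I.map (algebraMap A A')) ∧
          ∀ j, ∑ i, algebraMap A A' (c j i) * w i = algebraMap A A' (v j)) :
    ∃ w : Fin n → A, (∀ i, w i ∈ I) ∧ ∀ j, ∑ i, c j i * w i = v j := by
  classical
  let ψ : (Fin n → I) →ₗ[A] (Fin m → I) :=
    LinearMap.pi fun j => ∑ i, (c j i) • LinearMap.proj i
  let v' : Fin m → I := fun j => ⟨v j, hv j⟩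
  let K := (Fin m → I) ⧸ LinearMap.range ψ
  let k : K := Submodule.Quotient.mk v'
  suffices hk : k = 0 by
    obtain ⟨w, hw⟩ := (Submodule.Quotient.mk_eq_zero _).1 hk
    refine ⟨fun i => (w i : A), fun i => (w i).2, fun j => ?_⟩
    have h1 := congrArg Subtype.val (congrFun hw j)
    have h2 : ((ψ w j : I) : A) = ∑ i, c j i * (w i : A) := by
      simp [ψ, LinearMap.pi_apply, LinearMap.sum_apply]
    rw [← h2, h1]
  by_contra hk
  let f : A →ₗ[A] K := LinearMap.toSpanSingleton A K k
  have hI : LinearMap.ker f ≠ ⊤ := by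
    intro h
    apply hk
    have : (1 : A) ∈ LinearMap.ker f := by rw [h]; trivial
    have h2 : (1 : A) • k = 0 := this
    rwa [one_smul] at h2
  obtain ⟨p, hp, hle⟩ := Ideal.exists_le_maximal (LinearMap.ker f) hI
  obtain ⟨A', _, _, hflat, hne, w, hw, hwv⟩ := H p hp
  apply hne
  -- elements of `I A'` as tensors
  have hten : ∀ a ∈ I.map (algebraMap A A'), ∃ z : A' ⊗[A] I,
      TensorProduct.rid A A' (I.subtype.lTensor A' z) = a := by
    intro a ha
    refine Submodule.span_induction ?_ ⟨0, by simp⟩ ?_ ?_ ha
    · rintro _ ⟨x, hx, rfl⟩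
      exact ⟨1 ⊗ₜ ⟨x, hx⟩, by
        rw [LinearMap.lTensor_tmul]
        change TensorProduct.rid A A' ((1 : A') ⊗ₜ[A] x) = _
        rw [TensorProduct.rid_tmul, Algebra.smul_def, mul_one]⟩
    · rintro _ _ - - ⟨z, rfl⟩ ⟨z', rfl⟩
      exact ⟨z + z', by rw [map_add, map_add]⟩
    · rintro b _ - ⟨z, rfl⟩
      refine ⟨b • z, ?_⟩
      induction z with
      | zero => simp
      | add x y hx hy => rw [smul_add, map_add, map_add, hx, hy, map_add, map_add, smul_add]
      | tmul x y =>
        rw [TensorProduct.smul_tmul', LinearMap.lTensor_tmul, LinearMap.lTensor_tmul,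
          TensorProduct.rid_tmul, TensorProduct.rid_tmul, smul_eq_mul, smul_eq_mul,
          Algebra.smul_def, Algebra.smul_def]
        ring
  choose z hz using fun i => hten (w i) (hw i)
  -- the injection `A' ⊗ (Fin m → I) → (Fin m → A')`
  let ι : A' ⊗[A] (Fin m → I) →ₗ[A] A' ⊗[A] (Fin m → A) :=
    (LinearMap.pi fun j => I.subtype ∘ₗ LinearMap.proj j).lTensor A'
  have hι : Function.Injective ι := by
    refine Module.Flat.lTensor_preserves_injective_linearMap _ ?_
    intro a b h
    funext j
    exact Subtype.ext (congrFun h j)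
  let Z : A' ⊗[A] (Fin n → I) := ∑ i, (LinearMap.single A (fun _ : Fin n => I) i).lTensor A' (z i)
  have key : ψ.lTensor A' Z = (1 : A') ⊗ₜ[A] v' := by
    apply hι
    apply (TensorProduct.piScalarRight A A A' (Fin m)).injective
    have e1 : ∀ y : A' ⊗[A] (Fin n → I), ∀ j, TensorProduct.piScalarRight A A A' (Fin m)
        (ι (ψ.lTensor A' y)) j = ∑ i, algebraMap A A' (c j i) *
          TensorProduct.rid A A' (I.subtype.lTensor A'
            ((LinearMap.proj (R := A) (φ := fun _ : Fin n => I) i).lTensor A' y)) := by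
      intro y j
      induction y with
      | zero => simp
      | add a b ha hb =>
        simp only [map_add, Pi.add_apply, ha, hb, mul_add, Finset.sum_add_distrib]
      | tmul a u =>
        simp only [ι, LinearMap.lTensor_tmul, TensorProduct.piScalarRight_apply,
          TensorProduct.piScalarRightHom_tmul, TensorProduct.rid_tmul]
        simp only [LinearMap.pi_apply, LinearMap.comp_apply, LinearMap.proj_apply,
          Submodule.subtype_apply, ψ, LinearMap.sum_apply, LinearMap.smul_apply,
          Submodule.coe_smul, smul_eq_mul, Algebra.smul_def,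
          Finset.sum_mul, map_sum, map_mul]
        refine Finset.sum_congr rfl fun i _ => ?_
        ring
    funext j
    rw [e1]
    have e2 : ∀ i, (LinearMap.proj (R := A) (φ := fun _ : Fin n => I) i).lTensor A' Z = z i := by
      intro i
      have e3 : ∀ i', (LinearMap.proj (R := A) (φ := fun _ : Fin n => I) i).lTensor A'
          ((LinearMap.single A (fun _ : Fin n => I) i').lTensor A' (z i')) =
            if i' = i then z i' else 0 := by
        intro i'
        rw [← LinearMap.comp_apply, ← LinearMap.lTensor_comp]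
        split_ifs with h
        · subst h
          rw [LinearMap.proj_comp_single_same, LinearMap.lTensor_id]
          rfl
        · have : (LinearMap.proj (R := A) (φ := fun _ : Fin n => I) i) ∘ₗ
              (LinearMap.single A (fun _ : Fin n => I) i') = 0 := by
            apply LinearMap.ext
            intro x
            simp [Ne.symm h]
          rw [this]
          simp
      rw [map_sum, Finset.sum_congr rfl fun i' _ => e3 i']
      simp
    simp only [e2, hz, hwv]
    simp only [ι, LinearMap.lTensor_tmul, TensorProduct.piScalarRight_apply,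
      TensorProduct.piScalarRightHom_tmul]
    simp only [LinearMap.pi_apply, LinearMap.comp_apply, LinearMap.proj_apply,
      Submodule.subtype_apply, Algebra.smul_def, mul_one]
    rfl
  -- `1 ⊗ k = 0`
  have h1 : (1 : A') ⊗ₜ[A] k = 0 := by
    have h3 : (LinearMap.range ψ).mkQ.lTensor A' ((1 : A') ⊗ₜ[A] v') = (1 : A') ⊗ₜ[A] k := by
      rw [LinearMap.lTensor_tmul]; rfl
    rw [← h3, ← key, ← LinearMap.comp_apply, ← LinearMap.lTensor_comp]
    have h4 : (LinearMap.range ψ).mkQ ∘ₗ ψ = 0 := by
      apply LinearMap.ext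
      intro x
      exact (Submodule.Quotient.mk_eq_zero _).2 ⟨x, rfl⟩
    rw [h4]
    simp
  -- so `1 ∈ (ker f) A'`
  have h2 : (1 : A') ⊗ₜ[A] (1 : A) ∈ LinearMap.ker (AlgebraTensorModule.lTensor A' A' f) := by
    rw [LinearMap.mem_ker, AlgebraTensorModule.lTensor_tmul]
    have : f 1 = k := one_smul A k
    rw [this]
    exact h1
  rw [Module.Flat.ker_lTensor_eq] at h2
  obtain ⟨w', hw'⟩ := h2
  have h3 : ∀ w : A' ⊗[A] (LinearMap.ker f), TensorProduct.rid A A'
      (AlgebraTensorModule.lTensor A' A' (LinearMap.ker f).subtype w) ∈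
        p.map (algebraMap A A') := by
    intro w
    induction w with
    | zero => simp
    | add a b ha hb => rw [map_add, map_add]; exact Ideal.add_mem _ ha hb
    | tmul c g =>
      rw [AlgebraTensorModule.lTensor_tmul]
      change TensorProduct.rid A A' (c ⊗ₜ[A] (g : A)) ∈ _
      rw [TensorProduct.rid_tmul, Algebra.smul_def]
      exact Ideal.mul_mem_right _ _ (Ideal.mem_map_of_mem _ (hle g.2))
  have h4 := h3 w'
  rw [hw', TensorProduct.rid_tmul, one_smul] at h4
  exact (Ideal.eq_top_iff_one _).2 h4

/-- Taylor expansion to first order. -/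
theorem aeval_sub {R B : Type u} [CommRing R] [CommRing B] [Algebra R B] {n : ℕ}
    (x w : Fin n → B) (h : ∀ i j, w i * w j = 0) (f : MvPolynomial (Fin n) R) :
    MvPolynomial.aeval (fun i => x i - w i) f = MvPolynomial.aeval x f -
      ∑ i, MvPolynomial.aeval x (MvPolynomial.pderiv i f) * w i := by
  classical
  induction f using MvPolynomial.induction_on with
  | C a => simp
  | add p q hp hq =>
    simp only [map_add, hp, hq, add_mul, Finset.sum_add_distrib]
    ring
  | mul_X p k hp =>
    rw [map_mul, hp, MvPolynomial.aeval_X, map_mul, MvPolynomial.aeval_X]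
    have e : ∑ i, MvPolynomial.aeval x (MvPolynomial.pderiv i (p * MvPolynomial.X k)) * w i =
        (∑ i, MvPolynomial.aeval x (MvPolynomial.pderiv i p) * w i) * x k +
          MvPolynomial.aeval x p * w k := by
      have e1 : ∀ i, MvPolynomial.aeval x (MvPolynomial.pderiv i (p * MvPolynomial.X k)) * w i =
          MvPolynomial.aeval x (MvPolynomial.pderiv i p) * w i * x k +
            (if i = k then MvPolynomial.aeval x p * w i else 0) := by
        intro i
        rw [Derivation.leibniz, MvPolynomial.pderiv_X]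
        by_cases hik : i = k
        · subst hik
          simp
          ring
        · simp [hik, Ne.symm hik]
          ring
      rw [Finset.sum_congr rfl fun i _ => e1 i, Finset.sum_add_distrib, Finset.sum_mul]
      simp
    rw [e]
    have e' : (∑ i, MvPolynomial.aeval x (MvPolynomial.pderiv i p) * w i) * w k = 0 := by
      rw [Finset.sum_mul]
      refine Finset.sum_eq_zero fun i _ => ?_
      rw [mul_assoc, h, mul_zero]
    linear_combination e'

/-- A finitely presented algebra `C = P / J` is formally smooth if the projection `P / J ^ 2 → C` has a section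
locally for the flat topology. -/
theorem formallySmooth_of_local {R C : Type u} [CommRing R] [CommRing C] [Algebra R C] {n : ℕ}
    (π : MvPolynomial (Fin n) R →ₐ[R] C) (hπ : Function.Surjective π)
    (hfg : (RingHom.ker π.toRingHom).FG)
    (H : ∀ p : Ideal (MvPolynomial (Fin n) R ⧸ (RingHom.ker π.toRingHom) ^ 2), p.IsMaximal →
      ∃ (A' : Type u) (_ : CommRing A')
        (_ : Algebra (MvPolynomial (Fin n) R ⧸ (RingHom.ker π.toRingHom) ^ 2) A'),
        Module.Flat (MvPolynomial (Fin n) R ⧸ (RingHom.ker π.toRingHom) ^ 2) A' ∧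
        p.map (algebraMap _ A') ≠ ⊤ ∧ ∃ ρ : C →+* A',
          (∀ x : MvPolynomial (Fin n) R, ρ (π x) - algebraMap _ A'
            (Ideal.Quotient.mk ((RingHom.ker π.toRingHom) ^ 2) x) ∈
            ((RingHom.ker π.toRingHom).map (Ideal.Quotient.mk ((RingHom.ker π.toRingHom) ^ 2))).map
              (algebraMap _ A')) ∧
          ∀ r : R, ρ (algebraMap R C r) = algebraMap _ A' (algebraMap R
            (MvPolynomial (Fin n) R ⧸ (RingHom.ker π.toRingHom) ^ 2) r)) :
    Algebra.FormallySmooth R C := by
  classical
  set J := RingHom.ker π.toRingHom with hJ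
  set A := MvPolynomial (Fin n) R ⧸ J ^ 2 with hA
  let I : Ideal A := J.map (Ideal.Quotient.mk (J ^ 2))
  obtain ⟨m, f, hf⟩ := Submodule.fg_iff_exists_fin_generating_family.1 hfg
  have hfJ : ∀ j, f j ∈ J := fun j => hf ▸ Submodule.subset_span ⟨j, rfl⟩
  have hI2 : I ^ 2 = ⊥ := by
    change (J.map (Ideal.Quotient.mk (J ^ 2))) ^ 2 = ⊥
    rw [← Ideal.map_pow, Ideal.map_quotient_self]
  have hII : ∀ a ∈ I, ∀ b ∈ I, a * b = 0 := by
    intro a ha b hb
    have : a * b ∈ I ^ 2 := by rw [pow_two I]; exact Ideal.mul_mem_mul ha hb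
    rw [hI2] at this
    exact this
  have aeval_mk : ∀ g : MvPolynomial (Fin n) R,
      MvPolynomial.aeval (fun i => (Ideal.Quotient.mk (J ^ 2) (MvPolynomial.X i) : A)) g =
        Ideal.Quotient.mk (J ^ 2) g := by
    intro g
    have : (MvPolynomial.aeval (fun i => (Ideal.Quotient.mk (J ^ 2) (MvPolynomial.X i) : A))) =
        Ideal.Quotient.mkₐ R (J ^ 2) := by
      apply MvPolynomial.algHom_ext
      intro i
      rw [MvPolynomial.aeval_X]
      rfl
    rw [this]
    rfl
  obtain ⟨w, hw, hwv⟩ := exists_solution I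
    (fun j i => (Ideal.Quotient.mk (J ^ 2) (MvPolynomial.pderiv i (f j)) : A))
    (fun j => Ideal.Quotient.mk (J ^ 2) (f j)) (fun j => Ideal.mem_map_of_mem _ (hfJ j)) (by
      intro p hp
      obtain ⟨A', _, _, hflat, hne, ρ, hρ, hρR⟩ := H p hp
      let _ : Algebra R A' := ((algebraMap A A').comp (algebraMap R A)).toAlgebra
      have hRA' : ∀ r, algebraMap R A' r = algebraMap A A' (algebraMap R A r) := fun _ => rfl
      have hI' : ∀ a ∈ I.map (algebraMap A A'), ∀ b ∈ I.map (algebraMap A A'), a * b = 0 := by
        intro a ha b hb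
        have : a * b ∈ (I.map (algebraMap A A')) ^ 2 := by rw [pow_two]; exact Ideal.mul_mem_mul ha hb
        rw [← Ideal.map_pow, hI2, Ideal.map_bot] at this
        exact this
      refine ⟨A', inferInstance, inferInstance, hflat, hne,
        fun i => algebraMap A A' (Ideal.Quotient.mk (J ^ 2) (MvPolynomial.X i)) -
          ρ (π (MvPolynomial.X i)), fun i => ?_, fun j => ?_⟩
      · dsimp only
        rw [← neg_sub]
        exact (I.map (algebraMap A A')).neg_mem (hρ _)
      · have hw : ∀ i, algebraMap A A' (Ideal.Quotient.mk (J ^ 2) (MvPolynomial.X i)) -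
            ρ (π (MvPolynomial.X i)) ∈ I.map (algebraMap A A') := fun i => by
          rw [← neg_sub]
          exact (I.map (algebraMap A A')).neg_mem (hρ _)
        have h1 := aeval_sub (R := R) (fun i => algebraMap A A' (Ideal.Quotient.mk (J ^ 2) (MvPolynomial.X i)))
          (fun i => algebraMap A A' (Ideal.Quotient.mk (J ^ 2) (MvPolynomial.X i)) -
          ρ (π (MvPolynomial.X i))) (fun i j => hI' _ (hw i) _ (hw j)) (f j)
        have h2 : ∀ g : MvPolynomial (Fin n) R, MvPolynomial.aeval (fun i => algebraMap A A'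
            (Ideal.Quotient.mk (J ^ 2) (MvPolynomial.X i))) g =
              algebraMap A A' (Ideal.Quotient.mk (J ^ 2) g) := by
          intro g
          rw [← aeval_mk g]
          have := MvPolynomial.map_aeval
            (fun i => (Ideal.Quotient.mk (J ^ 2) (MvPolynomial.X i) : A)) (algebraMap A A') g
          rw [this]
          rfl
        have h3 : MvPolynomial.aeval (fun i => algebraMap A A' (Ideal.Quotient.mk (J ^ 2)
            (MvPolynomial.X i)) - (algebraMap A A' (Ideal.Quotient.mk (J ^ 2) (MvPolynomial.X i)) -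
              ρ (π (MvPolynomial.X i)))) (f j) = ρ (π (f j)) := by
          have h4 : ∀ g : MvPolynomial (Fin n) R, MvPolynomial.aeval (fun i =>
              ρ (π (MvPolynomial.X i))) g = ρ (π g) := by
            intro g
            induction g using MvPolynomial.induction_on with
            | C a =>
              rw [MvPolynomial.algHom_C]
              have : π (MvPolynomial.C a) = algebraMap R C a := π.commutes a
              rw [this, hρR, hRA']
            | add p q hp hq => rw [map_add, map_add, map_add, hp, hq]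
            | mul_X p k hp => rw [map_mul, map_mul, map_mul, hp, MvPolynomial.aeval_X]
          rw [← h4 (f j)]
          congr 1
          congr 1
          funext i
          ring
        have h5 : ρ (π (f j)) = 0 := by
          have : π (f j) = 0 := hfJ j
          rw [this, map_zero]
        rw [h3, h5, h2] at h1
        simp only [h2] at h1
        exact (sub_eq_zero.1 h1.symm).symm)
  let s : MvPolynomial (Fin n) R →ₐ[R] A := MvPolynomial.aeval
    (fun i => (Ideal.Quotient.mk (J ^ 2) (MvPolynomial.X i) : A) - w i)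
  have hs : ∀ g ∈ J, s g = 0 := by
    have h1 : J ≤ RingHom.ker s.toRingHom := by
      refine hf.ge.trans ?_
      rw [Ideal.submodule_span_eq, Ideal.span_le]
      rintro _ ⟨j, rfl⟩
      change s (f j) = 0
      change MvPolynomial.aeval _ (f j) = 0
      rw [aeval_sub _ _ (fun i j => hII _ (hw i) _ (hw j)), aeval_mk, sub_eq_zero, ← hwv j]
      refine Finset.sum_congr rfl fun i _ => ?_
      rw [aeval_mk]
    exact fun g hg => h1 hg
  have hsI : ∀ g, s g - Ideal.Quotient.mk (J ^ 2) g ∈ I := by
    intro g
    rw [← aeval_mk g]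
    change MvPolynomial.aeval _ g - _ ∈ I
    rw [aeval_sub _ _ (fun i j => hII _ (hw i) _ (hw j)), sub_sub_cancel_left]
    refine I.neg_mem (Ideal.sum_mem _ fun i _ => Ideal.mul_mem_left _ _ (hw i))
  let g : C →ₐ[R] A := AlgHom.comp (Ideal.Quotient.liftₐ (RingHom.ker π) s hs)
    (Ideal.quotientKerAlgEquivOfSurjective hπ).symm.toAlgHom
  have hg : ∀ x, g (π x) = s x := by
    intro x
    have : (Ideal.quotientKerAlgEquivOfSurjective hπ).symm (π x) = Ideal.Quotient.mk _ x := by
      rw [AlgEquiv.symm_apply_eq]
      rfl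
    change Ideal.Quotient.liftₐ (RingHom.ker π) s hs
      ((Ideal.quotientKerAlgEquivOfSurjective hπ).symm (π x)) = _
    rw [this]
    rfl
  refine Algebra.FormallySmooth.of_split π g ?_
  apply AlgHom.ext
  intro c
  obtain ⟨x, rfl⟩ := hπ c
  rw [AlgHom.comp_apply, hg]
  obtain ⟨y, hy⟩ := Ideal.Quotient.mk_surjective (s x)
  have h1 : π.kerSquareLift (s x) = π y := by rw [← hy]; rfl
  rw [h1]
  have h2 := hsI x
  rw [← hy, ← map_sub] at h2
  have h3 : y - x ∈ J := by
    have h4 : J ^ 2 ≤ J := Ideal.pow_le_self two_ne_zero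
    rw [Ideal.mem_map_iff_of_surjective _ Ideal.Quotient.mk_surjective] at h2
    obtain ⟨z, hz, hz'⟩ := h2
    have h5 := (Ideal.Quotient.mk_eq_mk_iff_sub_mem _ _).1 hz'
    have := J.sub_mem hz (h4 h5)
    simpa using this
  have h4 : π (y - x) = 0 := h3
  rw [map_sub, sub_eq_zero] at h4
  rw [h4]
  rfl

end K862.SplitLoc
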