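import Groth.Agent.IsoNat.K862.Surj

/-!
# Properties of morphisms of algebraic stacks under isomorphisms of maps of presheaves of classes
-/

set_option autoImplicit false
set_option linter.unusedSectionVars false
set_option backward.isDefEq.respectTransparency false
set_option backward.isDefEq.respectTransparency.types false

universe u

open CategoryTheory CategoryTheory.Limits AlgebraicGeometry Opposite K862.Fib K862.Yon AlgSp
open K862.LiftSp K862.Cls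

namespace K862

variable {S : Scheme.{u}} {𝒳 𝒴 𝒳' 𝒴' : AlgSt.Cat S}

theorem objCls_overMap [FibCat.IsFibGrpd 𝒴.p] {U V : Over S} (h : U ⟶ V)
    (y : FibCat.overCat V ⥤ᵇ 𝒴) :
    IsoNat.objCls (BasedFunctor.comp (AlgSt.overMap h) y) = pullCls h (IsoNat.objCls y) := by
  symm
  let c : (Over.mk (𝟙 U ≫ h) : Over V) ⟶ Over.mk (𝟙 V) := Over.homMk h (by simp)
  refine (pullCls_eq_iff h _ _).2 ⟨y.map c, ?_⟩
  exact lift_map y c

theorem objCls_comp {U : Over S} (x : FibCat.overCat U ⥤ᵇ 𝒳) (f : 𝒳 ⥤ᵇ 𝒴) :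
    IsoNat.objCls (BasedFunctor.comp x f) = IsoNat.mapCls f U (IsoNat.objCls x) := rfl

theorem objCls_congr [FibCat.IsFibGrpd 𝒳.p] {U : Over S} {x x' : FibCat.overCat U ⥤ᵇ 𝒳}
    (e : x ≅ x') : IsoNat.objCls x = IsoNat.objCls x' :=
  cls_eq_of_hom (homOf e.hom)

theorem nonempty_iso_of_objCls [FibCat.IsFibGrpd 𝒳.p] {U : Over S} {x x' : FibCat.overCat U ⥤ᵇ 𝒳}
    (h : IsoNat.objCls x = IsoNat.objCls x') : Nonempty (x ≅ x') := by
  obtain ⟨α⟩ := (cls_eq_iff_hom (objOf x) (objOf x')).1 h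
  exact ⟨isoOf α⟩

/-- S15470 -/
theorem locQ_of_fIsoSq [FibCat.IsFibGrpd 𝒳.p] [FibCat.IsFibGrpd 𝒴.p] [FibCat.IsFibGrpd 𝒳'.p]
    [FibCat.IsFibGrpd 𝒴'.p]
    (h𝒳' : AlgSt.IsAlgStack Scheme.fppfPrecoverage 𝒳')
    (h𝒳'd : AlgSt.RepByAlgSpWith (AlgSp.IsSeparatedMor ⊓ AlgSp.IsQuasiCompactMor)
      (FibCat.diag (FibCat.toSelf 𝒳')))
    (h𝒳'i : AlgSt.RepByAlgSpWith (AlgSp.LocP @LocallyOfFinitePresentation)
      (FibCat.inertiaToBase (FibCat.toSelf 𝒳')))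
    (h𝒴' : AlgSt.IsAlgStack Scheme.fppfPrecoverage 𝒴')
    (h𝒴'd : AlgSt.RepByAlgSpWith (AlgSp.IsSeparatedMor ⊓ AlgSp.IsQuasiCompactMor)
      (FibCat.diag (FibCat.toSelf 𝒴')))
    (h𝒴'i : AlgSt.RepByAlgSpWith (AlgSp.LocP @LocallyOfFinitePresentation)
      (FibCat.inertiaToBase (FibCat.toSelf 𝒴')))
    (f : 𝒳 ⥤ᵇ 𝒴) (f' : 𝒳' ⥤ᵇ 𝒴') (φ : IsoNat.FIsoSq f f')
    (P : MorphismProperty (AlgSp.Sp S)) (hf : AlgSt.LocQ P f) : AlgSt.LocQ P f' := by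
  obtain ⟨U, V, x, y, h, α, hx, hxs, hy, hP⟩ := hf
  obtain ⟨x', hxx'⟩ := exists_chart φ.src x
  obtain ⟨y', hyy'⟩ := exists_chart φ.tgt y
  have key : IsoNat.objCls (BasedFunctor.comp x' f') =
      IsoNat.objCls (BasedFunctor.comp (AlgSt.overMap h) y') := by
    rw [objCls_comp, ← hxx', ← φ.comm, objCls_overMap, ← hyy', ← objCls_comp, objCls_congr α,
      objCls_overMap, toEquiv_pullCls]
  obtain ⟨α'⟩ := nonempty_iso_of_objCls key
  exact ⟨U, V, x', y', h, α', smooth_chart' h𝒳' h𝒳'd h𝒳'i φ.src x x' hxx' hx,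
    repByAlgSpWith_surjective h𝒳'.diag φ.src x x' hxx' hxs,
    smooth_chart' h𝒴' h𝒴'd h𝒴'i φ.tgt y y' hyy' hy, hP⟩

end K862
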