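import Groth.Agent.IsoNat.K862.LfpLim

/-!
# Surjective charts under isomorphisms of presheaves of isomorphism classes
-/

set_option autoImplicit false
set_option linter.unusedSectionVars false
set_option backward.isDefEq.respectTransparency false
set_option backward.isDefEq.respectTransparency.types false

universe u

open CategoryTheory CategoryTheory.Limits AlgebraicGeometry Opposite K862.Fib K862.Yon AlgSp
open K862.LiftSp

namespace K862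

variable {S : Scheme.{u}} {𝒳 𝒴 : AlgSt.Cat S}

/-- Objects over fields are, after a field extension, pullbacks of `x`. -/
def FldSurj {U : Over S} (x : 𝒳.p.Fiber U) : Prop :=
  ∀ (K : Type u) (_ : Field K) (w : Spec (CommRingCat.of K) ⟶ S) (s : 𝒳.p.Fiber (Over.mk w)),
    ∃ (Ω : Type u) (_ : Field Ω) (v : Spec (CommRingCat.of Ω) ⟶ S) (k : Over.mk v ⟶ Over.mk w)
      (s' : 𝒳.p.Fiber (Over.mk v)) (u : Over.mk v ⟶ U), Nonempty (Ar k s' s) ∧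
        Nonempty (Ar u s' x)

theorem fldSurj_of_spanRep {U : Over S} {x : 𝒳.p.Fiber U}
    (H : ∀ (T : Over S) (s : 𝒳.p.Fiber T), ∃ (F : AlgSp.Space S) (R : SpanRep x s F.obj),
      IsSurjectiveMor R.π) : FldSurj x := by
  intro K _ w s
  obtain ⟨F, R, hR⟩ := H (Over.mk w) s
  obtain ⟨Ω, _, v, k, g, hg, -⟩ := exists_fieldPt R.π hR
    (default : (Spec (CommRingCat.of K) : Scheme.{u}))
  obtain ⟨s', k', u, b, a, rfl⟩ := R.exists_mk' g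
  rw [R.mk'_π] at hg
  obtain rfl : k' = k := (yon S).map_injective hg
  exact ⟨Ω, inferInstance, v, k', s', u, ⟨b⟩, ⟨a⟩⟩

theorem surjective_of_fldSurj [FibCat.IsFibGrpd 𝒳.p] {U : Over S} {x : 𝒳.p.Fiber U}
    (hx : FldSurj x) {T : Over S} {t : 𝒳.p.Fiber T} {F : Sp S} (R : SpanRep x t F) :
    IsSurjectiveMor R.π := by
  intro q
  obtain ⟨K, _, w, g, rfl⟩ := K608.Pts.exists_pt q
  obtain ⟨k, rfl⟩ := (yon S).map_surjective g
  obtain ⟨s, ⟨c⟩⟩ := Ar.exists_pull k t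
  obtain ⟨Ω, _, v, k', s', u, ⟨b⟩, ⟨a⟩⟩ := hx K inferInstance w s
  refine ⟨K608.Pts.pt (R.mk' (b.comp c) a), ?_⟩
  rw [K608.Pts.map_pt, R.mk'_π, K608.Pts.pt_eq_pt_iff]
  exact ⟨Ω, inferInstance, v, 𝟙 _, k', by
    rw [CategoryTheory.Functor.map_id, Category.id_comp, CategoryTheory.Functor.map_comp]⟩

variable [FibCat.IsFibGrpd 𝒳.p] [FibCat.IsFibGrpd 𝒴.p] {φ : IsoNat.FIso 𝒳 𝒴}

theorem FldSurj.transfer {U : Over S} {x : 𝒳.p.Fiber U} {y : 𝒴.p.Fiber U} (hxy : Cor φ x y)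
    (hx : FldSurj x) : FldSurj y := by
  intro K _ w t
  obtain ⟨s, hs⟩ := exists_cor φ t
  obtain ⟨Ω, _, v, k, s', u, ⟨b⟩, ⟨a⟩⟩ := hx K inferInstance w s
  obtain ⟨t', ht'⟩ := exists_cor' φ s'
  exact ⟨Ω, inferInstance, v, k, t', u, ht'.ar hs b, ht'.ar hxy a⟩

theorem repByAlgSpWith_surjective (h𝒴d : AlgSt.RepByAlgSp1 (FibCat.diag (FibCat.toSelf 𝒴)))
    (φ : IsoNat.FIso 𝒳 𝒴) {U : Over S} (x : FibCat.overCat U ⥤ᵇ 𝒳) (y : FibCat.overCat U ⥤ᵇ 𝒴)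
    (hxy : φ.toEquiv U (IsoNat.objCls x) = IsoNat.objCls y)
    (hx : AlgSt.RepByAlgSpWith AlgSp.IsSurjectiveMor x) :
    AlgSt.RepByAlgSpWith AlgSp.IsSurjectiveMor y :=
  repByAlgSpWith_of_spanRep fun t => by
    obtain ⟨F, ⟨R⟩⟩ := exists_spanRep_of_diag h𝒴d y t
    exact ⟨F, R, surjective_of_fldSurj (FldSurj.transfer (cor_of_objCls hxy)
      (fldSurj_of_spanRep (fun _ s => exists_spanRep hx s))) R⟩

theorem repByAlgSpWith_mono {P Q : MorphismProperty (Sp S)} (h : P ≤ Q) {U : Over S}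
    {x : FibCat.overCat U ⥤ᵇ 𝒳} (hx : AlgSt.RepByAlgSpWith P x) : AlgSt.RepByAlgSpWith Q x := by
  intro V z
  obtain ⟨F, e, he, hP⟩ := hx V z
  exact ⟨F, e, he, h _ hP⟩

theorem repByAlgSpWith_lfp_of_smooth {U : Over S} {x : FibCat.overCat U ⥤ᵇ 𝒳}
    (hx : AlgSt.RepByAlgSpWith (LocP @Smooth) x) :
    AlgSt.RepByAlgSpWith (LocP @LocallyOfFinitePresentation) x :=
  repByAlgSpWith_mono (fun _ _ _ hf => locP_mono (fun _ _ g hg => by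
    have : Smooth g := hg
    infer_instance) hf) hx

/-- A chart of `𝒴` with a class corresponding to that of `x`. -/
theorem exists_chart (φ : IsoNat.FIso 𝒳 𝒴) {U : Over S} (x : FibCat.overCat U ⥤ᵇ 𝒳) :
    ∃ y : FibCat.overCat U ⥤ᵇ 𝒴, φ.toEquiv U (IsoNat.objCls x) = IsoNat.objCls y := by
  obtain ⟨t, ht⟩ := exists_cor' φ (objOf x)
  refine ⟨ofObj t, ?_⟩
  have h1 : IsoNat.objCls (ofObj t) = IsoNat.cls t := Cls.cls_eq_of_hom (objOfOfObj t)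
  rw [h1]
  exact ht

section Smooth

variable (h𝒴 : AlgSt.IsAlgStack Scheme.fppfPrecoverage 𝒴)
    (h𝒴d : AlgSt.RepByAlgSpWith (AlgSp.IsSeparatedMor ⊓ AlgSp.IsQuasiCompactMor)
      (FibCat.diag (FibCat.toSelf 𝒴)))
    (h𝒴i : AlgSt.RepByAlgSpWith (AlgSp.LocP @LocallyOfFinitePresentation)
      (FibCat.inertiaToBase (FibCat.toSelf 𝒴)))

include h𝒴 h𝒴d h𝒴i in
theorem smooth_chart' (φ : IsoNat.FIso 𝒳 𝒴) {U : Over S} (x : FibCat.overCat U ⥤ᵇ 𝒳)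
    (y : FibCat.overCat U ⥤ᵇ 𝒴) (hxy : φ.toEquiv U (IsoNat.objCls x) = IsoNat.objCls y)
    (hx : AlgSt.RepByAlgSpWith (AlgSp.LocP @Smooth) x) :
    AlgSt.RepByAlgSpWith (AlgSp.LocP @Smooth) y :=
  (smooth_chart (lfpLim S) h𝒴 h𝒴d h𝒴i φ x y hxy (repByAlgSpWith_lfp_of_smooth hx) hx).2

include h𝒴 h𝒴d h𝒴i in
/-- S15472 -/
theorem isQuasiCompact_of_fIso (φ : IsoNat.FIso 𝒳 𝒴) (h : AlgSt.IsQuasiCompact 𝒳) :
    AlgSt.IsQuasiCompact 𝒴 := by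
  obtain ⟨U, x, hU, hs, hsurj⟩ := h
  obtain ⟨y, hxy⟩ := exists_chart φ x
  exact ⟨U, y, hU, smooth_chart' h𝒴 h𝒴d h𝒴i φ x y hxy hs,
    repByAlgSpWith_surjective h𝒴.diag φ x y hxy hsurj⟩

end Smooth

/-- S15471 -/
theorem smoothLocally_of_fIso (h𝒳 : AlgSt.IsAlgStack Scheme.fppfPrecoverage 𝒳)
    (h𝒳d : AlgSt.RepByAlgSpWith (AlgSp.IsSeparatedMor ⊓ AlgSp.IsQuasiCompactMor)
      (FibCat.diag (FibCat.toSelf 𝒳)))
    (h𝒳i : AlgSt.RepByAlgSpWith (AlgSp.LocP @LocallyOfFinitePresentation)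
      (FibCat.inertiaToBase (FibCat.toSelf 𝒳))) (φ : IsoNat.FIso 𝒳 𝒴)
    (P : Scheme.{u} → Prop) (hP : AlgSt.SmoothLocally P 𝒳) : AlgSt.SmoothLocally P 𝒴 := by
  intro U y hy
  obtain ⟨x, hxy⟩ := exists_chart (Cls.symm φ) y
  exact hP U x (smooth_chart' h𝒳 h𝒳d h𝒳i (Cls.symm φ) y x hxy hy)

end K862
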